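import Groth.Agent.StkCntLib.GalPts
import Groth.Agent.SchTorsor.Props
import Groth.Agent.GrpSchLib.SmoothReduced
import Mathlib.RingTheory.Etale.Field
import Mathlib.AlgebraicGeometry.Morphisms.Etale
import Mathlib.AlgebraicGeometry.EffectiveEpi

/-!
Morphisms out of a scheme descended along an étale surjection from their values on points in an algebraic closure.
-/

set_option autoImplicit false
set_option backward.isDefEq.respectTransparency.types false
set_option linter.style.haveILetI false
set_option linter.unusedSectionVars false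

universe u

open CategoryTheory CategoryTheory.Limits MonoidalCategory CartesianMonoidalCategory AlgebraicGeometry

noncomputable section

namespace Groth.Agent.StkCntLib

variable {k : Type u} [Field k] {K : Type u} [Field K] [Algebra k K] [IsAlgClosed K] [Algebra.IsAlgebraic k K]

/-- Closed points carry points with values in the closure. -/
theorem exists_pts {Y : Over (Spec (CommRingCat.of k))} [LocallyOfFiniteType Y.hom] {y : Y.left}
    (hy : IsClosed ({y} : Set Y.left)) : ∃ s : SGA7.Pts K Y, s.left (IsLocalRing.closedPoint K) = y := by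
  let i : CommRingCat.of k ⟶ Y.left.residueField y := Spec.preimage (Y.left.fromSpecResidueField y ≫ Y.hom)
  have hi : Spec.map i = Y.left.fromSpecResidueField y ≫ Y.hom := Spec.map_preimage _
  letI := i.hom.toAlgebra
  haveI : Algebra.FiniteType k (Y.left.residueField y) := by
    haveI : IsClosedImmersion (Y.left.fromSpecResidueField y) := isClosed_singleton_iff_isClosedImmersion.1 hy
    have h : LocallyOfFiniteType (Spec.map i) := by rw [hi]; infer_instance
    exact (HasRingHomProperty.Spec_iff (P := @LocallyOfFiniteType)).1 h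
  haveI : Module.Finite k (Y.left.residueField y) := finite_of_finite_type_of_isJacobsonRing _ _
  let e : Y.left.residueField y →ₐ[k] K := IsAlgClosed.lift
  refine ⟨Over.homMk (Spec.map (CommRingCat.ofHom e.toRingHom) ≫ Y.left.fromSpecResidueField y) ?_, ?_⟩
  · rw [Category.assoc, ← hi, ← Spec.map_comp]
    exact congrArg Spec.map (CommRingCat.hom_ext e.comp_algebraMap)
  · show (Spec.map (CommRingCat.ofHom e.toRingHom) ≫ Y.left.fromSpecResidueField y) _ = y
    rw [Scheme.Hom.comp_apply, Scheme.fromSpecResidueField_apply]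

/-- Points of a finite subfield. -/
theorem exists_algHom_of_pt {L : Type u} [Field L] [Algebra k L] (s : SGA7.Pts K (SGA7.pt (K := k) L)) :
    ∃ e : L →ₐ[k] K, s = fldHom e := by
  obtain ⟨φ, hφ⟩ : ∃ φ : CommRingCat.of L ⟶ CommRingCat.of K, Spec.map φ = s.left := ⟨_, Spec.map_preimage _⟩
  have h : CommRingCat.ofHom (algebraMap k L) ≫ φ = CommRingCat.ofHom (algebraMap k K) := by
    apply Spec.map_injective
    rw [Spec.map_comp, hφ]
    exact Over.w s
  exact ⟨{ φ.hom with commutes' := fun c => congr($h c) }, Over.OverMorphism.ext hφ.symm⟩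

/-- Points lift along étale surjections. -/
theorem exists_lift_pts {W P : Over (Spec (CommRingCat.of k))} (c : W ⟶ P) [Surjective c.left] [LocallyOfFiniteType c.left]
    [LocallyOfFiniteType P.hom] (y : SGA7.Pts K P) : ∃ w : SGA7.Pts K W, w ≫ c = y := by
  let π := pullback.snd c.left y.left
  haveI : Nonempty (pullback c.left y.left : Scheme.{u}) := by
    obtain ⟨z, hz⟩ := c.left.surjective (y.left (IsLocalRing.closedPoint K))
    obtain ⟨t, -, -⟩ := Scheme.Pullback.exists_preimage_pullback (f := c.left) (g := y.left) z _ hz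
    exact ⟨t⟩
  haveI : LocallyOfFiniteType π := MorphismProperty.pullback_snd c.left y.left inferInstance
  haveI : JacobsonSpace (pullback c.left y.left : Scheme.{u}) :=
    LocallyOfFiniteType.jacobsonSpace (Y := Spec (CommRingCat.of K)) π
  obtain ⟨p, -, hp⟩ := nonempty_inter_closedPoints (X := (pullback c.left y.left : Scheme.{u})) (Z := Set.univ)
    Set.univ_nonempty isClosed_univ.isLocallyClosed
  obtain ⟨σ, hσ⟩ : ∃ σ : Spec (CommRingCat.of K) ⟶ pullback c.left y.left, σ ≫ π = 𝟙 _ := by
    let a := (pointEquivClosedPoint (K := K) (X := pullback c.left y.left) π).symm ⟨p, hp⟩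
    exact ⟨a.1, a.2⟩
  refine ⟨Over.homMk (σ ≫ pullback.fst c.left y.left) ?_, ?_⟩
  · rw [Category.assoc, ← Over.w c, pullback.condition_assoc, ← Category.assoc σ, hσ, Category.id_comp, Over.w y]
  · ext1
    show (σ ≫ _) ≫ c.left = y.left
    rw [Category.assoc, pullback.condition, ← Category.assoc, hσ, Category.id_comp]

omit [IsAlgClosed K] [Algebra.IsAlgebraic k K] in
theorem isReduced_of_smooth {X : Over (Spec (CommRingCat.of k))} [Smooth X.hom] : IsReduced X.left :=
  GrpSchLib.isReduced_of_smooth_field X.hom

/-- Descent of a morphism from its values on points. -/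
theorem exists_desc_pts {W P Z : Over (Spec (CommRingCat.of k))} (c : W ⟶ P) [Etale c.left] [Surjective c.left]
    [QuasiCompact c.left] [Smooth W.hom] (d : W ⟶ Z)
    (h : ∀ w w' : SGA7.Pts K W, w ≫ c = w' ≫ c → w ≫ d = w' ≫ d) : ∃ e : P ⟶ Z, c ≫ e = d := by
  let R : Over (Spec (CommRingCat.of k)) := Over.mk (pullback.fst c.left c.left ≫ W.hom)
  let r₁ : R ⟶ W := Over.homMk (pullback.fst c.left c.left) rfl
  let r₂ : R ⟶ W := Over.homMk (pullback.snd c.left c.left) (by
    show _ = pullback.fst c.left c.left ≫ W.hom
    rw [← Over.w c, pullback.condition_assoc])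
  haveI : Etale (pullback.fst c.left c.left) := MorphismProperty.pullback_fst c.left c.left inferInstance
  haveI : Smooth R.hom := inferInstanceAs (Smooth (pullback.fst c.left c.left ≫ W.hom))
  haveI : IsReduced R.left := isReduced_of_smooth
  have heq : r₁ ≫ d = r₂ ≫ d := hom_ext_pts (K := K) _ _ fun y => by
    rw [← Category.assoc, ← Category.assoc]
    refine h _ _ (Over.OverMorphism.ext ?_)
    simp only [Over.comp_left, r₁, r₂, Over.homMk_left, Category.assoc, pullback.condition]
  have hk : ∀ {T : Scheme.{u}} (g₁ g₂ : T ⟶ W.left), g₁ ≫ c.left = g₂ ≫ c.left → g₁ ≫ d.left = g₂ ≫ d.left :=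
    fun g₁ g₂ hg => by
      calc g₁ ≫ d.left = (pullback.lift g₁ g₂ hg ≫ pullback.fst c.left c.left) ≫ d.left := by rw [pullback.lift_fst]
        _ = pullback.lift g₁ g₂ hg ≫ pullback.snd c.left c.left ≫ d.left := by
            rw [Category.assoc]; exact congrArg (pullback.lift g₁ g₂ hg ≫ ·) (congrArg CommaMorphism.left heq)
        _ = g₂ ≫ d.left := pullback.lift_snd_assoc _ _ _ _
  refine ⟨Over.homMk (EffectiveEpi.desc c.left d.left hk) ?_, Over.OverMorphism.ext (EffectiveEpi.fac c.left d.left hk)⟩
  rw [← cancel_epi c.left, ← Category.assoc, EffectiveEpi.fac, Over.w c]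
  exact Over.w d

/-- The spectrum of a finite separable extension is étale. -/
instance etale_pt (L : Type u) [Field L] [Algebra k L] [FiniteDimensional k L] [Algebra.IsSeparable k L] :
    Etale (SGA7.pt (K := k) L).hom := by
  haveI : Algebra.FormallyEtale k L := Algebra.FormallyEtale.of_isSeparable k L
  haveI : Algebra.FinitePresentation k L := Algebra.FinitePresentation.of_finiteType.1 inferInstance
  haveI : Algebra.Etale k L := { }
  exact (HasRingHomProperty.Spec_iff (P := @Etale)).2
    (show (algebraMap k L).Etale from (RingHom.etale_algebraMap).2 inferInstance)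

instance surjective_pt (L : Type u) [Field L] [Algebra k L] : Surjective (SGA7.pt (K := k) L).hom :=
  ⟨fun _ => ⟨IsLocalRing.closedPoint L, Subsingleton.elim (α := Spec (CommRingCat.of k)) _ _⟩⟩

instance quasiCompact_pt (L : Type u) [Field L] [Algebra k L] : QuasiCompact (SGA7.pt (K := k) L).hom :=
  inferInstanceAs (QuasiCompact (Spec.map (CommRingCat.ofHom (algebraMap k L))))

end Groth.Agent.StkCntLib
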