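import Groth.Prelude.Def_GalTw
import Mathlib.AlgebraicGeometry.Morphisms.FiniteType
import Mathlib.AlgebraicGeometry.Morphisms.Immersion
import Mathlib.AlgebraicGeometry.Morphisms.QuasiCompact
import Mathlib.AlgebraicGeometry.Morphisms.Separated
import Mathlib.AlgebraicGeometry.Sites.Fpqc
import Mathlib.FieldTheory.Galois.Infinite
import Mathlib.FieldTheory.PurelyInseparable.Basic
import Mathlib.FieldTheory.Normal.Closure

/-!
Points of schemes locally of finite type over a field with values in an algebraic Galois extension: every point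
has values in a finite subextension, the points fixed by Galois are the rational ones.
-/

set_option autoImplicit false
set_option backward.isDefEq.respectTransparency.types false
set_option linter.style.haveILetI false
set_option linter.unusedSectionVars false

universe u

open CategoryTheory AlgebraicGeometry TopologicalSpace

noncomputable section

namespace Groth.Agent.StkCntLib

variable {k : Type u} [Field k] (K : Type u) [Field K] [Algebra k K]

/-- The map of points of a tower of fields. -/
def fldHom {L M : Type u} [Field L] [Algebra k L] [Field M] [Algebra k M] (f : L →ₐ[k] M) :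
    SGA7.pt (K := k) M ⟶ SGA7.pt (K := k) L :=
  Over.homMk (Spec.map (CommRingCat.ofHom f.toRingHom)) (by
    show Spec.map _ ≫ Spec.map _ = Spec.map _
    rw [← Spec.map_comp, ← CommRingCat.ofHom_comp]
    congr 2
    exact f.comp_algebraMap)

theorem fldHom_comp {L M N : Type u} [Field L] [Algebra k L] [Field M] [Algebra k M] [Field N] [Algebra k N]
    (f : L →ₐ[k] M) (g : M →ₐ[k] N) : fldHom g ≫ fldHom f = fldHom (g.comp f) := by
  ext1
  exact (Spec.map_comp _ _).symm

theorem specAut_eq_fldHom (σ : K ≃ₐ[k] K) : SGA7.specAut σ = fldHom (σ : K →ₐ[k] K) := rfl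

variable {K}

/-- Points factor through affine opens and algebra maps. -/
theorem exists_affine_factor' {X : Over (Spec (CommRingCat.of k))} (x : SGA7.Pts K X) :
    ∃ (U : X.left.Opens) (hU : IsAffineOpen U) (i : CommRingCat.of k ⟶ Γ(X.left, U)) (φ : Γ(X.left, U) ⟶ CommRingCat.of K),
      x.left = Spec.map φ ≫ hU.fromSpec ∧ Spec.map i = hU.fromSpec ≫ X.hom ∧
        i ≫ φ = CommRingCat.ofHom (algebraMap k K) := by
  obtain ⟨_, ⟨U', hU', rfl⟩, hx, -⟩ := X.left.isBasis_affineOpens.exists_subset_of_mem_open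
    (a := x.left (IsLocalRing.closedPoint K)) (by trivial) isOpen_univ
  let U : X.left.Opens := U'
  have hU : IsAffineOpen U := hU'
  have hr : Set.range x.left ⊆ Set.range hU.fromSpec := by
    rintro _ ⟨p, rfl⟩
    rw [hU.range_fromSpec, show p = IsLocalRing.closedPoint K from Subsingleton.elim (α := Spec (CommRingCat.of K)) _ _]
    exact hx
  let φ : Γ(X.left, U) ⟶ CommRingCat.of K := Spec.preimage (IsOpenImmersion.lift hU.fromSpec x.left hr)
  have hφ : Spec.map φ ≫ hU.fromSpec = x.left := by rw [Spec.map_preimage, IsOpenImmersion.lift_fac]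
  let i : CommRingCat.of k ⟶ Γ(X.left, U) := Spec.preimage (hU.fromSpec ≫ X.hom)
  have hi : Spec.map i = hU.fromSpec ≫ X.hom := Spec.map_preimage _
  refine ⟨U, hU, i, φ, hφ.symm, hi, Spec.map_injective ?_⟩
  rw [Spec.map_comp, hi, reassoc_of% hφ]
  exact Over.w x

/-- Points factor through affine opens and algebra maps of finite type. -/
theorem exists_affine_factor {X : Over (Spec (CommRingCat.of k))} [LocallyOfFiniteType X.hom] (x : SGA7.Pts K X) :
    ∃ (U : X.left.Opens) (hU : IsAffineOpen U) (i : CommRingCat.of k ⟶ Γ(X.left, U)) (φ : Γ(X.left, U) ⟶ CommRingCat.of K),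
      x.left = Spec.map φ ≫ hU.fromSpec ∧ Spec.map i = hU.fromSpec ≫ X.hom ∧ i.hom.FiniteType ∧
        i ≫ φ = CommRingCat.ofHom (algebraMap k K) := by
  obtain ⟨U, hU, i, φ, hx, hi, hc⟩ := exists_affine_factor' x
  refine ⟨U, hU, i, φ, hx, hi, ?_, hc⟩
  have h : LocallyOfFiniteType (Spec.map i) := by rw [hi]; infer_instance
  exact (HasRingHomProperty.Spec_iff (P := @LocallyOfFiniteType)).1 h

/-- Every point has values in a finite subextension. -/
theorem exists_level [Algebra.IsAlgebraic k K] {X : Over (Spec (CommRingCat.of k))} [LocallyOfFiniteType X.hom]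
    (x : SGA7.Pts K X) :
    ∃ F : IntermediateField k K, FiniteDimensional k F ∧
      ∀ F' : IntermediateField k K, F ≤ F' → ∃ y : SGA7.Pts F' X, fldHom F'.val ≫ y = x := by
  classical
  obtain ⟨U, hU, i, φ, hx, hi, hft, hc⟩ := exists_affine_factor x
  letI := i.hom.toAlgebra
  haveI : Algebra.FiniteType k Γ(X.left, U) := hft
  obtain ⟨s, hs⟩ := Algebra.FiniteType.out (R := k) (A := Γ(X.left, U))
  let φ' : Γ(X.left, U) →ₐ[k] K := { φ.hom with commutes' := fun c => congr($hc c) }
  refine ⟨IntermediateField.adjoin k ((s.image φ' : Finset K) : Set K),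
    IntermediateField.finiteDimensional_adjoin fun a _ => Algebra.IsIntegral.isIntegral a, fun F' hF' => ?_⟩
  have hle : φ'.range ≤ F'.toSubalgebra := by
    rw [← Algebra.map_top, ← hs, AlgHom.map_adjoin, Algebra.adjoin_le_iff]
    intro a ha
    exact hF' (IntermediateField.subset_adjoin k _ (by simpa using ha))
  let ψ : Γ(X.left, U) →ₐ[k] F' := φ'.codRestrict F'.toSubalgebra fun a => hle ⟨a, rfl⟩
  refine ⟨Over.homMk (Spec.map (CommRingCat.ofHom ψ.toRingHom) ≫ hU.fromSpec) ?_, ?_⟩
  · show (_ ≫ _) ≫ X.hom = Spec.map _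
    rw [Category.assoc, ← hi, ← Spec.map_comp]
    exact congrArg Spec.map (CommRingCat.hom_ext ψ.comp_algebraMap)
  · ext1
    show Spec.map _ ≫ Spec.map _ ≫ hU.fromSpec = _
    rw [hx, ← Category.assoc, ← Spec.map_comp]
    rfl

/-- An automorphism fixing a subfield fixes its points. -/
theorem smul_level {X : Over (Spec (CommRingCat.of k))} (F : IntermediateField k K) (y : SGA7.Pts F X)
    {σ : K ≃ₐ[k] K} (hσ : σ ∈ F.fixingSubgroup) : σ • (fldHom F.val ≫ y) = fldHom F.val ≫ y := by
  rw [GalTw.pts_smul_def, specAut_eq_fldHom, ← Category.assoc, fldHom_comp]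
  congr 2
  exact AlgHom.ext fun a => (IntermediateField.mem_fixingSubgroup_iff _ _).1 hσ _ a.2

/-- Stabilisers of points are open. -/
theorem isOpen_stabilizer [Algebra.IsAlgebraic k K] {X : Over (Spec (CommRingCat.of k))} [LocallyOfFiniteType X.hom]
    (x : SGA7.Pts K X) : IsOpen {σ : K ≃ₐ[k] K | σ • x = x} := by
  obtain ⟨F, hF, h⟩ := exists_level x
  obtain ⟨y, rfl⟩ := h F le_rfl
  show IsOpen ((MulAction.stabilizer (K ≃ₐ[k] K) (fldHom F.val ≫ y) : Subgroup _) : Set (K ≃ₐ[k] K))
  exact Subgroup.isOpen_mono (fun σ hσ => smul_level F y hσ) (IntermediateField.fixingSubgroup_isOpen F)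

/-- Points are determined over a subfield. -/
theorem fldHom_comp_injective {L M : Type u} [Field L] [Algebra k L] [Field M] [Algebra k M] (f : L →ₐ[k] M)
    {X : Over (Spec (CommRingCat.of k))} : Function.Injective fun y : SGA7.Pts L X => fldHom f ≫ y := by
  intro y y' h
  ext1
  haveI : Surjective (Spec.map (CommRingCat.ofHom f.toRingHom)) :=
    ⟨fun p => ⟨IsLocalRing.closedPoint M, Subsingleton.elim _ _⟩⟩
  letI : Algebra L M := f.toRingHom.toAlgebra
  haveI : Flat (Spec.map (CommRingCat.ofHom f.toRingHom)) :=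
    (HasRingHomProperty.Spec_iff (P := @Flat)).2 (inferInstance : Module.Flat L M)
  exact (cancel_epi (Spec.map (CommRingCat.ofHom f.toRingHom))).1 (congrArg CommaMorphism.left h)

/-- The trivial point of the base. -/
def ptSelf : SGA7.pt (K := k) K ⟶ SGA7.pt (K := k) k := fldHom (Algebra.ofId k K)

/-- The points fixed by Galois are rational. -/
theorem exists_rational [IsGalois k K] {X : Over (Spec (CommRingCat.of k))}
    (x : SGA7.Pts K X) (h : ∀ σ : K ≃ₐ[k] K, σ • x = x) : ∃ y : SGA7.Pts k X, ptSelf ≫ y = x := by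
  classical
  obtain ⟨U, hU, i, φ, hx, hi, hc⟩ := exists_affine_factor' x
  have hφ : ∀ (σ : K ≃ₐ[k] K) a, σ (φ.hom a) = φ.hom a := fun σ a => by
    have h1 : Spec.map (φ ≫ CommRingCat.ofHom (σ : K →+* K)) ≫ hU.fromSpec = Spec.map φ ≫ hU.fromSpec := by
      rw [Spec.map_comp, Category.assoc, ← hx]
      exact congrArg CommaMorphism.left (h σ)
    exact congr($(Spec.map_injective ((cancel_mono hU.fromSpec).1 h1)) a)
  have hmem : ∀ a, ∃ c : k, algebraMap k K c = φ.hom a := fun a =>
    (InfiniteGalois.mem_range_algebraMap_iff_fixed _).2 fun σ => hφ σ a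
  choose ψ hψ using hmem
  have hinj := (algebraMap k K).injective
  let ψ' : Γ(X.left, U) →+* k :=
    { toFun := ψ
      map_one' := hinj (by simp [hψ])
      map_mul' := fun a b => hinj (by simp [hψ])
      map_zero' := hinj (by simp [hψ])
      map_add' := fun a b => hinj (by simp [hψ]) }
  refine ⟨Over.homMk (Spec.map (CommRingCat.ofHom ψ') ≫ hU.fromSpec) ?_, ?_⟩
  · show (_ ≫ _) ≫ X.hom = Spec.map _
    rw [Category.assoc, ← hi, ← Spec.map_comp]
    refine congrArg Spec.map (CommRingCat.hom_ext (RingHom.ext fun c => hinj ?_))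
    show algebraMap k K (ψ (i.hom c)) = _
    rw [hψ]
    exact congr($hc c)
  · ext1
    show Spec.map _ ≫ Spec.map _ ≫ hU.fromSpec = _
    rw [hx, ← Category.assoc, ← Spec.map_comp]
    exact congrArg (fun f => Spec.map f ≫ hU.fromSpec) (CommRingCat.hom_ext (RingHom.ext hψ))

theorem smul_ptSelf {X : Over (Spec (CommRingCat.of k))} (σ : K ≃ₐ[k] K) (y : SGA7.Pts k X) :
    σ • (ptSelf (K := K) ≫ y) = ptSelf ≫ y := by
  rw [GalTw.pts_smul_def, specAut_eq_fldHom, ← Category.assoc, ptSelf, fldHom_comp]
  congr 2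
  exact AlgHom.ext fun c => σ.commutes c

/-- Rational points are the fixed points. -/
def ratEquiv [IsGalois k K] (X : Over (Spec (CommRingCat.of k))) :
    SGA7.Pts k X ≃ MulAction.fixedPoints (K ≃ₐ[k] K) (SGA7.Pts K X) :=
  Equiv.ofBijective (fun y => ⟨ptSelf ≫ y, fun σ => smul_ptSelf σ y⟩)
    ⟨fun y y' h => fldHom_comp_injective _ (congrArg Subtype.val h), fun x => by
      obtain ⟨y, hy⟩ := exists_rational x.1 x.2
      exact ⟨y, Subtype.ext hy⟩⟩

/-- A finite field has finitely many points in a scheme of finite type. -/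
theorem finite_pts [Finite K] {X : Over (Spec (CommRingCat.of k))} [LocallyOfFiniteType X.hom] [QuasiCompact X.hom] :
    Finite (SGA7.Pts K X) := by
  classical
  haveI : CompactSpace X.left := (quasiCompact_iff_compactSpace X.hom).mp inferInstance
  let 𝒰 := X.left.affineCover.finiteSubcover
  have hop : ∀ j : 𝒰.I₀, IsAffineOpen (𝒰.f j).opensRange := fun j => isAffineOpen_opensRange (𝒰.f j)
  let α := Σ j : 𝒰.I₀, {φ : Γ(X.left, (𝒰.f j).opensRange) ⟶ CommRingCat.of K //
    (Spec.map φ ≫ (hop j).fromSpec) ≫ X.hom = (SGA7.pt (K := k) K).hom}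
  haveI : ∀ j, Finite {φ : Γ(X.left, (𝒰.f j).opensRange) ⟶ CommRingCat.of K //
      (Spec.map φ ≫ (hop j).fromSpec) ≫ X.hom = (SGA7.pt (K := k) K).hom} := fun j => by
    let i : CommRingCat.of k ⟶ Γ(X.left, (𝒰.f j).opensRange) := Spec.preimage ((hop j).fromSpec ≫ X.hom)
    letI := i.hom.toAlgebra
    have h : LocallyOfFiniteType (Spec.map i) := by rw [Spec.map_preimage]; infer_instance
    haveI : Algebra.FiniteType k Γ(X.left, (𝒰.f j).opensRange) :=
      (HasRingHomProperty.Spec_iff (P := @LocallyOfFiniteType)).1 h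
    obtain ⟨s, hs⟩ := Algebra.FiniteType.out (R := k) (A := Γ(X.left, (𝒰.f j).opensRange))
    refine Finite.of_injective (fun φ (a : s) => φ.1.hom a.1) fun φ φ' hφ => Subtype.ext ?_
    have hc : ∀ (ψ : {φ : Γ(X.left, (𝒰.f j).opensRange) ⟶ CommRingCat.of K //
        (Spec.map φ ≫ (hop j).fromSpec) ≫ X.hom = (SGA7.pt (K := k) K).hom}) (c : k),
        ψ.1.hom (i.hom c) = algebraMap k K c := fun ψ c => by
      have h1 : Spec.map (i ≫ ψ.1) = Spec.map (CommRingCat.ofHom (algebraMap k K)) := by
        rw [Spec.map_comp, Spec.map_preimage, ← Category.assoc]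
        exact ψ.2
      exact congr($(Spec.map_injective h1) c)
    have := AlgHom.ext_of_adjoin_eq_top hs (φ₁ := ({ φ.1.hom with commutes' := hc φ } : _ →ₐ[k] K))
      (φ₂ := ({ φ'.1.hom with commutes' := hc φ' } : _ →ₐ[k] K)) fun a ha => congrFun hφ ⟨a, ha⟩
    exact CommRingCat.hom_ext (congrArg AlgHom.toRingHom this)
  haveI : Finite α := inferInstance
  refine Finite.of_surjective (fun a : α => (Over.homMk (Spec.map a.2.1 ≫ (hop a.1).fromSpec) a.2.2 : SGA7.Pts K X))
    fun x => ?_
  obtain ⟨j, hj⟩ : ∃ j, x.left (IsLocalRing.closedPoint K) ∈ (𝒰.f j).opensRange := ⟨_, 𝒰.covers _⟩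
  have hr : Set.range x.left ⊆ Set.range (hop j).fromSpec := by
    rintro _ ⟨p, rfl⟩
    rw [(hop j).range_fromSpec, show p = IsLocalRing.closedPoint K from Subsingleton.elim (α := Spec (CommRingCat.of K)) _ _]
    exact hj
  let φ : Γ(X.left, (𝒰.f j).opensRange) ⟶ CommRingCat.of K := Spec.preimage (IsOpenImmersion.lift _ x.left hr)
  have hφ : Spec.map φ ≫ (hop j).fromSpec = x.left := by rw [Spec.map_preimage, IsOpenImmersion.lift_fac]
  exact ⟨⟨j, φ, by rw [hφ]; exact Over.w x⟩, Over.OverMorphism.ext hφ⟩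

open MonObj in
/-- The points of a subfield form a subgroup, stable under Galois when the subfield is normal. -/
theorem exists_finite_stable [Finite k] [IsGalois k K] {G : Over (Spec (CommRingCat.of k))} [GrpObj G]
    [LocallyOfFiniteType G.hom] [QuasiCompact G.hom] (g : SGA7.Pts K G) :
    ∃ H : Subgroup (SGA7.Pts K G), (H : Set (SGA7.Pts K G)).Finite ∧ g ∈ H ∧
      ∀ (σ : K ≃ₐ[k] K) (x : SGA7.Pts K G), x ∈ H → σ • x ∈ H := by
  obtain ⟨F, hF, h⟩ := exists_level g
  let E := IntermediateField.normalClosure k F K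
  obtain ⟨y, hy⟩ := h E (IntermediateField.le_normalClosure F)
  haveI : Finite E := Module.finite_of_finite k
  haveI := finite_pts (k := k) (K := E) (X := G)
  let r : SGA7.Pts E G →* SGA7.Pts K G :=
    { toFun := fun y => fldHom E.val ≫ y
      map_one' := MonObj.comp_one _
      map_mul' := fun a b => MonObj.comp_mul _ _ _ }
  refine ⟨r.range, Set.finite_range _, ⟨y, hy⟩, ?_⟩
  rintro σ _ ⟨z, rfl⟩
  refine ⟨fldHom (σ.restrictNormal E : E →ₐ[k] E) ≫ z, ?_⟩
  show fldHom E.val ≫ fldHom _ ≫ z = σ • (fldHom E.val ≫ z)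
  rw [GalTw.pts_smul_def, specAut_eq_fldHom, ← Category.assoc, ← Category.assoc, fldHom_comp, fldHom_comp]
  congr 2
  exact AlgHom.ext fun a => AlgEquiv.restrictNormal_commutes σ E a

set_option maxHeartbeats 1000000 in
/-- Points detect morphisms from a reduced scheme. -/
theorem hom_ext_pts [IsAlgClosed K] [Algebra.IsAlgebraic k K] {Y Z : Over (Spec (CommRingCat.of k))}
    [IsReduced Y.left] [LocallyOfFiniteType Y.hom] (f g : Y ⟶ Z)
    (h : ∀ y : SGA7.Pts K Y, y ≫ f = y ≫ g) : f = g := by
  ext1
  haveI : JacobsonSpace Y.left := LocallyOfFiniteType.jacobsonSpace Y.hom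
  let m : Y.left ⟶ Limits.pullback.diagonalObj Z.hom :=
    Limits.pullback.lift f.left g.left ((Over.w f).trans (Over.w g).symm)
  let ι := Limits.pullback.fst m (Limits.pullback.diagonal Z.hom)
  haveI : IsImmersion ι := MorphismProperty.pullback_fst m _ inferInstance
  have hcl : closedPoints Y.left ⊆ Set.range ι := fun y hy => by
    let i : CommRingCat.of k ⟶ Y.left.residueField y := Spec.preimage (Y.left.fromSpecResidueField y ≫ Y.hom)
    have hi : Spec.map i = Y.left.fromSpecResidueField y ≫ Y.hom := Spec.map_preimage _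
    letI := i.hom.toAlgebra
    haveI : Algebra.FiniteType k (Y.left.residueField y) := by
      haveI : IsClosedImmersion (Y.left.fromSpecResidueField y) := isClosed_singleton_iff_isClosedImmersion.1 hy
      have h : LocallyOfFiniteType (Spec.map i) := by rw [hi]; infer_instance
      exact (HasRingHomProperty.Spec_iff (P := @LocallyOfFiniteType)).1 h
    haveI : Module.Finite k (Y.left.residueField y) := finite_of_finite_type_of_isJacobsonRing _ _
    let e : Y.left.residueField y →ₐ[k] K := IsAlgClosed.lift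
    let ψ : Y.left.residueField y ⟶ CommRingCat.of K := CommRingCat.ofHom e.toRingHom
    let w : Spec (CommRingCat.of K) ⟶ Y.left := Spec.map ψ ≫ Y.left.fromSpecResidueField y
    have hw : w ≫ Y.hom = (SGA7.pt (K := k) K).hom := by
      rw [Category.assoc, ← hi, ← Spec.map_comp]
      exact congrArg Spec.map (CommRingCat.hom_ext e.comp_algebraMap)
    have he : w ≫ f.left = w ≫ g.left :=
      congrArg CommaMorphism.left (h (Over.homMk w hw : SGA7.Pts K Y))
    have hm : w ≫ m = (w ≫ f.left) ≫ Limits.pullback.diagonal Z.hom := by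
      apply Limits.pullback.hom_ext
      · simp only [m, Category.assoc, Limits.pullback.lift_fst, Limits.pullback.diagonal_fst, Category.comp_id]
      · simp only [w, Category.assoc] at he
        simp only [m, w, Category.assoc, Limits.pullback.lift_snd, Limits.pullback.diagonal_snd, Category.comp_id, he]
    refine ⟨Limits.pullback.lift w (w ≫ f.left) hm (IsLocalRing.closedPoint K), ?_⟩
    rw [← Scheme.Hom.comp_apply, Limits.pullback.lift_fst, Scheme.Hom.comp_apply, Scheme.fromSpecResidueField_apply]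
  have hrange : Set.range ι = Set.univ := by
    obtain ⟨U, C, hU, hC, he⟩ := ι.isLocallyClosed_range
    refine Set.eq_univ_of_forall fun y => ?_
    rw [he]
    refine ⟨?_, ?_⟩ <;> by_contra hy
    · obtain ⟨p, hp, hp'⟩ := nonempty_inter_closedPoints (X := Y.left) (Z := Uᶜ) ⟨y, hy⟩ hU.isClosed_compl.isLocallyClosed
      exact hp (he ▸ hcl hp').1
    · obtain ⟨p, hp, hp'⟩ := nonempty_inter_closedPoints (X := Y.left) (Z := Cᶜ) ⟨y, hy⟩ hC.isOpen_compl.isLocallyClosed
      exact hp (he ▸ hcl hp').2
  haveI : Surjective ι := ⟨Set.range_eq_univ.1 hrange⟩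
  haveI : IsClosedImmersion ι := IsClosedImmersion.of_isPreimmersion ι (by rw [hrange]; exact isClosed_univ)
  haveI : IsIso ι := isIso_of_isClosedImmersion_of_surjective ι
  have hfac : m = (inv ι ≫ Limits.pullback.snd m _) ≫ Limits.pullback.diagonal Z.hom := by
    rw [Category.assoc, IsIso.eq_inv_comp]
    exact Limits.pullback.condition
  have h₁ := congrArg (· ≫ Limits.pullback.fst Z.hom Z.hom) hfac
  have h₂ := congrArg (· ≫ Limits.pullback.snd Z.hom Z.hom) hfac
  simp only [m, Category.assoc, Limits.pullback.lift_fst, Limits.pullback.lift_snd, Limits.pullback.diagonal_fst,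
    Limits.pullback.diagonal_snd] at h₁ h₂
  exact h₁.trans h₂.symm

end Groth.Agent.StkCntLib
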