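import Groth.Agent.StkCntLib.TorsPts
import Groth.Prelude.Def_AlgSt5
import Mathlib.AlgebraicGeometry.Sites.Etale
import Mathlib.CategoryTheory.FiberedCategory.Fiber

/-!
Objects of a quotient stack over a base with a section of the torsor, and over an algebraically closed field.
-/

set_option autoImplicit false
set_option backward.isDefEq.respectTransparency.types false
set_option linter.style.haveILetI false
set_option linter.unusedSectionVars false

universe u

open CategoryTheory CategoryTheory.Limits MonoidalCategory CartesianMonoidalCategory MonObj AlgebraicGeometry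

noncomputable section

namespace Groth.Agent.StkCntLib

variable {S : Scheme.{u}} {G X : Over S} [GrpObj G] {aX : AlgGrp.Action G X} {J : Precoverage Scheme.{u}}

/-- Points of a torsor differ by a point of the group. -/
theorem exists_div_cart (A : AlgSt.QuotObj J G aX) {T : Over S} (y t : T ⟶ A.P) (h : y ≫ A.π = t ≫ A.π) :
    ∃ g : T ⟶ G, lift g t ≫ A.act.act = y ∧ ∀ g' : T ⟶ G, lift g' t ≫ A.act.act = y → g' = g := by
  refine ⟨A.cart.lift y t h ≫ fst G A.P, ?_, fun g' hg' => ?_⟩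
  · have e : lift (A.cart.lift y t h ≫ fst G A.P) t = A.cart.lift y t h := by
      apply CartesianMonoidalCategory.hom_ext
      · simp
      · rw [lift_snd, A.cart.lift_snd]
    rw [e, A.cart.lift_fst]
  · have e : lift g' t = A.cart.lift y t h := A.cart.hom_ext
      (by rw [hg', A.cart.lift_fst]) (by rw [lift_snd, A.cart.lift_snd])
    rw [← e, lift_fst]

theorem act_π (A : AlgSt.QuotObj J G aX) : A.act.act ≫ A.π = snd G A.P ≫ A.π := A.cart.w

theorem act_mul (A : AlgSt.QuotObj J G aX) {T : Over S} (g h : T ⟶ G) (p : T ⟶ A.P) :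
    lift (g * h) p ≫ A.act.act = lift g (lift h p ≫ A.act.act) ≫ A.act.act := SchTorsor.act_assoc A.act g h p

theorem φ_pt (A : AlgSt.QuotObj J G aX) {T : Over S} (g : T ⟶ G) (p : T ⟶ A.P) :
    (lift g p ≫ A.act.act) ≫ A.φ = lift g (p ≫ A.φ) ≫ aX.act := by
  rw [Category.assoc, A.eqv, lift_whiskerLeft_assoc]

/-- A section trivialises a torsor. -/
def triv (A : AlgSt.QuotObj J G aX) (t : A.base ⟶ A.P) (ht : t ≫ A.π = 𝟙 _) : G ⊗ A.base ≅ A.P where
  hom := lift (fst G A.base) (snd G A.base ≫ t) ≫ A.act.act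
  inv := lift (A.cart.lift (𝟙 A.P) (A.π ≫ t) (by rw [Category.assoc, ht, Category.id_comp, Category.comp_id]) ≫ fst G A.P) A.π
  hom_inv_id := by
    have e : (lift (fst G A.base) (snd G A.base ≫ t) ≫ A.act.act) ≫ A.π = snd G A.base := by
      rw [Category.assoc, act_π, lift_snd_assoc, Category.assoc, ht, Category.comp_id]
    apply CartesianMonoidalCategory.hom_ext
    · rw [Category.assoc, lift_fst]
      have h1 : (lift (fst G A.base) (snd G A.base ≫ t) ≫ A.act.act) ≫
          A.cart.lift (𝟙 A.P) (A.π ≫ t) (by rw [Category.assoc, ht, Category.id_comp, Category.comp_id]) =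
          lift (fst G A.base) (snd G A.base ≫ t) := A.cart.hom_ext
        (by rw [Category.assoc, A.cart.lift_fst, Category.comp_id])
        (by rw [Category.assoc, A.cart.lift_snd, lift_snd, ← Category.assoc, e])
      rw [← Category.assoc, h1, lift_fst]
      exact (Category.id_comp _).symm
    · rw [Category.assoc, lift_snd, e, Category.id_comp]
  inv_hom_id := by
    rw [← Category.assoc, comp_lift, lift_fst, lift_snd_assoc]
    have h1 : lift (A.cart.lift (𝟙 A.P) (A.π ≫ t) (by rw [Category.assoc, ht, Category.id_comp, Category.comp_id]) ≫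
        fst G A.P) (A.π ≫ t) = A.cart.lift (𝟙 A.P) (A.π ≫ t) (by rw [Category.assoc, ht, Category.id_comp, Category.comp_id]) := by
      apply CartesianMonoidalCategory.hom_ext
      · simp
      · rw [lift_snd, A.cart.lift_snd]
    rw [h1, A.cart.lift_fst]

theorem triv_π (A : AlgSt.QuotObj J G aX) (t : A.base ⟶ A.P) (ht : t ≫ A.π = 𝟙 _) :
    (triv A t ht).hom ≫ A.π = snd G A.base := by
  show (lift _ _ ≫ A.act.act) ≫ A.π = _
  rw [Category.assoc, act_π, lift_snd_assoc, Category.assoc, ht, Category.comp_id]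

theorem triv_act (A : AlgSt.QuotObj J G aX) (t : A.base ⟶ A.P) (ht : t ≫ A.π = 𝟙 _) :
    (AlgSt.leftMul G A.base).act ≫ (triv A t ht).hom = (G ◁ (triv A t ht).hom) ≫ A.act.act := by
  show lift _ _ ≫ lift _ _ ≫ A.act.act = _
  rw [← Category.assoc, comp_lift, lift_fst, lift_snd_assoc, Category.assoc, act_mul]
  have e : G ◁ (triv A t ht).hom = lift (fst G (G ⊗ A.base)) (snd G (G ⊗ A.base) ≫ (triv A t ht).hom) := by
    apply CartesianMonoidalCategory.hom_ext <;> simp
  rw [e]
  show _ = lift _ (_ ≫ lift _ _ ≫ A.act.act) ≫ A.act.act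
  rw [← Category.assoc (snd G (G ⊗ A.base)) (lift _ _), comp_lift]

theorem triv_sec (A : AlgSt.QuotObj J G aX) (t : A.base ⟶ A.P) (ht : t ≫ A.π = 𝟙 _) :
    lift 1 (𝟙 A.base) ≫ (triv A t ht).hom = t := by
  show lift _ _ ≫ lift _ _ ≫ A.act.act = t
  rw [← Category.assoc, comp_lift, lift_fst, lift_snd_assoc, Category.id_comp, SchTorsor.one_act_pt]

theorem triv_φ (A : AlgSt.QuotObj J G aX) (t : A.base ⟶ A.P) (ht : t ≫ A.π = 𝟙 _) :
    (triv A t ht).hom ≫ A.φ = lift (fst G A.base) (snd G A.base ≫ t ≫ A.φ) ≫ aX.act := by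
  show (lift _ _ ≫ A.act.act) ≫ A.φ = _
  rw [φ_pt, Category.assoc]

/-- Right translation on a trivial torsor. -/
def rightMul {T : Over S} (g : T ⟶ G) : G ⊗ T ≅ G ⊗ T where
  hom := lift (fst G T * (snd G T ≫ g)) (snd G T)
  inv := lift (fst G T * (snd G T ≫ g)⁻¹) (snd G T)
  hom_inv_id := by
    apply CartesianMonoidalCategory.hom_ext
    · simp [MonObj.comp_mul, GrpObj.comp_inv]
    · simp
  inv_hom_id := by
    apply CartesianMonoidalCategory.hom_ext
    · simp [MonObj.comp_mul, GrpObj.comp_inv]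
    · simp

theorem leftMul_pt {T U : Over S} (g : U ⟶ G) (p : U ⟶ G ⊗ T) :
    lift g p ≫ (AlgSt.leftMul G T).act = lift (g * (p ≫ fst G T)) (p ≫ snd G T) := by
  show lift g p ≫ lift _ _ = _
  rw [comp_lift, MonObj.comp_mul, lift_fst, lift_snd_assoc, lift_snd_assoc]

/-- A morphism with prescribed image of a section. -/
theorem exists_hom_of_section (A B : AlgSt.QuotObj J G aX) (tA : A.base ⟶ A.P) (hA : tA ≫ A.π = 𝟙 _)
    (tB : B.base ⟶ B.P) (hB : tB ≫ B.π = 𝟙 _) (β : A.base ⟶ B.base) (g : A.base ⟶ G)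
    (h : lift g (β ≫ tB ≫ B.φ) ≫ aX.act = tA ≫ A.φ) :
    ∃ f : A ⟶ B, f.base = β := by
  let top : A.P ⟶ B.P := (triv A tA hA).inv ≫ (rightMul g).hom ≫ (G ◁ β) ≫ (triv B tB hB).hom
  have hm : ∀ {U : Over S} (w : U ⟶ G) (p : U ⟶ G ⊗ A.base),
      (lift w p ≫ (AlgSt.leftMul G A.base).act) ≫ (rightMul g).hom ≫ (G ◁ β) =
        lift w (p ≫ (rightMul g).hom ≫ (G ◁ β)) ≫ (AlgSt.leftMul G B.base).act := by
    intro U w p
    rw [leftMul_pt, leftMul_pt]
    apply CartesianMonoidalCategory.hom_ext <;>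
      simp [rightMul, MonObj.comp_mul, _root_.mul_assoc]
  have heqv : A.act.act ≫ top = (G ◁ top) ≫ B.act.act := by
    rw [← cancel_epi (G ◁ (triv A tA hA).hom), ← Category.assoc, ← triv_act, ← MonoidalCategory.whiskerLeft_comp_assoc,
      Category.assoc]
    simp only [top, Iso.hom_inv_id_assoc]
    have h1 := hm (fst G (G ⊗ A.base)) (snd G (G ⊗ A.base))
    rw [lift_fst_snd, Category.id_comp] at h1
    rw [reassoc_of% h1, triv_act, lift_whiskerLeft_assoc]
    have e : G ◁ ((rightMul g).hom ≫ (G ◁ β) ≫ (triv B tB hB).hom) = lift (fst G (G ⊗ A.base))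
        (snd G (G ⊗ A.base) ≫ (rightMul g).hom ≫ (G ◁ β) ≫ (triv B tB hB).hom) := by
      apply CartesianMonoidalCategory.hom_ext <;> simp
    rw [e]
    simp only [Category.assoc]
  have hsq : IsPullback top A.π B.π β := by
    refine (AlgSt.isPullback_whiskerLeft (G := G) β).of_iso ((rightMul g).symm ≪≫ triv A tA hA) (triv B tB hB)
      (Iso.refl _) (Iso.refl _) ?_ ?_ ?_ ?_
    · simp [top]
    · rw [Iso.trans_hom, Category.assoc, triv_π, Iso.refl_hom, Category.comp_id]
      simp [rightMul]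
    · rw [triv_π, Iso.refl_hom, Category.comp_id]
    · simp
  refine ⟨⟨β, top, heqv, hsq, ?_⟩, rfl⟩
  rw [← cancel_epi (triv A tA hA).hom, triv_φ]
  simp only [top, Category.assoc, Iso.hom_inv_id_assoc]
  rw [triv_φ, ← h]
  simp only [rightMul, ← Category.assoc, comp_lift, lift_fst, lift_snd, whiskerLeft_fst, whiskerLeft_snd]
  simp only [Category.assoc, lift_fst, lift_fst_assoc, lift_snd_assoc, whiskerLeft_snd_assoc]
  rw [SchTorsor.act_assoc]

/-- A morphism determines the orbit relation of the sections. -/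
theorem orbit_of_hom {A B : AlgSt.QuotObj J G aX} (f : A ⟶ B) (tA : A.base ⟶ A.P) (hA : tA ≫ A.π = 𝟙 _)
    (tB : B.base ⟶ B.P) (hB : tB ≫ B.π = 𝟙 _) :
    ∃ g : A.base ⟶ G, lift g (f.base ≫ tB ≫ B.φ) ≫ aX.act = tA ≫ A.φ := by
  obtain ⟨g, hg, -⟩ := exists_div_cart B (tA ≫ f.top) (f.base ≫ tB) (by
    rw [Category.assoc, f.cart.w, ← Category.assoc, hA, Category.id_comp, Category.assoc, hB, Category.comp_id])
  refine ⟨g, ?_⟩
  rw [← f.wφ, ← Category.assoc tA, ← hg, φ_pt, Category.assoc]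

/-- Morphisms over the identity of the base are isomorphisms in the fibre. -/
theorem fib_isIso {T : Over S} {A B : (AlgSt.QuotObj.forget J G aX).Fiber T} (f : A ⟶ B) : IsIso f := by
  haveI : (AlgSt.QuotObj.forget J G aX).IsHomLift (𝟙 T) f.1 := f.2
  have hA : A.1.base = T := A.2
  have hB : B.1.base = T := B.2
  have hb : f.1.base = eqToHom hA ≫ 𝟙 T ≫ eqToHom hB.symm :=
    IsHomLift.fac' (AlgSt.QuotObj.forget J G aX) (𝟙 T) f.1
  haveI : IsIso f.1.base := by rw [hb]; infer_instance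
  haveI : IsIso f.1.top := MorphismProperty.of_isPullback (P := MorphismProperty.isomorphisms (Over S)) f.1.cart.flip
    (show IsIso f.1.base from inferInstance)
  let g : B.1 ⟶ A.1 :=
    { base := inv f.1.base
      top := inv f.1.top
      eqv := by
        rw [IsIso.comp_inv_eq, Category.assoc, f.1.eqv, ← MonoidalCategory.whiskerLeft_comp_assoc, IsIso.inv_hom_id,
          MonoidalCategory.whiskerLeft_id, Category.id_comp]
      cart := IsPullback.of_horiz_isIso ⟨by
        rw [IsIso.inv_comp_eq, ← Category.assoc, IsIso.eq_comp_inv, f.1.cart.w]⟩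
      wφ := by rw [IsIso.inv_comp_eq, f.1.wφ] }
  have hg : (AlgSt.QuotObj.forget J G aX).IsHomLift (𝟙 T) g :=
    IsHomLift.of_fac' _ _ _ B.2 A.2 (by
      show inv f.1.base = _
      apply IsIso.inv_eq_of_hom_inv_id
      rw [hb]
      simp only [Category.id_comp, Category.assoc, eqToHom_trans, eqToHom_trans_assoc]
      exact (eqToHom_trans _ _).trans (eqToHom_refl _ rfl))
  exact ⟨⟨g, hg⟩, Subtype.ext (AlgSt.QuotObj.hom_ext (IsIso.hom_inv_id f.1.base) (IsIso.hom_inv_id f.1.top)),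
    Subtype.ext (AlgSt.QuotObj.hom_ext (IsIso.inv_hom_id f.1.base) (IsIso.inv_hom_id f.1.top))⟩

/-- Over an algebraically closed field torsors have sections. -/
theorem exists_section {K : Type u} [Field K] [IsAlgClosed K]
    {G X : Over S} [GrpObj G] {aX : AlgGrp.Action G X} (A : AlgSt.QuotObj Scheme.etalePrecoverage G aX)
    (b : A.base.left ≅ Spec (CommRingCat.of K)) : ∃ t : A.base ⟶ A.P, t ≫ A.π = 𝟙 _ := by
  obtain ⟨R, hR, hsec⟩ := A.loc
  obtain ⟨J, U, u, rfl⟩ := R.exists_eq_ofArrows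
  obtain ⟨hcov, het⟩ := (Scheme.ofArrows_mem_precoverage_iff (P := @Etale)).1 hR
  obtain ⟨i, z, -⟩ := hcov (b.inv (IsLocalRing.closedPoint K))
  obtain ⟨s, hs⟩ := hsec (u i) (.mk i)
  haveI : Etale (u i) := het i
  let π := u i ≫ b.hom
  haveI : JacobsonSpace (U i) := LocallyOfFiniteType.jacobsonSpace π
  obtain ⟨p, -, hp⟩ := nonempty_inter_closedPoints (X := (U i : Scheme.{u})) (Z := Set.univ)
    ⟨z, trivial⟩ isClosed_univ.isLocallyClosed
  let σ := ((pointEquivClosedPoint (K := K) (X := U i) π).symm ⟨p, hp⟩)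
  have hσ : (b.hom ≫ σ.1) ≫ u i = 𝟙 _ := by
    rw [← cancel_mono b.hom, Category.id_comp]
    simp only [Category.assoc]
    rw [show σ.1 ≫ u i ≫ b.hom = 𝟙 _ from σ.2, Category.comp_id]
  refine ⟨Over.homMk (b.hom ≫ σ.1 ≫ s) ?_, Over.OverMorphism.ext ?_⟩
  · rw [← Over.w A.π]
    simp only [Category.assoc]
    rw [show s ≫ A.π.left ≫ A.base.hom = u i ≫ A.base.hom by rw [← Category.assoc]; exact congrArg (· ≫ A.base.hom) hs,
      ← Category.assoc, ← Category.assoc, hσ, Category.id_comp]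
  · show (b.hom ≫ σ.1 ≫ s) ≫ A.π.left = 𝟙 _
    rw [Category.assoc, Category.assoc, show s ≫ A.π.left = u i from hs, ← Category.assoc, hσ]

end Groth.Agent.StkCntLib
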