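import Groth.Prelude.Def_AlgSt5
import Groth.Prelude.Def_StkCnt
import Groth.Prelude.Def_ActBC
import Groth.Agent.SchTorsor.Props
import Groth.Agent.StkCntLib.FibreAlg
import Mathlib.CategoryTheory.Limits.Constructions.Over.Connected

/-!
Objects of a quotient stack over an extension of the base as objects of the quotient stack of the base change.
-/

set_option autoImplicit false
set_option backward.isDefEq.respectTransparency.types false
set_option linter.style.haveILetI false
set_option linter.unusedSectionVars false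

universe u

open CategoryTheory CategoryTheory.Limits MonoidalCategory CartesianMonoidalCategory MonObj AlgebraicGeometry

noncomputable section

namespace Groth.Agent.StkCntLib.Transfer

variable {S S' : Scheme.{u}} (f : S' ⟶ S) (G : Over S) [GrpObj G]

/-- The group component of a point. -/
abbrev gDn {U : Over S'} (g : U ⟶ Red.bc f G) : (Over.map f).obj U ⟶ G :=
  ((Over.mapPullbackAdj f).homEquiv U G).symm g

variable {G}

theorem gDn_mul {U : Over S'} (g h : U ⟶ Red.bc f G) : gDn f G (g * h) = gDn f G g * gDn f G h := by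
  apply ((Over.mapPullbackAdj f).homEquiv U G).injective
  rw [AlgGrp.Action.homEquiv_mul]
  simp only [gDn, Equiv.apply_symm_apply]

theorem gDn_one (U : Over S') : gDn f G (1 : U ⟶ Red.bc f G) = 1 := by
  have h := gDn_mul f (G := G) (1 : U ⟶ Red.bc f G) 1
  rw [_root_.mul_one] at h
  exact left_eq_mul.1 h

theorem gDn_natural {U V : Over S'} (s : V ⟶ U) (g : U ⟶ Red.bc f G) :
    gDn f G (s ≫ g) = (Over.map f).map s ≫ gDn f G g :=
  (Over.mapPullbackAdj f).homEquiv_naturality_left_symm s g

theorem map_inj {U V : Over S'} {a b : U ⟶ V} (h : (Over.map f).map a = (Over.map f).map b) : a = b :=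
  Over.OverMorphism.ext (congrArg CommaMorphism.left h :)

variable (G)

/-- The projection formula. -/
def kappa (Y : Over S') : (Over.map f).obj (Red.bc f G ⊗ Y) ≅ G ⊗ (Over.map f).obj Y where
  hom := lift (gDn f G (fst _ _)) ((Over.map f).map (snd _ _))
  inv := Over.homMk
    (pullback.lift (f := (Red.bc f G).hom) (g := Y.hom)
      (pullback.lift (pullback.fst G.hom (Y.hom ≫ f)) (pullback.snd G.hom (Y.hom ≫ f) ≫ Y.hom)
        (by rw [Category.assoc]; exact pullback.condition))
      (pullback.snd G.hom (Y.hom ≫ f))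
      (pullback.lift_snd _ _ _))
    (by
      show pullback.lift _ _ _ ≫ (pullback.fst (pullback.snd G.hom f) Y.hom ≫ pullback.snd G.hom f) ≫ f =
        pullback.fst G.hom (Y.hom ≫ f) ≫ G.hom
      simp only [Category.assoc, pullback.lift_fst_assoc, pullback.lift_snd_assoc]
      exact pullback.condition.symm)
  hom_inv_id := by
    ext1
    apply pullback.hom_ext
    · apply pullback.hom_ext
      · simp [gDn, Over.mapPullbackAdj]
        erw [pullback.lift_fst_assoc, pullback.lift_fst, pullback.lift_fst]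
      · simp [gDn, Over.mapPullbackAdj]
        erw [pullback.lift_fst_assoc, pullback.lift_snd, pullback.lift_snd_assoc]
        exact pullback.condition.symm
    · simp [gDn, Over.mapPullbackAdj]
      erw [pullback.lift_snd, pullback.lift_snd]
  inv_hom_id := by
    apply CartesianMonoidalCategory.hom_ext <;> ext1
    · simp [gDn, Over.mapPullbackAdj]
      erw [pullback.lift_fst_assoc, pullback.lift_fst]
    · simp [gDn, Over.mapPullbackAdj]
      erw [pullback.lift_snd]

variable {G}

theorem lift_kappa {U Y : Over S'} (g : U ⟶ Red.bc f G) (y : U ⟶ Y) :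
    (Over.map f).map (lift g y) ≫ (kappa f G Y).hom = lift (gDn f G g) ((Over.map f).map y) := by
  apply CartesianMonoidalCategory.hom_ext
  · rw [Category.assoc, lift_fst]
    show (Over.map f).map (lift g y) ≫ lift _ _ ≫ fst _ _ = _
    rw [lift_fst, ← gDn_natural, lift_fst]
  · rw [Category.assoc, lift_snd]
    show (Over.map f).map (lift g y) ≫ lift _ _ ≫ snd _ _ = _
    rw [lift_snd, ← Functor.map_comp, lift_snd]

/-- An object over the image of an object comes from the larger base. -/
theorem exists_over {T : Over S} {Y : Over S'} (h : T ⟶ (Over.map f).obj Y) :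
    ∃ (T'' : Over S') (e : (Over.map f).obj T'' ⟶ T) (h'' : T'' ⟶ Y), IsIso e ∧ e ≫ h = (Over.map f).map h'' := by
  let e : (Over.map f).obj (Over.mk (h.left ≫ Y.hom)) ≅ T := Over.isoMk (Iso.refl T.left) (by
    show 𝟙 _ ≫ T.hom = (h.left ≫ Y.hom) ≫ f
    rw [Category.id_comp, Category.assoc]
    exact (Over.w h).symm)
  refine ⟨Over.mk (h.left ≫ Y.hom), e.hom, Over.homMk h.left rfl, inferInstance, ?_⟩
  · ext1
    exact Category.id_comp h.left

theorem exists_pt {U : Over S'} (g : (Over.map f).obj U ⟶ G) : ∃ g' : U ⟶ Red.bc f G, gDn f G g' = g :=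
  ⟨(Over.mapPullbackAdj f).homEquiv U G g, Equiv.symm_apply_apply _ _⟩

/-- An action of the base change as an action over the base. -/
def dnAct {Y : Over S'} (a : AlgGrp.Action (Red.bc f G) Y) : AlgGrp.Action G ((Over.map f).obj Y) :=
  haveI pts : ∀ {U : Over S'} (g : U ⟶ Red.bc f G) (y : U ⟶ Y),
      lift (gDn f G g) ((Over.map f).map y) ≫ (kappa f G Y).inv ≫ (Over.map f).map a.act = (Over.map f).map (lift g y ≫ a.act) := fun g y => by
    rw [← lift_kappa, Category.assoc, Iso.hom_inv_id_assoc, Functor.map_comp]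
  haveI one : ∀ {T : Over S} (p : T ⟶ (Over.map f).obj Y),
      lift (1 : T ⟶ G) p ≫ (kappa f G Y).inv ≫ (Over.map f).map a.act = p := fun {T} p => by
    obtain ⟨T'', e, p', he, hp⟩ := exists_over f p
    rw [← cancel_epi e, ← Category.assoc, comp_lift, MonObj.comp_one, hp, ← gDn_one, pts,
      SchTorsor.one_act_pt]
  haveI mul : ∀ {T : Over S} (g h : T ⟶ G) (p : T ⟶ (Over.map f).obj Y),
      lift (g * h) p ≫ (kappa f G Y).inv ≫ (Over.map f).map a.act =
        lift g (lift h p ≫ (kappa f G Y).inv ≫ (Over.map f).map a.act) ≫ (kappa f G Y).inv ≫ (Over.map f).map a.act := fun {T} g h p => by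
    obtain ⟨T'', e, p', he, hp⟩ := exists_over f p
    obtain ⟨g', hg⟩ := exists_pt f (e ≫ g)
    obtain ⟨h', hh⟩ := exists_pt f (e ≫ h)
    rw [← cancel_epi e]
    simp only [← Category.assoc e, comp_lift, MonObj.comp_mul]
    rw [hp, ← hg, ← hh, ← gDn_mul, pts, SchTorsor.act_assoc]
    rw [pts, pts]
  { act := (kappa f G Y).inv ≫ (Over.map f).map a.act
    one_act := by
      have h := one (snd (𝟙_ (Over S)) ((Over.map f).obj Y))
      rw [leftUnitor_hom]
      refine Eq.trans ?_ h
      congr 1
    mul_act := by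
      have h := mul (fst _ _ ≫ fst G G) (fst _ _ ≫ snd G G) (snd (G ⊗ G) ((Over.map f).obj Y))
      have e1 : μ[G] ▷ ((Over.map f).obj Y) = lift ((fst _ _ ≫ fst G G) * (fst _ _ ≫ snd G G)) (snd (G ⊗ G) ((Over.map f).obj Y)) := by
        apply CartesianMonoidalCategory.hom_ext
        · rw [whiskerRight_fst, lift_fst, Hom.mul_def, ← comp_lift_assoc, lift_fst_snd, Category.id_comp]
        · rw [whiskerRight_snd, lift_snd]
      rw [e1]
      refine h.trans ?_
      rw [← Category.assoc (α_ G G _).hom]
      congr 1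
      apply CartesianMonoidalCategory.hom_ext
      · simp
      · rw [lift_snd, Category.assoc, whiskerLeft_snd, ← Category.assoc ((α_ G G _).hom)]
        congr 1
        apply CartesianMonoidalCategory.hom_ext <;> simp }

theorem dnAct_act {Y : Over S'} (a : AlgGrp.Action (Red.bc f G) Y) :
    (dnAct f a).act = (kappa f G Y).inv ≫ (Over.map f).map a.act := rfl

theorem dnAct_pt {U Y : Over S'} (a : AlgGrp.Action (Red.bc f G) Y) (g : U ⟶ Red.bc f G) (y : U ⟶ Y) :
    lift (gDn f G g) ((Over.map f).map y) ≫ (dnAct f a).act = (Over.map f).map (lift g y ≫ a.act) := by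
  rw [dnAct_act, ← lift_kappa, Category.assoc, Iso.hom_inv_id_assoc, Functor.map_comp]

/-- An action over the base on a scheme over the extension, with invariant structure morphism. -/
def upAct {P : Over S} (a : AlgGrp.Action G P) (Y : Over S') (e : (Over.map f).obj Y ≅ P)
    (w : (kappa f G Y).hom.left ≫ ((G ◁ e.hom) ≫ a.act ≫ e.inv).left ≫ Y.hom = (Red.bc f G ⊗ Y).hom) :
    AlgGrp.Action (Red.bc f G) Y :=
  let act : Red.bc f G ⊗ Y ⟶ Y :=
    Over.homMk ((kappa f G Y).hom.left ≫ ((G ◁ e.hom) ≫ a.act ≫ e.inv).left) (by rw [Category.assoc]; exact w)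
  haveI hM : (Over.map f).map act = (kappa f G Y).hom ≫ (G ◁ e.hom) ≫ a.act ≫ e.inv := rfl
  haveI pts : ∀ {U : Over S'} (g : U ⟶ Red.bc f G) (y : U ⟶ Y),
      (Over.map f).map (lift g y ≫ act) ≫ e.hom = lift (gDn f G g) ((Over.map f).map y ≫ e.hom) ≫ a.act := fun g y => by
    rw [Functor.map_comp, hM, ← Category.assoc ((Over.map f).map (lift g y)), lift_kappa, Category.assoc, Category.assoc,
      Category.assoc, e.inv_hom_id, Category.comp_id, lift_whiskerLeft_assoc]
  { act := act
    one_act := by
      apply map_inj f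
      rw [← cancel_mono e.hom]
      have e1 : η[Red.bc f G] ▷ Y = lift (1 : 𝟙_ (Over S') ⊗ Y ⟶ Red.bc f G) (snd _ Y) := by
        apply CartesianMonoidalCategory.hom_ext
        · rw [whiskerRight_fst, lift_fst, toUnit_unique (fst _ _) (toUnit _), ← Hom.one_def]
        · rw [whiskerRight_snd, lift_snd]
      rw [e1, pts, gDn_one, SchTorsor.one_act_pt, leftUnitor_hom]
    mul_act := by
      apply map_inj f
      rw [← cancel_mono e.hom]
      have e1 : μ[Red.bc f G] ▷ Y = lift ((fst _ _ ≫ fst _ _) * (fst _ _ ≫ snd _ _)) (snd (Red.bc f G ⊗ Red.bc f G) Y) := by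
        apply CartesianMonoidalCategory.hom_ext
        · rw [whiskerRight_fst, lift_fst, Hom.mul_def, ← comp_lift_assoc, lift_fst_snd, Category.id_comp]
        · rw [whiskerRight_snd, lift_snd]
      have e2 : (α_ (Red.bc f G) (Red.bc f G) Y).hom ≫ (Red.bc f G ◁ act) ≫ act =
          lift (fst _ _ ≫ fst _ _) (lift (fst _ _ ≫ snd _ _) (snd (Red.bc f G ⊗ Red.bc f G) Y) ≫ act) ≫ act := by
        rw [← Category.assoc]
        congr 1
        apply CartesianMonoidalCategory.hom_ext
        · simp
        · rw [lift_snd, Category.assoc, whiskerLeft_snd, ← Category.assoc]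
          congr 1
          apply CartesianMonoidalCategory.hom_ext <;> simp
      rw [e1, e2, pts, pts, pts, gDn_mul, SchTorsor.act_assoc] }

theorem upAct_map {P : Over S} (a : AlgGrp.Action G P) (Y : Over S') (e : (Over.map f).obj Y ≅ P) (w) :
    (Over.map f).map (upAct f a Y e w).act ≫ e.hom = (kappa f G Y).hom ≫ (G ◁ e.hom) ≫ a.act := by
  show ((kappa f G Y).hom ≫ (G ◁ e.hom) ≫ a.act ≫ e.inv) ≫ e.hom = _
  simp

theorem isPullback_map {A B C D : Over S'} {a : A ⟶ B} {b : A ⟶ C} {c : B ⟶ D} {d : C ⟶ D}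
    (h : IsPullback a b c d) : IsPullback ((Over.map f).map a) ((Over.map f).map b) ((Over.map f).map c) ((Over.map f).map d) :=
  IsPullback.of_map (Over.forget S) (by
    rw [← Functor.map_comp, ← Functor.map_comp, h.w]) (h.map (Over.forget S'))

theorem isPullback_of_map {A B C D : Over S'} {a : A ⟶ B} {b : A ⟶ C} {c : B ⟶ D} {d : C ⟶ D}
    (h : IsPullback ((Over.map f).map a) ((Over.map f).map b) ((Over.map f).map c) ((Over.map f).map d)) : IsPullback a b c d :=
  IsPullback.of_map (Over.forget S') (map_inj f (by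
    rw [Functor.map_comp, Functor.map_comp, h.w])) (h.map (Over.forget S))

theorem kappa_snd (Y : Over S') : (kappa f G Y).hom ≫ snd G ((Over.map f).obj Y) = (Over.map f).map (snd (Red.bc f G) Y) :=
  lift_snd _ _

theorem kappa_natural {Y Z : Over S'} (t : Y ⟶ Z) :
    (Over.map f).map (Red.bc f G ◁ t) ≫ (kappa f G Z).hom = (kappa f G Y).hom ≫ (G ◁ (Over.map f).map t) := by
  have e : Red.bc f G ◁ t = lift (fst _ Y) (snd _ Y ≫ t) := by
    apply CartesianMonoidalCategory.hom_ext <;> simp
  rw [e, lift_kappa]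
  simp only [kappa, lift_whiskerLeft, Functor.map_comp]

/-- Local triviality transported along an isomorphism of the bases. -/
theorem locTriv_iso {B B' P P' : Scheme.{u}} {q : P ⟶ B} {q' : P' ⟶ B'} (e : B ≅ B') (d : P ⟶ P')
    (w : d ≫ q' = q ≫ e.hom) (h : NonAbH1.IsLocallyTrivialFor Scheme.etalePrecoverage (Over.mk q)) :
    NonAbH1.IsLocallyTrivialFor Scheme.etalePrecoverage (Over.mk q') := by
  obtain ⟨R, hR, hsec⟩ := h
  obtain ⟨I, U, u, rfl⟩ := R.exists_eq_ofArrows
  obtain ⟨hcov, het⟩ := (Scheme.ofArrows_mem_precoverage_iff (P := @Etale)).1 hR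
  refine ⟨Presieve.ofArrows U fun i => u i ≫ e.hom,
    (Scheme.ofArrows_mem_precoverage_iff (P := @Etale)).2 ⟨fun x => ?_, fun i => ?_⟩, ?_⟩
  · obtain ⟨i, z, hz⟩ := hcov (e.inv x)
    refine ⟨i, z, ?_⟩
    show (u i ≫ e.hom) z = x
    rw [Scheme.Hom.comp_apply, hz, ← Scheme.Hom.comp_apply, e.inv_hom_id]
    rfl
  · haveI : Etale (u i) := het i
    exact inferInstanceAs (Etale (u i ≫ e.hom))
  · rintro S' g ⟨i⟩
    obtain ⟨s, hs⟩ := hsec (u i) (.mk i)
    refine ⟨s ≫ d, ?_⟩
    show (s ≫ d) ≫ q' = u i ≫ e.hom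
    rw [Category.assoc, w, ← Category.assoc]
    exact congrArg (· ≫ e.hom) hs

section Functor

set_option backward.isDefEq.respectTransparency false

variable {X : Over S} (aX : AlgGrp.Action G X) {T' : Over S'} {T : Over S}
  (j : (Over.map f).obj T' ≅ T)

local notation "J₀" => Scheme.etalePrecoverage

/-- The equivariant map of an object, over the base. -/
theorem dn_eqv {Y : Over S'} {a : AlgGrp.Action (Red.bc f G) Y} {φ : Y ⟶ Red.bc f X}
    (h : a.act ≫ φ = (Red.bc f G ◁ φ) ≫ (aX.bc f).act) :
    (dnAct f a).act ≫ ((Over.mapPullbackAdj f).homEquiv Y X).symm φ =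
      (G ◁ ((Over.mapPullbackAdj f).homEquiv Y X).symm φ) ≫ aX.act := by
  rw [dnAct_act, Category.assoc, Iso.inv_comp_eq, ← Category.assoc]
  have h1 : (kappa f G Y).hom ≫ (G ◁ ((Over.mapPullbackAdj f).homEquiv Y X).symm φ) =
      lift (gDn f G (fst _ _)) (((Over.mapPullbackAdj f).homEquiv _ X).symm (snd _ Y ≫ φ)) := by
    rw [Adjunction.homEquiv_naturality_left_symm]
    simp only [kappa]
    rw [lift_whiskerLeft]
  rw [h1, ← Adjunction.homEquiv_naturality_left_symm, h, Equiv.symm_apply_eq,
    ← AlgGrp.Action.lift_homEquiv_bc_act]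
  simp only [gDn, Equiv.apply_symm_apply]
  congr 1

/-- The object over the base of an object over the extension. -/
def dnObj (A : (AlgSt.QuotObj.forget J₀ (Red.bc f G) (aX.bc f)).Fiber T') :
    (AlgSt.QuotObj.forget J₀ G aX).Fiber T :=
  ⟨{ base := T
     P := (Over.map f).obj A.1.P
     act := dnAct f A.1.act
     π := (Over.map f).map (A.1.π ≫ eqToHom A.2) ≫ j.hom
     cart := by
       have h0 : IsPullback A.1.act.act (snd (Red.bc f G) A.1.P) (A.1.π ≫ eqToHom A.2) (A.1.π ≫ eqToHom A.2) :=
         A.1.cart.of_iso (Iso.refl _) (Iso.refl _) (Iso.refl _) (eqToIso A.2) (by simp) (by simp) (by simp) (by simp)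
       refine (isPullback_map f h0).of_iso (kappa f G A.1.P) (Iso.refl _) (Iso.refl _) j ?_ ?_ ?_ ?_
       · rw [dnAct_act, Iso.refl_hom, Category.comp_id, Iso.hom_inv_id_assoc]
       · rw [kappa_snd, Iso.refl_hom, Category.comp_id]
       · rw [Iso.refl_hom, Category.id_comp]
       · rw [Iso.refl_hom, Category.id_comp]
     loc := by
       refine locTriv_iso ((Over.forget S').mapIso (eqToIso A.2) ≪≫ (Over.forget S).mapIso j) (𝟙 _) ?_ A.1.loc
       show 𝟙 _ ≫ ((Over.map f).map (A.1.π ≫ eqToHom A.2) ≫ j.hom).left = _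
       simp
     φ := ((Over.mapPullbackAdj f).homEquiv A.1.P X).symm A.1.φ
     eqv := dn_eqv f aX A.1.eqv }, rfl⟩

theorem dnObj_π (A : (AlgSt.QuotObj.forget J₀ (Red.bc f G) (aX.bc f)).Fiber T') :
    (dnObj f aX j A).1.π = (Over.map f).map (A.1.π ≫ eqToHom A.2) ≫ j.hom := rfl

theorem fib_base {S : Scheme.{u}} {G X : Over S} [GrpObj G] {aX : AlgGrp.Action G X} {J : Precoverage Scheme.{u}}
    {T : Over S} {A B : (AlgSt.QuotObj.forget J G aX).Fiber T} (g : A ⟶ B) :
    g.1.base = eqToHom (show A.1.base = T from A.2) ≫ eqToHom (show B.1.base = T from B.2).symm := by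
  haveI : (AlgSt.QuotObj.forget J G aX).IsHomLift (𝟙 T) g.1 := g.2
  exact (IsHomLift.fac' (AlgSt.QuotObj.forget J G aX) (𝟙 T) g.1).trans (by rw [Category.id_comp])

theorem fib_π {S : Scheme.{u}} {G X : Over S} [GrpObj G] {aX : AlgGrp.Action G X} {J : Precoverage Scheme.{u}}
    {T : Over S} {A B : (AlgSt.QuotObj.forget J G aX).Fiber T} (g : A ⟶ B) :
    g.1.top ≫ B.1.π ≫ eqToHom (show B.1.base = T from B.2) = A.1.π ≫ eqToHom (show A.1.base = T from A.2) := by
  rw [← Category.assoc, g.1.cart.w, fib_base]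
  simp

/-- The morphism over the base of a morphism over the extension. -/
def dnMap {A B : (AlgSt.QuotObj.forget J₀ (Red.bc f G) (aX.bc f)).Fiber T'} (g : A ⟶ B) :
    dnObj f aX j A ⟶ dnObj f aX j B :=
  ⟨{ base := 𝟙 T
     top := (Over.map f).map g.1.top
     eqv := by
       show (dnAct f A.1.act).act ≫ _ = _ ≫ (dnAct f B.1.act).act
       rw [dnAct_act, dnAct_act, Category.assoc, ← Functor.map_comp, g.1.eqv, Functor.map_comp, ← Category.assoc,
         ← Category.assoc]
       congr 1
       rw [Iso.inv_comp_eq, ← Category.assoc, ← kappa_natural, Category.assoc, Iso.hom_inv_id, Category.comp_id]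
     cart := by
       haveI : IsIso g.1.base := by rw [fib_base]; infer_instance
       haveI : IsIso g.1.top := MorphismProperty.of_isPullback (P := MorphismProperty.isomorphisms (Over S'))
         g.1.cart.flip (show IsIso g.1.base from inferInstance)
       refine @IsPullback.of_horiz_isIso _ _ _ _ _ _ _ _ _ _ inferInstance (IsIso.id T) ⟨?_⟩
       rw [dnObj_π, dnObj_π, ← Category.assoc, ← Functor.map_comp, fib_π]
       exact (Category.comp_id _).symm
     wφ := by
       show _ ≫ ((Over.mapPullbackAdj f).homEquiv B.1.P X).symm B.1.φ = _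
       rw [← Adjunction.homEquiv_naturality_left_symm, g.1.wφ]
       rfl },
    IsHomLift.of_fac' _ _ _ rfl rfl (by show 𝟙 T = _; simp; rfl)⟩

/-- The functor to the base. -/
def dnFunctor : (AlgSt.QuotObj.forget J₀ (Red.bc f G) (aX.bc f)).Fiber T' ⥤
    (AlgSt.QuotObj.forget J₀ G aX).Fiber T where
  obj := dnObj f aX j
  map := dnMap f aX j
  map_id A := Subtype.ext (AlgSt.QuotObj.hom_ext rfl ((Over.map f).map_id _))
  map_comp g h := Subtype.ext (AlgSt.QuotObj.hom_ext (Category.id_comp _).symm ((Over.map f).map_comp _ _))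

instance : (dnFunctor f aX j).Faithful where
  map_injective {A B} g h e := Subtype.ext (AlgSt.QuotObj.hom_ext (by rw [fib_base, fib_base])
    (map_inj f (congrArg (fun u => u.1.top) e :)))

instance : (dnFunctor f aX j).Full where
  map_surjective {A B} h := by
    have h0 := fib_π h
    have hb : h.1.top ≫ (Over.map f).map (B.1.π ≫ eqToHom B.2) = (Over.map f).map (A.1.π ≫ eqToHom A.2) := by
      rw [← cancel_mono j.hom, Category.assoc]
      simpa [dnFunctor, dnObj] using h0
    have hl : h.1.top.left ≫ (B.1.π ≫ eqToHom B.2).left = (A.1.π ≫ eqToHom A.2).left :=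
      congrArg CommaMorphism.left hb
    let t : A.1.P ⟶ B.1.P := Over.homMk h.1.top.left (by
      rw [← Over.w (B.1.π ≫ eqToHom B.2), ← Category.assoc, hl, Over.w])
    have ht : (Over.map f).map t = h.1.top := Over.OverMorphism.ext rfl
    have hbase : A.1.base = B.1.base := (show A.1.base = T' from A.2).trans B.2.symm
    have heq : A.1.act.act ≫ t = (Red.bc f G ◁ t) ≫ B.1.act.act := by
      apply map_inj f
      rw [Functor.map_comp, Functor.map_comp, ht]
      have h1 := h.1.eqv
      change (dnAct f A.1.act).act ≫ h.1.top = (G ◁ h.1.top) ≫ (dnAct f B.1.act).act at h1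
      rw [dnAct_act, dnAct_act, Category.assoc, Iso.inv_comp_eq] at h1
      rw [h1, ← ht, ← Category.assoc, ← kappa_natural, Category.assoc, Iso.hom_inv_id_assoc]
    haveI : IsIso h.1.base := by rw [fib_base]; infer_instance
    haveI : IsIso h.1.top := MorphismProperty.of_isPullback (P := MorphismProperty.isomorphisms (Over S))
      h.1.cart.flip (show IsIso h.1.base from inferInstance)
    haveI : IsIso t := by
      haveI : IsIso ((Over.forget S').map t) :=
        inferInstanceAs (IsIso ((Over.forget S).map h.1.top))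
      exact isIso_of_reflects_iso t (Over.forget S')
    let F : A.1 ⟶ B.1 :=
      { base := eqToHom hbase
        top := t
        eqv := heq
        cart := IsPullback.of_horiz_isIso ⟨by
          rw [← cancel_mono (eqToHom (show B.1.base = T' from B.2)), Category.assoc, Category.assoc, eqToHom_trans]
          exact Over.OverMorphism.ext (by rw [Over.comp_left]; exact hl)⟩
        wφ := by
          apply ((Over.mapPullbackAdj f).homEquiv A.1.P X).symm.injective
          rw [Adjunction.homEquiv_naturality_left_symm, ht]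
          exact h.1.wφ }
    refine ⟨⟨F, IsHomLift.of_fac' _ _ _ A.2 B.2 (by show eqToHom hbase = _; simp)⟩, Subtype.ext
      (AlgSt.QuotObj.hom_ext ?_ ht)⟩
    rw [fib_base h]
    show 𝟙 T = _
    simp
    rfl

instance : (dnFunctor f aX j).EssSurj where
  mem_essImage A := by
    let p : A.1.P ⟶ (Over.map f).obj T' := A.1.π ≫ eqToHom A.2 ≫ j.inv
    let Y : Over S' := Over.mk (p.left ≫ T'.hom)
    let e : (Over.map f).obj Y ≅ A.1.P := Over.isoMk (Iso.refl _) (by
      show 𝟙 _ ≫ A.1.P.hom = (p.left ≫ T'.hom) ≫ f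
      rw [Category.id_comp, Category.assoc]
      exact (Over.w p).symm)
    let q : Y ⟶ T' := Over.homMk p.left rfl
    have hq : (Over.map f).map q = e.hom ≫ p := Over.OverMorphism.ext (Category.id_comp p.left).symm
    have hact : A.1.act.act ≫ p = snd G A.1.P ≫ p := by
      simp only [p, ← Category.assoc]
      rw [A.1.cart.w]
    have hM : ((kappa f G Y).hom ≫ (G ◁ e.hom) ≫ A.1.act.act ≫ e.inv) ≫ (Over.map f).map q =
        (Over.map f).map (snd (Red.bc f G) Y ≫ q) := by
      simp only [hq, Category.assoc, Iso.inv_hom_id_assoc]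
      rw [hact, whiskerLeft_snd_assoc, Functor.map_comp, hq, ← Category.assoc, kappa_snd]
    have w : (kappa f G Y).hom.left ≫ ((G ◁ e.hom) ≫ A.1.act.act ≫ e.inv).left ≫ Y.hom =
        (Red.bc f G ⊗ Y).hom := by
      have h1 : (kappa f G Y).hom.left ≫ ((G ◁ e.hom) ≫ A.1.act.act ≫ e.inv).left ≫ q.left =
          (snd (Red.bc f G) Y ≫ q).left := by
        have h2 := congrArg CommaMorphism.left hM
        simp only [Over.comp_left, Category.assoc] at h2 ⊢
        exact h2
      rw [show Y.hom = q.left ≫ T'.hom from rfl, ← Category.assoc ((G ◁ e.hom) ≫ _).left, ← Category.assoc, h1]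
      exact Over.w (snd (Red.bc f G) Y ≫ q)
    let a' := upAct f A.1.act Y e w
    let φ' : Y ⟶ Red.bc f X := (Over.mapPullbackAdj f).homEquiv Y X (e.hom ≫ A.1.φ)
    have heq : a'.act ≫ φ' = (Red.bc f G ◁ φ') ≫ (aX.bc f).act := by
      have e1 : Red.bc f G ◁ φ' = lift (fst _ Y) (snd _ Y ≫ φ') := by
        apply CartesianMonoidalCategory.hom_ext <;> simp
      rw [e1, ← Equiv.apply_symm_apply ((Over.mapPullbackAdj f).homEquiv _ G) (fst (Red.bc f G) Y)]
      simp only [φ', ← Adjunction.homEquiv_naturality_left, AlgGrp.Action.lift_homEquiv_bc_act]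
      refine congrArg _ ?_
      rw [← Category.assoc, show (Over.map f).map a'.act ≫ e.hom = _ from upAct_map f A.1.act Y e w]
      simp only [Category.assoc, A.1.eqv]
      rw [← MonoidalCategory.whiskerLeft_comp_assoc, ← Category.assoc]
      simp only [kappa, lift_whiskerLeft]
    let B : (AlgSt.QuotObj.forget J₀ (Red.bc f G) (aX.bc f)).Fiber T' :=
      ⟨{ base := T'
         P := Y
         act := a'
         π := q
         cart := by
           apply isPullback_of_map f
           refine A.1.cart.of_iso ((whiskerLeftIso G e).symm ≪≫ (kappa f G Y).symm) e.symm e.symm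
             (eqToIso (show A.1.base = T from A.2) ≪≫ j.symm) ?_ ?_ ?_ ?_
           · rw [← cancel_mono e.hom, Category.assoc, Category.assoc, upAct_map]
             simp
           · simp only [Iso.trans_hom, Iso.symm_hom, whiskerLeftIso_inv, Category.assoc]
             rw [← kappa_snd, Iso.inv_hom_id_assoc, whiskerLeft_snd]
           · simp [hq, p]
           · simp [hq, p]
         loc := by
           refine locTriv_iso ((Over.forget S).mapIso (eqToIso (show A.1.base = T from A.2) ≪≫ j.symm)) (𝟙 _) ?_ A.1.loc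
           show 𝟙 _ ≫ p.left = _
           rw [Category.id_comp]
           rfl
         φ := φ'
         eqv := heq }, rfl⟩
    let F : (dnObj f aX j B).1 ⟶ A.1 :=
      { base := eqToHom (show A.1.base = T from A.2).symm
        top := e.hom
        eqv := by
          show (dnAct f a').act ≫ e.hom = _
          rw [dnAct_act, Category.assoc, show (Over.map f).map a'.act ≫ e.hom = _ from upAct_map f A.1.act Y e w,
            Iso.inv_hom_id_assoc]
        cart := IsPullback.of_horiz_isIso ⟨by
          rw [dnObj_π]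
          simp only [B, eqToHom_refl, Category.comp_id, hq, p, Category.assoc, Iso.inv_hom_id]
          simp⟩
        wφ := by
          show e.hom ≫ A.1.φ = ((Over.mapPullbackAdj f).homEquiv Y X).symm φ'
          simp [φ'] }
    let F' : dnObj f aX j B ⟶ A := ⟨F, IsHomLift.of_fac' _ _ _ rfl A.2 (by
      show eqToHom (show A.1.base = T from A.2).symm = _
      simp)⟩
    haveI := fib_isIso F'
    exact ⟨B, ⟨asIso F'⟩⟩

end Functor

/-- The point count is invariant under equivalence. -/
theorem count_congr {C : Type*} [Category C] {D : Type*} [Category D] (F : C ⥤ D) [F.Full] [F.Faithful] [F.EssSurj]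
    (hD : StkCnt.IsEssFinite D) : ∃ hC : StkCnt.IsEssFinite C, StkCnt.count C hC = StkCnt.count D hD := by
  let q : StkCnt.IsoCl C → StkCnt.IsoCl D := Quotient.map F.obj fun a b ⟨i⟩ => ⟨F.mapIso i⟩
  have hq : Function.Bijective q :=
    ⟨fun a b => Quotient.inductionOn₂ a b fun x y h =>
      Quotient.sound ⟨F.preimageIso (Quotient.exact h : IsIsomorphic _ _).some⟩,
    fun d => Quotient.inductionOn d fun y => ⟨StkCnt.IsoCl.mk (F.objPreimage y), Quotient.sound ⟨F.objObjPreimageIso y⟩⟩⟩
  haveI := hD.finite_isoCl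
  have hC : StkCnt.IsEssFinite C := ⟨Finite.of_injective q hq.1, fun x y =>
    haveI := hD.finite_hom (F.obj x) (F.obj y)
    Finite.of_injective (fun g : x ⟶ y => F.map g) fun _ _ h => F.map_injective h⟩
  refine ⟨hC, ?_⟩
  haveI := hC.finite_isoCl
  haveI := Fintype.ofFinite (StkCnt.IsoCl C)
  haveI := Fintype.ofFinite (StkCnt.IsoCl D)
  rw [StkCnt.count_eq_sum, StkCnt.count_eq_sum]
  refine Fintype.sum_bijective q hq _ _ fun c => Quotient.inductionOn c fun x => ?_
  show ((Nat.card (Aut x) : ℕ) : ℚ)⁻¹ = ((Nat.card (Aut (F.obj x)) : ℕ) : ℚ)⁻¹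
  rw [show Nat.card (Aut x) = Nat.card (Aut (F.obj x)) from
    Nat.card_congr ((Functor.FullyFaithful.ofFullyFaithful F).isoEquiv (X := x) (Y := x))]

end Groth.Agent.StkCntLib.Transfer
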