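import Groth.Agent.StkCntLib.Twist
import Groth.Agent.StkCntLib.Frob
import Groth.Prelude.Def_StkCnt
import Mathlib.GroupTheory.GroupAction.Basic

/-!
The groupoid of rational points of a quotient stack over a finite field, through the Frobenius.
-/

set_option autoImplicit false
set_option backward.isDefEq.respectTransparency.types false
set_option linter.style.haveILetI false
set_option linter.unusedSectionVars false

universe u

open CategoryTheory CategoryTheory.Limits MonoidalCategory CartesianMonoidalCategory MonObj AlgebraicGeometry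

noncomputable section

namespace Groth.Agent.StkCntLib

variable {k : Type u} [Field k] {K : Type u} [Field K] [Algebra k K]
variable {G X : Over (Spec (CommRingCat.of k))} [GrpObj G]

/-- A point of the group and a point fixed by the twisted Frobenius. -/
@[ext]
structure Dat (π : K ≃ₐ[k] K) (aX : AlgGrp.Action G X) where
  /-- the value of the cocycle at the Frobenius -/
  a : SGA7.Pts K G
  /-- the point -/
  x : SGA7.Pts K X
  fix' : pmul aX a (π • x) = x

variable {π : K ≃ₐ[k] K} {aX : AlgGrp.Action G X}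

instance : MulAction (SGA7.Pts K G) (Dat π aX) where
  smul g d := ⟨g * d.a * (π • g)⁻¹, pmul aX g d.x, by
    rw [smul_pmul, ← pmul_mul, inv_mul_cancel_right, pmul_mul, d.fix']⟩
  one_smul d := Dat.ext (show (1 : SGA7.Pts K G) * d.a * (π • (1 : SGA7.Pts K G))⁻¹ = d.a by simp) (pmul_one aX d.x)
  mul_smul g h d := Dat.ext
    (show g * h * d.a * (π • (g * h))⁻¹ = g * (h * d.a * (π • h)⁻¹) * (π • g)⁻¹ by
      rw [StkCntLib.smul_mul', mul_inv_rev]; group)
    (pmul_mul aX g h d.x)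

theorem Dat.smul_a (g : SGA7.Pts K G) (d : Dat π aX) : (g • d).a = g * d.a * (π • g)⁻¹ := rfl

theorem Dat.smul_x (g : SGA7.Pts K G) (d : Dat π aX) : (g • d).x = pmul aX g d.x := rfl

theorem Dat.smul_eq_iff (g : SGA7.Pts K G) (d d' : Dat π aX) :
    g • d' = d ↔ g * d'.a = d.a * π • g ∧ pmul aX g d'.x = d.x := by
  rw [Dat.ext_iff, Dat.smul_a, Dat.smul_x, mul_inv_eq_iff_eq_mul]

section Obj

variable {J : Precoverage Scheme.{u}}

theorem hom_base_subsingleton (T : Over (Spec (CommRingCat.of k))) : Subsingleton (T ⟶ SGA7.pt (K := k) k) :=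
  ⟨fun f g => Over.OverMorphism.ext (by
    haveI : IsIso (SGA7.pt (K := k) k).hom := by
      show IsIso (Spec.map (CommRingCat.ofHom (algebraMap k k)))
      rw [show CommRingCat.ofHom (algebraMap k k) = 𝟙 _ from rfl]
      infer_instance
    exact (cancel_mono (SGA7.pt (K := k) k).hom).1 ((Over.w f).trans (Over.w g).symm))⟩

theorem subsingleton_hom_base (A : StkCnt.pts (AlgSt.QuotSt J G aX) k) (T : Over (Spec (CommRingCat.of k))) :
    Subsingleton (T ⟶ A.1.base) := by
  rw [show A.1.base = SGA7.pt (K := k) k from A.2]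
  exact hom_base_subsingleton T

theorem pts_pseudo (A : StkCnt.pts (AlgSt.QuotSt J G aX) k) : NonAbH1.IsPseudoTorsorSch A.1.act := by
  have hu := subsingleton_hom_base A
  refine ⟨A.1.cart.lift (fst _ _) (snd _ _) (Subsingleton.elim _ _), ?_, ?_⟩
  · apply A.1.cart.hom_ext
    · rw [Category.assoc, A.1.cart.lift_fst, lift_fst, Category.id_comp]
    · rw [Category.assoc, A.1.cart.lift_snd, lift_snd, Category.id_comp]
  · apply CartesianMonoidalCategory.hom_ext
    · rw [Category.assoc, lift_fst, A.1.cart.lift_fst, Category.id_comp]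
    · rw [Category.assoc, lift_snd, A.1.cart.lift_snd, Category.id_comp]

theorem pts_locTriv (A : StkCnt.pts (AlgSt.QuotSt J G aX) k) : NonAbH1.IsLocallyTrivialFor J A.1.P := by
  obtain ⟨⟨bA, PA, aA, πA, cA, lA, φA, eA⟩, pA⟩ := A
  change bA = _ at pA
  subst pA
  obtain ⟨R, hR, hs⟩ := lA
  refine ⟨R, hR, fun S' f hf => ?_⟩
  obtain ⟨s, hs'⟩ := hs f hf
  refine ⟨s, ?_⟩
  show s ≫ PA.hom = f
  rw [← Over.w πA, ← Category.assoc, show s ≫ πA.left = f from hs']
  show f ≫ Spec.map (CommRingCat.ofHom (algebraMap k k)) = f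
  rw [show CommRingCat.ofHom (algebraMap k k) = 𝟙 _ from rfl, Spec.map_id]
  exact Category.comp_id f

theorem pts_isTorsor (A : StkCnt.pts (AlgSt.QuotSt Scheme.etalePrecoverage G aX) k) :
    NonAbH1.IsTorsorFor Scheme.fpqcPrecoverage A.1.act :=
  isTorsorFor_fpqc (pts_pseudo A) (pts_locTriv A)

/-- The identification of the base with the terminal object. -/
def unitIsoPt : 𝟙_ (Over (Spec (CommRingCat.of k))) ≅ SGA7.pt (K := k) k :=
  Over.isoMk (Iso.refl _) (by
    show 𝟙 _ ≫ Spec.map (CommRingCat.ofHom (algebraMap k k)) = 𝟙 _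
    rw [show CommRingCat.ofHom (algebraMap k k) = 𝟙 _ from rfl, Spec.map_id]
    exact Category.id_comp _)

/-- The object of a torsor with an equivariant map. -/
def mkPts (P : Over (Spec (CommRingCat.of k))) (a : AlgGrp.Action G P)
    (h₁ : NonAbH1.IsPseudoTorsorSch a) (h₂ : NonAbH1.IsLocallyTrivialFor J P) (φ : P ⟶ X)
    (hφ : a.act ≫ φ = (G ◁ φ) ≫ aX.act) : StkCnt.pts (AlgSt.QuotSt J G aX) k :=
  ⟨{ base := SGA7.pt (K := k) k
     P := P
     act := a
     π := toUnit P ≫ unitIsoPt.hom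
     cart := by
       haveI : IsIso (lift a.act (snd G P)) := h₁
       refine (AlgSt.isPullback_fst_snd P P).of_iso (asIso (lift a.act (snd G P))).symm (Iso.refl _) (Iso.refl _)
         unitIsoPt ?_ ?_ ?_ ?_
       · rw [Iso.refl_hom, Category.comp_id, Iso.symm_hom, asIso_inv, IsIso.eq_inv_comp, lift_fst]
       · rw [Iso.refl_hom, Category.comp_id, Iso.symm_hom, asIso_inv, IsIso.eq_inv_comp, lift_snd]
       · rw [Iso.refl_hom, Category.id_comp]
       · rw [Iso.refl_hom, Category.id_comp]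
     loc := by
       obtain ⟨R, hR, hs⟩ := h₂
       refine ⟨R, hR, fun S' f hf => ?_⟩
       obtain ⟨s, hs'⟩ := hs f hf
       refine ⟨s, ?_⟩
       show s ≫ (toUnit P).left ≫ 𝟙 _ = f
       rw [Category.comp_id]
       exact hs'
     φ := φ
     eqv := hφ }, rfl⟩

end Obj

section Points

variable [IsGalois k K] [IsAlgClosed K] [Smooth G.hom]

/-- The choice of a point of the torsor and of its cocycle. -/
structure PtData (A : StkCnt.pts (AlgSt.QuotSt Scheme.etalePrecoverage G aX) k) where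
  /-- the point -/
  t : SGA7.Pts K A.1.P
  /-- the cocycle -/
  z : GpH1.OneCocycleLC (K ≃ₐ[k] K) (SGA7.Pts K G)
  hz : ∀ σ, pmul A.1.act (z.1 σ) (σ • t) = t

theorem nonempty_ptData (A : StkCnt.pts (AlgSt.QuotSt Scheme.etalePrecoverage G aX) k) :
    Nonempty (PtData (K := K) A) := by
  obtain ⟨t⟩ := exists_point (K := K) (pts_isTorsor A)
  haveI := lft_hom (pts_isTorsor A)
  obtain ⟨z, hz⟩ := exists_cocycle_of_pt (pts_isTorsor A).1 t
  exact ⟨⟨t, z, hz⟩⟩

variable {A B : StkCnt.pts (AlgSt.QuotSt Scheme.etalePrecoverage G aX) k}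

/-- The datum at the Frobenius. -/
def PtData.dat (d : PtData (K := K) A) (π : K ≃ₐ[k] K) : Dat π aX :=
  ⟨d.z.1 π, d.t ≫ A.1.φ, by
    have h := congrArg (· ≫ A.1.φ) (d.hz π)
    simp only [] at h
    rw [pmul_comp A.1.act A.1.eqv] at h
    rw [GalTw.pts_smul_def] at h ⊢
    rw [← Category.assoc]
    exact h⟩

/-- Twisting a cocycle by a point. -/
def conjCocycle [LocallyOfFiniteType G.hom] (g : SGA7.Pts K G)
    (z : GpH1.OneCocycleLC (K ≃ₐ[k] K) (SGA7.Pts K G)) : GpH1.OneCocycleLC (K ≃ₐ[k] K) (SGA7.Pts K G) :=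
  ⟨⟨fun σ => g * z.1 σ * (σ • g)⁻¹, fun σ τ => by
    show g * z.1 (σ * τ) * ((σ * τ) • g)⁻¹ = g * z.1 σ * (σ • g)⁻¹ * σ • (g * z.1 τ * (τ • g)⁻¹)
    rw [z.1.2 σ τ, mul_smul, StkCntLib.smul_mul', StkCntLib.smul_mul', smul_inv']
    group⟩,
    ((IsLocallyConstant.const g).comp₂ z.2 (· * ·)).comp₂
      (((IsLocallyConstant.iff_exists_open _).mpr fun σ =>
        ⟨(fun τ => σ⁻¹ * τ) ⁻¹' {τ | τ • g = g}, (isOpen_stabilizer g).preimage (continuous_const_mul σ⁻¹), by simp,
          fun τ hτ => by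
            show τ • g = σ • g
            exact inv_smul_eq_iff.1 (by rw [← mul_smul]; exact hτ)⟩ : IsLocallyConstant fun σ => σ • g).comp (·⁻¹))
      (· * ·)⟩

variable [Finite k] [IsAlgClosure k K]

theorem cocycle_ext [LocallyOfFiniteType G.hom] {π : K ≃ₐ[k] K} (hπ : ∀ x : K, π x = x ^ Nat.card k)
    {z z' : GpH1.OneCocycleLC (K ≃ₐ[k] K) (SGA7.Pts K G)} (h : z.1 π = z'.1 π) (σ : K ≃ₐ[k] K) : z.1 σ = z'.1 σ :=
  congrFun (Frob.eq_of_apply_eq hπ _ _ z.1.2 z'.1.2 z.2 z'.2 h) σ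

/-- A point fixed by the twisted Frobenius is fixed by the twisted Galois action. -/
theorem fixed_of_frob [LocallyOfFiniteType G.hom] [LocallyOfFiniteType X.hom] {π : K ≃ₐ[k] K}
    (hπ : ∀ x : K, π x = x ^ Nat.card k) (z : GpH1.OneCocycleLC (K ≃ₐ[k] K) (SGA7.Pts K G)) (x : SGA7.Pts K X)
    (h : pmul aX (z.1 π) (π • x) = x) (σ : K ≃ₐ[k] K) : pmul aX (z.1 σ) (σ • x) = x := by
  let H : Subgroup (K ≃ₐ[k] K) :=
    { carrier := {σ | pmul aX (z.1 σ) (σ • x) = x}
      one_mem' := by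
        show pmul aX (z.1 1) ((1 : K ≃ₐ[k] K) • x) = x
        rw [GalTw.oneCocycle_one, one_smul, pmul_one]
      mul_mem' := fun {a b} ha hb => by
        show pmul aX (z.1 (a * b)) ((a * b) • x) = x
        rw [z.1.2 a b, mul_smul, pmul_mul, ← smul_pmul, show pmul aX (z.1 b) (b • x) = x from hb]
        exact ha
      inv_mem' := fun {a} ha => by
        show pmul aX (z.1 a⁻¹) (a⁻¹ • x) = x
        have h1 := congrArg (fun y => a⁻¹ • y) (show pmul aX (z.1 a) (a • x) = x from ha)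
        simp only [smul_pmul, inv_smul_smul] at h1
        rw [← h1, ← pmul_mul, ← z.1.2, inv_mul_cancel, GalTw.oneCocycle_one, pmul_one] }
  have hopen : IsOpen (H : Set (K ≃ₐ[k] K)) := by
    refine Subgroup.isOpen_of_mem_nhds H (g := 1) ?_
    have ho : IsOpen {σ : K ≃ₐ[k] K | σ • x = x ∧ z.1 σ = 1} :=
      (isOpen_stabilizer x).inter (z.2 {1})
    refine Filter.mem_of_superset (ho.mem_nhds ⟨one_smul _ x, GalTw.oneCocycle_one z.1⟩) fun σ hσ => ?_
    show pmul aX (z.1 σ) (σ • x) = x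
    rw [hσ.1, hσ.2, pmul_one]
  have hle : (⊤ : Subgroup (K ≃ₐ[k] K)) ≤ H := by
    rw [← Frob.closure_zpowers hπ]
    exact Subgroup.topologicalClosure_minimal _ (Subgroup.zpowers_le.mpr h) (H.isClosed_of_isOpen hopen)
  exact hle (Subgroup.mem_top σ)

set_option maxHeartbeats 1000000 in
/-- Morphisms of objects in terms of their data at the Frobenius. -/
theorem hom_equiv [IsAffineHom G.hom] [LocallyOfFiniteType X.hom] {π : K ≃ₐ[k] K}
    (hπ : ∀ x : K, π x = x ^ Nat.card k) (dA : PtData (K := K) A) (dB : PtData (K := K) B) :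
    Nonempty ((A ⟶ B) ≃ {g : SGA7.Pts K G // g • dB.dat π = dA.dat π}) := by
  have hA := pts_isTorsor A
  have hB := pts_isTorsor B
  haveI := lft_hom hB
  choose gm hgm using fun f : A ⟶ B => exists_pmul_eq hB.1 (dA.t ≫ f.1.top) dB.t
  have hmem : ∀ f : A ⟶ B, gm f • dB.dat π = dA.dat π := fun f => by
    rw [Dat.smul_eq_iff]
    refine ⟨pmul_left_injective hB.1 (p := π • dB.t) ?_, ?_⟩
    · show pmul B.1.act (gm f * dB.z.1 π) _ = pmul B.1.act (dA.z.1 π * π • gm f) _
      rw [pmul_mul, dB.hz, pmul_mul, ← smul_pmul, hgm, GalTw.pts_smul_def, ← Category.assoc,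
        ← GalTw.pts_smul_def, ← pmul_comp A.1.act f.1.eqv, dA.hz]
    · show pmul aX (gm f) (dB.t ≫ B.1.φ) = dA.t ≫ A.1.φ
      rw [← pmul_comp B.1.act B.1.eqv, hgm, Category.assoc, f.1.wφ]
  refine ⟨Equiv.ofBijective (fun f => ⟨gm f, hmem f⟩) ⟨fun f f' h => ?_, fun g => ?_⟩⟩
  · have h' : gm f = gm f' := congrArg Subtype.val h
    have ht : dA.t ≫ f.1.top = dA.t ≫ f'.1.top := by rw [← hgm f, ← hgm f', h']
    exact Subtype.ext (AlgSt.QuotObj.hom_ext ((subsingleton_hom_base B _).elim _ _)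
      (equivariant_ext hA dA.t f.1.eqv f'.1.eqv ht))
  · obtain ⟨g, hg⟩ := g
    rw [Dat.smul_eq_iff] at hg
    obtain ⟨hg₁, hg₂⟩ := hg
    have hz' : ∀ σ, pmul B.1.act (dA.z.1 σ) (σ • pmul B.1.act g dB.t) = pmul B.1.act g dB.t := fun σ => by
      have e := cocycle_ext hπ (z := dA.z) (z' := conjCocycle g dB.z) (by
        show dA.z.1 π = g * dB.z.1 π * (π • g)⁻¹
        rw [eq_mul_inv_iff_mul_eq]
        exact hg₁.symm) σ
      rw [e, smul_pmul, ← pmul_mul]
      show pmul B.1.act (g * dB.z.1 σ * (σ • g)⁻¹ * σ • g) _ = _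
      rw [inv_mul_cancel_right, pmul_mul, dB.hz]
    obtain ⟨f, hf, hft⟩ := exists_equivariant hA dA.t dA.hz _ hz'
    haveI := lft_hom hA
    obtain ⟨g', hg'⟩ := exists_pmul_eq hB.1 dB.t (pmul B.1.act g dB.t)
    have hinv : pmul A.1.act g' dA.t ≫ f = dB.t := by rw [pmul_comp A.1.act hf, hft, hg']
    have hz'' : ∀ σ, pmul A.1.act (dB.z.1 σ) (σ • pmul A.1.act g' dA.t) = pmul A.1.act g' dA.t := fun σ => by
      obtain ⟨c, hc⟩ := exists_pmul_eq hA.1 (pmul A.1.act (dB.z.1 σ) (σ • pmul A.1.act g' dA.t)) (pmul A.1.act g' dA.t)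
      have hc' := congrArg (· ≫ f) hc
      simp only [] at hc'
      rw [pmul_comp A.1.act hf, hinv, pmul_comp A.1.act hf, GalTw.pts_smul_def, Category.assoc, hinv,
        ← GalTw.pts_smul_def, dB.hz] at hc'
      have h1 : c = 1 := pmul_left_injective hB.1 (p := dB.t) (hc'.trans (pmul_one _ _).symm)
      rw [← hc, h1, pmul_one]
    obtain ⟨f', hf', hft'⟩ := exists_equivariant hB dB.t dB.hz _ hz''
    have e1 : f ≫ f' = 𝟙 _ := equivariant_ext hA dA.t (a' := A.1.act)
      (by rw [← Category.assoc, hf, Category.assoc, hf', ← MonoidalCategory.whiskerLeft_comp_assoc])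
      (by simp) (by
        rw [← Category.assoc, hft, pmul_comp B.1.act hf', hft', ← pmul_mul, Category.comp_id]
        have h1 : g' * g = 1 := by
          refine pmul_left_injective hB.1 (p := dB.t) ?_
          show pmul B.1.act (g' * g) dB.t = pmul B.1.act 1 dB.t
          rw [pmul_mul, hg', pmul_one]
        rw [mul_eq_one_iff_eq_inv.1 h1, mul_inv_cancel, pmul_one])
    have e2 : f' ≫ f = 𝟙 _ := equivariant_ext hB dB.t (a' := B.1.act)
      (by rw [← Category.assoc, hf', Category.assoc, hf, ← MonoidalCategory.whiskerLeft_comp_assoc])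
      (by simp) (by rw [← Category.assoc, hft', hinv, Category.comp_id])
    haveI : IsIso f := ⟨f', e1, e2⟩
    have hbase : A.1.base = B.1.base := (show A.1.base = _ from A.2).trans B.2.symm
    let F : A.1 ⟶ B.1 :=
      { base := eqToHom hbase
        top := f
        eqv := hf
        cart := IsPullback.of_horiz_isIso ⟨(subsingleton_hom_base B _).elim _ _⟩
        wφ := equivariant_ext hA dA.t (a' := aX)
          (by rw [← Category.assoc, hf, Category.assoc, B.1.eqv, ← MonoidalCategory.whiskerLeft_comp_assoc]) A.1.eqv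
          (by rw [← Category.assoc, hft, pmul_comp B.1.act B.1.eqv]; exact hg₂) }
    have hl : (AlgSt.QuotObj.forget Scheme.etalePrecoverage G aX).IsHomLift (𝟙 (SGA7.pt (K := k) k)) F :=
      IsHomLift.of_fac' _ _ _ A.2 B.2 ((subsingleton_hom_base B _).elim _ _)
    exact ⟨⟨F, hl⟩, Subtype.ext (pmul_left_injective hB.1 ((hgm _).trans hft))⟩

/-- Every datum comes from an object. -/
theorem exists_obj [IsAffineHom G.hom] [LocallyOfFiniteType X.hom] [QuasiCompact G.hom] {π : K ≃ₐ[k] K}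
    (hπ : ∀ x : K, π x = x ^ Nat.card k) (d : Dat π aX) :
    ∃ (A : StkCnt.pts (AlgSt.QuotSt Scheme.etalePrecoverage G aX) k) (dA : PtData (K := K) A), dA.dat π = d := by
  obtain ⟨z, hz⟩ := Frob.exists_cocycle hπ (fun g : SGA7.Pts K G => isOpen_stabilizer g) exists_finite_stable d.a
  obtain ⟨P, a, t, h₁, h₂, ht⟩ := exists_twist z
  obtain ⟨φ, hφ, hφt⟩ := exists_equivariant (isTorsorFor_fpqc h₁ h₂) t ht d.x
    (fixed_of_frob hπ z d.x (by rw [hz]; exact d.fix'))
  exact ⟨mkPts P a h₁ h₂ φ hφ, ⟨t, z, ht⟩, Dat.ext hz hφt⟩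

open MulAction in
/-- Isomorphism classes of rational points are orbits of data. -/
theorem exists_equiv_orbits [IsAffineHom G.hom] [LocallyOfFiniteType X.hom] [QuasiCompact G.hom] {π : K ≃ₐ[k] K}
    (hπ : ∀ x : K, π x = x ^ Nat.card k) :
    ∃ e : StkCnt.IsoCl (StkCnt.pts (AlgSt.QuotSt Scheme.etalePrecoverage G aX) k) ≃
        orbitRel.Quotient (SGA7.Pts K G) (Dat π aX),
      ∀ c, StkCnt.autCard _ c = Nat.card (stabilizer (SGA7.Pts K G) (e c).out) := by
  let C := StkCnt.pts (AlgSt.QuotSt Scheme.etalePrecoverage G aX) k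
  let D : ∀ A : C, PtData (K := K) A := fun A => (nonempty_ptData A).some
  have hiso : ∀ {A B : C}, Nonempty (A ≅ B) ↔ Nonempty (A ⟶ B) := fun {A B} =>
    ⟨fun ⟨i⟩ => ⟨i.hom⟩, fun ⟨f⟩ => haveI := fib_isIso f; ⟨asIso f⟩⟩
  have key : ∀ {A B : C} (dA : PtData (K := K) A) (dB : PtData (K := K) B),
      Nonempty (A ≅ B) ↔ dA.dat π ∈ orbit (SGA7.Pts K G) (dB.dat π) := fun dA dB => by
    obtain ⟨e⟩ := hom_equiv hπ dA dB
    rw [hiso, e.nonempty_congr, nonempty_subtype]
    exact Iff.rfl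
  let q : StkCnt.IsoCl C → orbitRel.Quotient (SGA7.Pts K G) (Dat π aX) :=
    Quotient.map (fun A => (D A).dat π) fun A B h => (key (D A) (D B)).1 h
  have hq : Function.Bijective q := by
    refine ⟨fun a b => Quotient.inductionOn₂ a b fun A B h => Quotient.sound
      ((key (D A) (D B)).2 (Quotient.exact h)), fun o => Quotient.inductionOn o fun d => ?_⟩
    obtain ⟨A, dA, rfl⟩ := exists_obj hπ d
    exact ⟨StkCnt.IsoCl.mk A, Quotient.sound ((key (D A) dA).1 ⟨Iso.refl A⟩)⟩
  refine ⟨Equiv.ofBijective q hq, fun c => Quotient.inductionOn c fun A => ?_⟩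
  show Nat.card (Aut A) = _
  obtain ⟨e⟩ := hom_equiv hπ (D A) (D A)
  let e₁ : Aut A ≃ (A ⟶ A) :=
    { toFun := fun i => i.hom
      invFun := fun f => haveI := fib_isIso f; asIso f
      left_inv := fun i => Iso.ext rfl
      right_inv := fun f => rfl }
  rw [Nat.card_congr (e₁.trans e)]
  exact Nat.card_congr (stabilizerEquivStabilizerOfOrbitRel
    ((orbitRel _ _).symm' (Quotient.mk_out (s := orbitRel (SGA7.Pts K G) (Dat π aX)) ((D A).dat π)))).toEquiv

end Points

end Groth.Agent.StkCntLib
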