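import Groth.Agent.StkCntLib.FibreAlg

/-! A morphism of objects of a quotient stack from a section and a point with the same image in the scheme. -/

set_option autoImplicit false
set_option backward.isDefEq.respectTransparency.types false
set_option linter.unusedSectionVars false

universe u

open CategoryTheory CategoryTheory.Limits MonoidalCategory CartesianMonoidalCategory MonObj AlgebraicGeometry

noncomputable section

namespace Groth.Agent.StkCntLib

variable {S : Scheme.{u}} {G X : Over S} [GrpObj G] {aX : AlgGrp.Action G X} {J : Precoverage Scheme.{u}}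

/-- A morphism sending a section to a point. -/
theorem exists_hom_of_point (A B : AlgSt.QuotObj J G aX) (tA : A.base ⟶ A.P) (hA : tA ≫ A.π = 𝟙 _)
    (tB : A.base ⟶ B.P) (h : tB ≫ B.φ = tA ≫ A.φ) : ∃ f : A ⟶ B, f.base = tB ≫ B.π := by
  let e := triv A tA hA
  have hsq : IsPullback ((G ◁ tB) ≫ B.act.act) (snd G A.base) B.π (tB ≫ B.π) :=
    (AlgSt.isPullback_whiskerLeft tB).paste_horiz B.cart
  refine ⟨⟨tB ≫ B.π, e.inv ≫ (G ◁ tB) ≫ B.act.act, ?_, ?_, ?_⟩, rfl⟩
  · rw [← cancel_epi (G ◁ e.hom), ← Category.assoc, ← triv_act A tA hA, ← MonoidalCategory.whiskerLeft_comp_assoc,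
      Category.assoc]
    simp only [e, Iso.hom_inv_id_assoc]
    have h1 := leftMul_pt (fst G (G ⊗ A.base)) (snd G (G ⊗ A.base))
    rw [lift_fst_snd, Category.id_comp] at h1
    rw [h1, lift_whiskerLeft_assoc, act_mul]
    have e1 : G ◁ ((G ◁ tB) ≫ B.act.act) = lift (fst G (G ⊗ A.base)) (snd G (G ⊗ A.base) ≫ (G ◁ tB) ≫ B.act.act) := by
      apply CartesianMonoidalCategory.hom_ext <;> simp
    rw [e1]
    have e2 : snd G (G ⊗ A.base) ≫ (G ◁ tB) =
        lift (snd G (G ⊗ A.base) ≫ fst G A.base) ((snd G (G ⊗ A.base) ≫ snd G A.base) ≫ tB) := by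
      apply CartesianMonoidalCategory.hom_ext <;> simp
    rw [← Category.assoc (snd G (G ⊗ A.base)), e2]
  · refine hsq.of_iso e (Iso.refl _) (Iso.refl _) (Iso.refl _) ?_ ?_ ?_ ?_
    · simp [e]
    · rw [Iso.refl_hom, Category.comp_id, triv_π]
    · simp
    · simp
  · rw [← cancel_epi e.hom]
    simp only [Category.assoc, Iso.hom_inv_id_assoc, e]
    rw [triv_φ, B.eqv, ← h, ← MonoidalCategory.whiskerLeft_comp_assoc]
    congr 1

end Groth.Agent.StkCntLib
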