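import Groth.Agent.StkCntLib.GalPts
import Mathlib.AlgebraicGeometry.Morphisms.Finite
import Mathlib.LinearAlgebra.Dimension.Finite
import Mathlib.FieldTheory.Galois.Basic

/-! A finite scheme over a field has finitely many points with values in a field. -/

set_option autoImplicit false
set_option backward.isDefEq.respectTransparency.types false
set_option linter.style.haveILetI false

universe u

open CategoryTheory AlgebraicGeometry TopologicalSpace

noncomputable section

namespace Groth.Agent.StkCntLib

variable {k : Type u} [Field k] {K : Type u} [Field K] [Algebra k K]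

/-- A finite scheme has finitely many points. -/
theorem finite_pts_of_isFinite (X : Over (Spec (CommRingCat.of k))) [IsFinite X.hom] : Finite (SGA7.Pts K X) := by
  classical
  haveI : IsAffine X.left := isAffine_of_isAffineHom X.hom
  let i : CommRingCat.of k ⟶ Γ(X.left, ⊤) := Spec.preimage (X.left.isoSpec.inv ≫ X.hom)
  letI := i.hom.toAlgebra
  have hi : Spec.map i = X.left.isoSpec.inv ≫ X.hom := Spec.map_preimage _
  haveI : Module.Finite k Γ(X.left, ⊤) := by
    have h : IsFinite (Spec.map i) := by rw [hi]; infer_instance
    exact (IsFinite.SpecMap_iff i).1 h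
  let φ : SGA7.Pts K X → (Γ(X.left, ⊤) ⟶ CommRingCat.of K) := fun x => Spec.preimage (x.left ≫ X.left.isoSpec.hom)
  have hφ : ∀ x, Spec.map (φ x) = x.left ≫ X.left.isoSpec.hom := fun x => Spec.map_preimage _
  have hc : ∀ x, i ≫ φ x = CommRingCat.ofHom (algebraMap k K) := fun x => by
    apply Spec.map_injective
    rw [Spec.map_comp, hφ, hi, Category.assoc, Iso.hom_inv_id_assoc]
    exact Over.w x
  let ψ : SGA7.Pts K X → (Γ(X.left, ⊤) →ₐ[k] K) := fun x => { (φ x).hom with commutes' := fun c => congr($(hc x) c) }
  refine Finite.of_injective ψ fun x y h => Over.OverMorphism.ext ?_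
  rw [← cancel_mono X.left.isoSpec.hom, ← hφ, ← hφ]
  exact congrArg Spec.map (CommRingCat.hom_ext (congrArg AlgHom.toRingHom h))

end Groth.Agent.StkCntLib
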