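import Groth.Agent.StkCntLib.Groupoid
import Mathlib.Algebra.BigOperators.Finprod
import Mathlib.Algebra.BigOperators.Field

/-!
The mass of a group action and the point count of a quotient stack.
-/

set_option autoImplicit false
set_option backward.isDefEq.respectTransparency.types false
set_option linter.unusedSectionVars false
set_option linter.style.haveILetI false

universe u v w w'

open MulAction

noncomputable section

namespace Groth.Agent.StkCntLib

variable (Γ : Type u) [Group Γ] (D : Type v) [MulAction Γ D]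

/-- The sum over the orbits of the inverse orders of the stabilisers. -/
def mass : ℚ := ∑ᶠ q : orbitRel.Quotient Γ D, ((Nat.card (stabilizer Γ q.out) : ℕ) : ℚ)⁻¹

variable {Γ D}

theorem card_stabilizer_out (d : D) :
    Nat.card (stabilizer Γ (Quotient.mk (orbitRel Γ D) d).out) = Nat.card (stabilizer Γ d) :=
  Nat.card_congr (stabilizerEquivStabilizerOfOrbitRel (Quotient.mk_out (s := orbitRel Γ D) d)).toEquiv

/-- The mass may be computed with any representatives. -/
theorem mass_eq_sum_reps {ι : Type w} [Fintype ι] (r : ι → D) (hr : ∀ d : D, ∃! i, d ∈ orbit Γ (r i)) :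
    mass Γ D = ∑ i, ((Nat.card (stabilizer Γ (r i)) : ℕ) : ℚ)⁻¹ := by
  have hb : Function.Bijective fun i => Quotient.mk (orbitRel Γ D) (r i) := by
    refine ⟨fun i j h => ?_, fun q => Quotient.inductionOn q fun d => ?_⟩
    · exact (hr (r i)).unique (mem_orbit_self _) (Quotient.exact h)
    · obtain ⟨i, hi, -⟩ := hr d
      exact ⟨i, Quotient.sound ((orbitRel Γ D).symm' hi)⟩
  rw [mass, ← finsum_eq_sum_of_fintype]
  exact (finsum_eq_of_bijective _ hb fun i => by rw [card_stabilizer_out]).symm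

/-- A finite group acting on a finite set. -/
theorem mass_eq_div [Finite Γ] [Finite D] : mass Γ D = (Nat.card D : ℚ) / (Nat.card Γ : ℚ) := by
  classical
  haveI := Fintype.ofFinite (orbitRel.Quotient Γ D)
  rw [mass, finsum_eq_sum_of_fintype, Nat.card_congr (selfEquivSigmaOrbits Γ D), Nat.card_sigma, Nat.cast_sum,
    Finset.sum_div]
  refine Finset.sum_congr rfl fun q _ => ?_
  have h : Nat.card (orbit Γ q.out) * Nat.card (stabilizer Γ q.out) = Nat.card Γ := by
    rw [← Nat.card_prod]
    exact Nat.card_congr (orbitProdStabilizerEquivGroup Γ q.out)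
  have h1 : (Nat.card (stabilizer Γ q.out) : ℚ) ≠ 0 := Nat.cast_ne_zero.2 Nat.card_pos.ne'
  haveI : Nonempty (orbit Γ q.out) := ⟨⟨_, mem_orbit_self _⟩⟩
  have h2 : (Nat.card (orbit Γ q.out) : ℚ) ≠ 0 := Nat.cast_ne_zero.2 Nat.card_pos.ne'
  rw [← h, Nat.cast_mul, div_mul_eq_div_div, div_self h2, one_div]

section Fibre

variable {A : Type w} [MulAction Γ A] (p : D →[Γ] A)

/-- The fibre of an equivariant map. -/
def Fib (α : A) : Type v := {d : D // p d = α}

instance (α : A) : MulAction (stabilizer Γ α) (Fib p α) where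
  smul g d := ⟨(g : Γ) • d.1, by rw [map_smul, d.2]; exact g.2⟩
  one_smul d := Subtype.ext (one_smul Γ d.1)
  mul_smul g h d := Subtype.ext (mul_smul (g : Γ) (h : Γ) d.1)

theorem fib_smul_val (α : A) (g : stabilizer Γ α) (d : Fib p α) : (g • d).1 = (g : Γ) • d.1 := rfl

theorem card_stabilizer_fib (α : A) (d : Fib p α) :
    Nat.card (stabilizer (stabilizer Γ α) d) = Nat.card (stabilizer Γ d.1) :=
  Nat.card_congr
    { toFun := fun g => ⟨(g.1 : Γ), congrArg Subtype.val g.2⟩
      invFun := fun g => ⟨⟨g.1, by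
        have h1 := congrArg p (show g.1 • d.1 = d.1 from g.2)
        rw [map_smul, d.2] at h1
        exact h1⟩, Subtype.ext g.2⟩
      left_inv := fun g => rfl
      right_inv := fun g => rfl }

/-- The mass of an action over a set with finitely many orbits. -/
theorem mass_eq_sum_fib {ι : Type w'} [Fintype ι] (a : ι → A) (ha : ∀ d : D, ∃ i, p d ∈ orbit Γ (a i))
    (hdis : ∀ i j, a i ∈ orbit Γ (a j) → i = j)
    [∀ i, Finite (orbitRel.Quotient (stabilizer Γ (a i)) (Fib p (a i)))] :
    mass Γ D = ∑ i, mass (stabilizer Γ (a i)) (Fib p (a i)) := by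
  classical
  haveI := fun i => Fintype.ofFinite (orbitRel.Quotient (stabilizer Γ (a i)) (Fib p (a i)))
  have e : ∀ i, mass (stabilizer Γ (a i)) (Fib p (a i)) = ∑ q : orbitRel.Quotient (stabilizer Γ (a i)) (Fib p (a i)),
      ((Nat.card (stabilizer (stabilizer Γ (a i)) q.out) : ℕ) : ℚ)⁻¹ := fun i => finsum_eq_sum_of_fintype _
  rw [Finset.sum_congr rfl fun i _ => e i, ← Fintype.sum_sigma']
  rw [mass_eq_sum_reps (fun q : Σ i, orbitRel.Quotient (stabilizer Γ (a i)) (Fib p (a i)) => q.2.out.1) fun d => ?_]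
  · exact Finset.sum_congr rfl fun q _ => by rw [card_stabilizer_fib]
  · obtain ⟨i, g, hg⟩ := ha d
    have hd : p (g⁻¹ • d) = a i := by rw [map_smul, ← show g • a i = p d from hg, inv_smul_smul]
    let q : orbitRel.Quotient (stabilizer Γ (a i)) (Fib p (a i)) := Quotient.mk _ ⟨g⁻¹ • d, hd⟩
    have hmem : ∀ q' : Fib p (a i), q'.1 ∈ orbit Γ d →
        Quotient.mk (orbitRel (stabilizer Γ (a i)) (Fib p (a i))) q' = q := fun q' hq' => by
      obtain ⟨h, hh⟩ := hq'
      refine Quotient.sound ⟨⟨h * g, ?_⟩, Subtype.ext ?_⟩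
      · show (h * g) • a i = a i
        rw [mul_smul, show g • a i = p d from hg, ← map_smul, show h • d = q'.1 from hh, q'.2]
      · show (h * g) • g⁻¹ • d = q'.1
        rw [mul_smul, smul_inv_smul]; exact hh
    refine ⟨⟨i, q⟩, ?_, fun ⟨j, q'⟩ hj => ?_⟩
    · obtain ⟨⟨h, _⟩, hh⟩ := Quotient.mk_out (s := orbitRel (stabilizer Γ (a i)) (Fib p (a i))) (⟨g⁻¹ • d, hd⟩ : Fib p (a i))
      refine (orbitRel Γ D).symm' ⟨h * g⁻¹, ?_⟩
      show (h * g⁻¹) • d = q.out.1
      rw [mul_smul]
      exact congrArg Subtype.val hh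
    · have hij : j = i := hdis j i (by
        obtain ⟨h, hh⟩ := hj
        refine ⟨h⁻¹ * g, ?_⟩
        show (h⁻¹ * g) • a i = a j
        rw [mul_smul, show g • a i = p d from hg, inv_smul_eq_iff, ← show h • q'.out.1 = d from hh, map_smul, q'.out.2])
      subst hij
      exact Sigma.ext rfl (heq_of_eq (((Quotient.out_eq q').symm).trans (hmem q'.out ((orbitRel Γ D).symm' hj))))

/-- Finitely many orbits below and in each fibre give finitely many orbits. -/
theorem finite_quotient_of_fib {ι : Type w'} [Finite ι] (a : ι → A) (ha : ∀ d : D, ∃ i, p d ∈ orbit Γ (a i))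
    [∀ i, Finite (orbitRel.Quotient (stabilizer Γ (a i)) (Fib p (a i)))] : Finite (orbitRel.Quotient Γ D) := by
  refine Finite.of_surjective (fun q : Σ i, orbitRel.Quotient (stabilizer Γ (a i)) (Fib p (a i)) =>
    Quotient.mk (orbitRel Γ D) q.2.out.1) fun q => Quotient.inductionOn q fun d => ?_
  obtain ⟨i, g, hg⟩ := ha d
  have hd : p (g⁻¹ • d) = a i := by rw [map_smul, ← show g • a i = p d from hg, inv_smul_smul]
  refine ⟨⟨i, Quotient.mk _ ⟨g⁻¹ • d, hd⟩⟩, Quotient.sound ?_⟩
  obtain ⟨⟨h, _⟩, hh⟩ := Quotient.mk_out (s := orbitRel (stabilizer Γ (a i)) (Fib p (a i)))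
    (⟨g⁻¹ • d, hd⟩ : Fib p (a i))
  refine ⟨h * g⁻¹, ?_⟩
  show (h * g⁻¹) • d = _
  rw [mul_smul]
  exact congrArg Subtype.val hh

end Fibre

section Change

variable {Δ : Type w} [Group Δ] {E : Type w'} [MulAction Δ E]

/-- Isomorphic actions have the same mass. -/
theorem mass_congr (e : Γ ≃* Δ) (f : D ≃ E) (h : ∀ g d, f (g • d) = e g • f d) :
    (Finite (orbitRel.Quotient Δ E) → Finite (orbitRel.Quotient Γ D)) ∧ mass Γ D = mass Δ E := by
  have hrel : ∀ d d', (orbitRel Γ D).r d d' ↔ (orbitRel Δ E).r (f d) (f d') := fun d d' =>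
    ⟨fun ⟨g, hg⟩ => ⟨e g, by rw [← hg]; exact (h g d').symm⟩, fun ⟨g, hg⟩ => ⟨e.symm g, f.injective (by
      show f (e.symm g • d') = f d
      rw [h, e.apply_symm_apply]; exact hg)⟩⟩
  let Φ : orbitRel.Quotient Γ D ≃ orbitRel.Quotient Δ E := Quotient.congr f hrel
  refine ⟨fun hf => Finite.of_equiv _ Φ.symm, finsum_eq_of_bijective Φ Φ.bijective fun q => ?_⟩
  have hq : Φ q = Quotient.mk _ (f q.out) := by
    conv_lhs => rw [← Quotient.out_eq q]
    rfl
  rw [hq, card_stabilizer_out]
  congr 2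
  exact Nat.card_congr (e.toEquiv.subtypeEquiv fun g => by
    rw [MulAction.mem_stabilizer_iff, MulAction.mem_stabilizer_iff]
    show g • q.out = q.out ↔ e g • f q.out = f q.out
    rw [← h, f.injective.eq_iff])

end Change

section Count

open CategoryTheory AlgebraicGeometry MonObj

variable {k : Type u} [Field k] [Finite k] {K : Type u} [Field K] [Algebra k K] [IsAlgClosure k K]
  [IsAlgClosed K] [IsGalois k K]
variable {G X : Over (Spec (CommRingCat.of k))} [GrpObj G] [Smooth G.hom] [IsAffineHom G.hom]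
  [LocallyOfFiniteType X.hom] [QuasiCompact G.hom] {aX : AlgGrp.Action G X}

/-- The point count of a quotient stack is the mass of the data at the Frobenius. -/
theorem ptCount_eq_mass {π : K ≃ₐ[k] K} (hπ : ∀ x : K, π x = x ^ Nat.card k)
    (h : StkCnt.IsEssFinite (StkCnt.pts (AlgSt.QuotSt Scheme.etalePrecoverage G aX) k)) :
    StkCnt.ptCount (AlgSt.QuotSt Scheme.etalePrecoverage G aX) k h = mass (SGA7.Pts K G) (Dat π aX) := by
  obtain ⟨e, he⟩ := exists_equiv_orbits (aX := aX) hπ
  haveI := h.finite_isoCl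
  haveI := Fintype.ofFinite (StkCnt.IsoCl (StkCnt.pts (AlgSt.QuotSt Scheme.etalePrecoverage G aX) k))
  rw [StkCnt.ptCount, StkCnt.count_eq_sum, mass, ← finsum_eq_sum_of_fintype]
  exact finsum_eq_of_bijective e e.bijective fun c => by rw [he]

end Count

end Groth.Agent.StkCntLib
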