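import Groth.Agent.StkCntLib.TorsPts

/-!
Fixed points of twisted Frobenius maps on points are finite.
-/

set_option autoImplicit false
set_option backward.isDefEq.respectTransparency.types false
set_option linter.style.haveILetI false
set_option linter.unusedSectionVars false

universe u

open CategoryTheory CategoryTheory.Limits MonoidalCategory CartesianMonoidalCategory MonObj AlgebraicGeometry

noncomputable section

namespace Groth.Agent.StkCntLib

variable {k : Type u} [Field k] {K : Type u} [Field K] [Algebra k K]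

/-- A point fixed by an automorphism has values in the fixed field. -/
theorem exists_pt_fixedField {X : Over (Spec (CommRingCat.of k))} [LocallyOfFiniteType X.hom] (σ : K ≃ₐ[k] K)
    (x : SGA7.Pts K X) (h : σ • x = x) :
    ∃ y : SGA7.Pts (IntermediateField.fixedField (Subgroup.zpowers σ) : IntermediateField k K) X,
      fldHom (IntermediateField.fixedField (Subgroup.zpowers σ)).val ≫ y = x := by
  obtain ⟨U, hU, i, φ, hx, hi, hc⟩ := exists_affine_factor' x
  let F : IntermediateField k K := IntermediateField.fixedField (Subgroup.zpowers σ)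
  have hφ : ∀ a, φ.hom a ∈ F := fun a => by
    rw [IntermediateField.mem_fixedField_iff]
    intro τ hτ
    have hτx : τ • x = x :=
      (Subgroup.zpowers_le.2 (show σ ∈ MulAction.stabilizer (K ≃ₐ[k] K) x from h)) hτ
    have h1 : Spec.map (φ ≫ CommRingCat.ofHom (τ : K →+* K)) ≫ hU.fromSpec = Spec.map φ ≫ hU.fromSpec := by
      rw [Spec.map_comp, Category.assoc, ← hx]
      exact congrArg CommaMorphism.left hτx
    exact congr($(Spec.map_injective ((cancel_mono hU.fromSpec).1 h1)) a)
  let ψ : Γ(X.left, U) →+* F := φ.hom.codRestrict F.toSubfield.toSubring hφ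
  refine ⟨Over.homMk (Spec.map (CommRingCat.ofHom ψ) ≫ hU.fromSpec) ?_, ?_⟩
  · show (_ ≫ _) ≫ X.hom = Spec.map _
    rw [Category.assoc, ← hi, ← Spec.map_comp]
    exact congrArg Spec.map (CommRingCat.hom_ext (RingHom.ext fun c => Subtype.ext congr($hc c)))
  · ext1
    show Spec.map _ ≫ Spec.map _ ≫ hU.fromSpec = _
    rw [hx, ← Category.assoc, ← Spec.map_comp]
    rfl

theorem frobenius_pow [Finite k] {π : K ≃ₐ[k] K} (hπ : ∀ x : K, π x = x ^ Nat.card k) (j : ℕ) (x : K) :
    (π ^ j) x = x ^ (Nat.card k ^ j) := by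
  induction j generalizing x with
  | zero => simp
  | succ j ih => rw [pow_succ', AlgEquiv.mul_apply, ih, hπ, ← pow_mul, pow_succ]

/-- Finitely many points are fixed by a power of the Frobenius. -/
theorem finite_fixed_pow [Finite k] {π : K ≃ₐ[k] K} (hπ : ∀ x : K, π x = x ^ Nat.card k) {n : ℕ} (hn : 0 < n)
    {X : Over (Spec (CommRingCat.of k))} [LocallyOfFiniteType X.hom] [QuasiCompact X.hom] :
    {x : SGA7.Pts K X | π ^ n • x = x}.Finite := by
  classical
  let F : IntermediateField k K := IntermediateField.fixedField (Subgroup.zpowers (π ^ n))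
  have hq : 1 < Nat.card k ^ n := Nat.one_lt_pow hn.ne' Finite.one_lt_card
  haveI : Finite F := by
    have hsub : (F : Set K) ⊆
        ((Polynomial.X ^ (Nat.card k ^ n) - Polynomial.X : Polynomial K).roots.toFinset : Set K) := fun x hx => by
      have h1 := (IntermediateField.mem_fixedField_iff _ _).1 hx _ (Subgroup.mem_zpowers (π ^ n))
      rw [frobenius_pow hπ] at h1
      rw [Finset.mem_coe, Multiset.mem_toFinset, Polynomial.mem_roots (FiniteField.X_pow_card_sub_X_ne_zero _ hq)]
      simp [h1]
    exact ((Finset.finite_toSet _).subset hsub).to_subtype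
  haveI := finite_pts (k := k) (K := F) (X := X)
  refine (Set.finite_range fun y : SGA7.Pts F X => fldHom F.val ≫ y).subset fun x hx => ?_
  exact exists_pt_fixedField _ x hx

variable {G : Over (Spec (CommRingCat.of k))} [GrpObj G]

/-- The twisted norms of a point. -/
def frobProd (π : K ≃ₐ[k] K) (a : SGA7.Pts K G) : ℕ → SGA7.Pts K G
  | 0 => 1
  | n + 1 => a * π • frobProd π a n

theorem frobProd_add (π : K ≃ₐ[k] K) (a : SGA7.Pts K G) (n l : ℕ) :
    frobProd π a (n + l) = frobProd π a n * π ^ n • frobProd π a l := by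
  induction n with
  | zero => simp [frobProd]
  | succ n ih =>
    rw [Nat.succ_add]
    show a * π • frobProd π a (n + l) = a * π • frobProd π a n * π ^ (n + 1) • frobProd π a l
    rw [ih, StkCntLib.smul_mul', ← mul_smul, ← pow_succ', _root_.mul_assoc]

/-- The twisted norms are periodic. -/
theorem exists_period [Finite k] [IsGalois k K] [LocallyOfFiniteType G.hom] [QuasiCompact G.hom] (π : K ≃ₐ[k] K)
    (a : SGA7.Pts K G) : ∃ n : ℕ, 0 < n ∧ frobProd π a n = 1 ∧ π ^ n • a = a := by
  classical
  obtain ⟨H, hH, haH, hst⟩ := exists_finite_stable a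
  haveI : Finite H := hH.to_subtype
  let ρ : (K ≃ₐ[k] K) →* Equiv.Perm H := MonoidHom.mk' (fun σ =>
    { toFun := fun x => ⟨σ • (x : SGA7.Pts K G), hst σ x x.2⟩
      invFun := fun x => ⟨σ⁻¹ • (x : SGA7.Pts K G), hst σ⁻¹ x x.2⟩
      left_inv := fun x => Subtype.ext (inv_smul_smul σ (x : SGA7.Pts K G))
      right_inv := fun x => Subtype.ext (smul_inv_smul σ (x : SGA7.Pts K G)) })
    fun σ τ => Equiv.ext fun x => Subtype.ext (mul_smul σ τ (x : SGA7.Pts K G))
  let d := orderOf (ρ π)
  have hd0 : 0 < d := orderOf_pos _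
  have hd : ∀ (i : ℕ), ∀ x ∈ H, π ^ (d * i) • x = x := fun i x hx => by
    have h1 : ρ (π ^ (d * i)) = 1 := by rw [map_pow, pow_mul, pow_orderOf_eq_one, one_pow]
    exact congrArg (fun e : Equiv.Perm H => ((e ⟨x, hx⟩ : H) : SGA7.Pts K G)) h1
  have hmem : ∀ n, frobProd π a n ∈ H := fun n => by
    induction n with
    | zero => exact H.one_mem
    | succ n ih => exact H.mul_mem haH (hst π _ ih)
  have hmul : ∀ n, frobProd π a (d * n) = frobProd π a d ^ n := fun n => by
    induction n with
    | zero => simp [frobProd]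
    | succ n ih => rw [Nat.mul_succ, frobProd_add, ih, hd n _ (hmem d), pow_succ]
  let o := orderOf (⟨frobProd π a d, hmem d⟩ : H)
  refine ⟨d * o, Nat.mul_pos hd0 (orderOf_pos _), ?_, hd o a haH⟩
  rw [hmul]
  exact congrArg Subtype.val (pow_orderOf_eq_one (⟨frobProd π a d, hmem d⟩ : H))

theorem fixed_iterate {X : Over (Spec (CommRingCat.of k))} (aX : AlgGrp.Action G X) (π : K ≃ₐ[k] K)
    (a : SGA7.Pts K G) {x : SGA7.Pts K X} (hx : pmul aX a (π • x) = x) (n : ℕ) :
    pmul aX (frobProd π a n) (π ^ n • x) = x := by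
  induction n with
  | zero => simp [frobProd, pmul_one]
  | succ n ih =>
    show pmul aX (a * π • frobProd π a n) (π ^ (n + 1) • x) = x
    rw [pow_succ', mul_smul, pmul_mul, ← smul_pmul, ih, hx]

/-- A twisted Frobenius has finitely many fixed points. -/
theorem finite_twisted_fixed [Finite k] [IsGalois k K] [LocallyOfFiniteType G.hom] [QuasiCompact G.hom]
    {X : Over (Spec (CommRingCat.of k))} [LocallyOfFiniteType X.hom] [QuasiCompact X.hom]
    (aX : AlgGrp.Action G X) {π : K ≃ₐ[k] K} (hπ : ∀ x : K, π x = x ^ Nat.card k) (a : SGA7.Pts K G) :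
    {x : SGA7.Pts K X | pmul aX a (π • x) = x}.Finite := by
  obtain ⟨n, hn, h1, -⟩ := exists_period π a
  refine (finite_fixed_pow (X := X) hπ hn).subset fun x hx => ?_
  have h2 := fixed_iterate aX π a hx n
  rwa [h1, pmul_one] at h2

theorem conj_fixed_iterate (π : K ≃ₐ[k] K) (a g : SGA7.Pts K G) (hg : g * a = a * π • g) (n : ℕ) :
    g * frobProd π a n = frobProd π a n * π ^ n • g := by
  induction n with
  | zero => simp [frobProd]
  | succ n ih =>
    show g * (a * π • frobProd π a n) = a * π • frobProd π a n * π ^ (n + 1) • g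
    rw [← _root_.mul_assoc, hg, _root_.mul_assoc, ← StkCntLib.smul_mul', ih, StkCntLib.smul_mul', ← mul_smul,
      ← pow_succ', _root_.mul_assoc]

/-- A twisted Frobenius of a group has finitely many fixed points. -/
theorem finite_twisted_fixed_grp [Finite k] [IsGalois k K] [LocallyOfFiniteType G.hom] [QuasiCompact G.hom]
    {π : K ≃ₐ[k] K} (hπ : ∀ x : K, π x = x ^ Nat.card k) (a : SGA7.Pts K G) :
    {g : SGA7.Pts K G | g * a = a * π • g}.Finite := by
  obtain ⟨n, hn, h1, -⟩ := exists_period π a
  refine (finite_fixed_pow (X := G) hπ hn).subset fun g hg => ?_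
  have h2 := conj_fixed_iterate π a g hg n
  rw [h1, _root_.mul_one, _root_.one_mul] at h2
  exact h2.symm

end Groth.Agent.StkCntLib
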