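import Groth.Agent.StkCntLib.Mass
import Groth.Agent.StkCntLib.FrobFix

/-!
The point count of a quotient stack class by class of the values at the Frobenius.
-/

set_option autoImplicit false
set_option backward.isDefEq.respectTransparency.types false
set_option linter.style.haveILetI false
set_option linter.unusedSectionVars false

universe u w

open CategoryTheory CategoryTheory.Limits MonoidalCategory CartesianMonoidalCategory MonObj AlgebraicGeometry MulAction

noncomputable section

namespace Groth.Agent.StkCntLib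

variable {k : Type u} [Field k] {K : Type u} [Field K] [Algebra k K]
variable {G X : Over (Spec (CommRingCat.of k))} [GrpObj G]

/-- The points of the group with the action by twisted conjugation. -/
@[ext]
structure TwG (π : K ≃ₐ[k] K) (G : Over (Spec (CommRingCat.of k))) [GrpObj G] where
  /-- the point -/
  val : SGA7.Pts K G

variable {π : K ≃ₐ[k] K}

instance : MulAction (SGA7.Pts K G) (TwG π G) where
  smul g a := ⟨g * a.val * (π • g)⁻¹⟩
  one_smul a := TwG.ext (show (1 : SGA7.Pts K G) * a.val * (π • (1 : SGA7.Pts K G))⁻¹ = a.val by simp)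
  mul_smul g h a := TwG.ext
    (show g * h * a.val * (π • (g * h))⁻¹ = g * (h * a.val * (π • h)⁻¹) * (π • g)⁻¹ by
      rw [StkCntLib.smul_mul', mul_inv_rev]; group)

theorem TwG.smul_val (g : SGA7.Pts K G) (a : TwG π G) : (g • a).val = g * a.val * (π • g)⁻¹ := rfl

theorem TwG.mem_stabilizer_iff (g : SGA7.Pts K G) (a : TwG π G) :
    g ∈ stabilizer (SGA7.Pts K G) a ↔ g * a.val = a.val * π • g := by
  rw [MulAction.mem_stabilizer_iff, TwG.ext_iff, TwG.smul_val, mul_inv_eq_iff_eq_mul]

variable {aX : AlgGrp.Action G X}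

/-- The value at the Frobenius. -/
def Dat.proj : Dat π aX →[SGA7.Pts K G] TwG π G where
  toFun d := ⟨d.a⟩
  map_smul' _ _ := rfl

/-- The fibre of the value at the Frobenius. -/
def fibEquiv (α : TwG π G) :
    Fib (Dat.proj (π := π) (aX := aX)) α ≃ {x : SGA7.Pts K X // pmul aX α.val (π • x) = x} where
  toFun d := ⟨d.1.x, by
    have h : d.1.a = α.val := congrArg TwG.val d.2
    rw [← h]
    exact d.1.fix'⟩
  invFun x := ⟨⟨α.val, x.1, x.2⟩, rfl⟩
  left_inv d := Subtype.ext (Dat.ext (congrArg TwG.val d.2).symm rfl)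
  right_inv x := rfl

variable [Finite k] [IsAlgClosure k K] [IsAlgClosed K] [IsGalois k K]

theorem finite_stabilizer [LocallyOfFiniteType G.hom] [QuasiCompact G.hom]
    (hπ : ∀ x : K, π x = x ^ Nat.card k) (α : TwG π G) : Finite (stabilizer (SGA7.Pts K G) α) :=
  haveI := (finite_twisted_fixed_grp hπ α.val).to_subtype
  Finite.of_injective (fun g : stabilizer (SGA7.Pts K G) α =>
    (⟨g.1, (TwG.mem_stabilizer_iff g.1 α).1 g.2⟩ : {g : SGA7.Pts K G | g * α.val = α.val * π • g}))
    fun _ _ h => Subtype.ext (congrArg (fun g : {g : SGA7.Pts K G | g * α.val = α.val * π • g} => g.1) h)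

theorem card_stabilizer (α : TwG π G) :
    Nat.card (stabilizer (SGA7.Pts K G) α) = Nat.card {g : SGA7.Pts K G // g * α.val = α.val * π • g} :=
  Nat.card_congr (Equiv.subtypeEquivRight fun g => TwG.mem_stabilizer_iff g α)

theorem finite_fib [LocallyOfFiniteType G.hom] [QuasiCompact G.hom] [LocallyOfFiniteType X.hom] [QuasiCompact X.hom]
    (hπ : ∀ x : K, π x = x ^ Nat.card k) (α : TwG π G) : Finite (Fib (Dat.proj (π := π) (aX := aX)) α) :=
  haveI := (finite_twisted_fixed aX hπ α.val).to_subtype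
  Finite.of_equiv {x : SGA7.Pts K X | pmul aX α.val (π • x) = x} (fibEquiv α).symm

/-- The point count as a sum over the classes of values at the Frobenius. -/
theorem ptCount_eq_sum [Smooth G.hom] [IsAffineHom G.hom] [LocallyOfFiniteType X.hom] [QuasiCompact X.hom]
    (hπ : ∀ x : K, π x = x ^ Nat.card k)
    (h : StkCnt.IsEssFinite (StkCnt.pts (AlgSt.QuotSt Scheme.etalePrecoverage G aX) k))
    {J : Type w} [Fintype J] (a : J → SGA7.Pts K G)
    (ha : ∀ (b : SGA7.Pts K G) (x : SGA7.Pts K X), pmul aX b (π • x) = x → ∃ i g, g * a i * (π • g)⁻¹ = b)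
    (hdis : ∀ i j, (∃ g, g * a j * (π • g)⁻¹ = a i) → i = j) :
    StkCnt.ptCount (AlgSt.QuotSt Scheme.etalePrecoverage G aX) k h =
      ∑ i, (Nat.card {x : SGA7.Pts K X // pmul aX (a i) (π • x) = x} : ℚ) /
        (Nat.card {g : SGA7.Pts K G // g * a i = a i * π • g} : ℚ) := by
  haveI := fun i => finite_fib (aX := aX) hπ (⟨a i⟩ : TwG π G)
  rw [ptCount_eq_mass hπ, mass_eq_sum_fib (Dat.proj (π := π) (aX := aX)) (fun i => (⟨a i⟩ : TwG π G))]
  · refine Finset.sum_congr rfl fun i _ => ?_
    haveI := finite_stabilizer hπ (⟨a i⟩ : TwG π G)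
    rw [mass_eq_div, card_stabilizer, Nat.card_congr (fibEquiv (⟨a i⟩ : TwG π G))]
  · intro d
    obtain ⟨i, g, hg⟩ := ha d.a d.x d.fix'
    exact ⟨i, g, TwG.ext hg⟩
  · rintro i j ⟨g, hg⟩
    exact hdis i j ⟨g, congrArg TwG.val hg⟩

end Groth.Agent.StkCntLib
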