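import Groth.Agent.StkCntLib.Groupoid
import Groth.Agent.AVTors.TateInj
import Groth.Prelude.Def_GalTw2

/-!
Rational points of twists as points fixed by the twisted Frobenius.
-/

set_option autoImplicit false
set_option backward.isDefEq.respectTransparency.types false
set_option linter.style.haveILetI false
set_option linter.unusedSectionVars false

universe u

open CategoryTheory CategoryTheory.Limits MonoidalCategory CartesianMonoidalCategory MonObj AlgebraicGeometry

noncomputable section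

namespace Groth.Agent.StkCntLib

variable {k : Type u} [Field k] {K : Type u} [Field K] [Algebra k K]
variable {X Y G : Over (Spec (CommRingCat.of k))} [GrpObj G]

local notation "PK" => 𝟙_ (Over (Spec (CommRingCat.of K)))

/-- The base point over the ground field. -/
def mapUnitIso : (Over.map (SGA7.pt (K := k) K).hom).obj PK ≅ SGA7.pt (K := k) K :=
  Over.isoMk (Iso.refl _) (by
    show 𝟙 _ ≫ _ = 𝟙 _ ≫ _
    rfl)

theorem secOfPt_eq_homEquiv (g : SGA7.Pts K X) :
    GalTw.secOfPt K g = (Over.mapPullbackAdj (SGA7.pt (K := k) K).hom).homEquiv PK X (mapUnitIso.hom ≫ g) := by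
  ext1
  apply pullback.hom_ext
  · simp [Over.mapPullbackAdj, mapUnitIso]
  · simp [Over.mapPullbackAdj, mapUnitIso]

theorem secOfPt_mul (g h : SGA7.Pts K G) :
    GalTw.secOfPt K (g * h) = GalTw.secOfPt K g * GalTw.secOfPt K h := by
  rw [secOfPt_eq_homEquiv, secOfPt_eq_homEquiv, secOfPt_eq_homEquiv, MonObj.comp_mul]
  exact AVTors.homEquiv_mul _ _ _ _ _

/-- Points as sections of the base change. -/
def secEquiv : SGA7.Pts K X ≃ (PK ⟶ GalTw.bcK K X) :=
  ((mapUnitIso (k := k) (K := K)).symm.homCongr (Iso.refl X)).trans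
    ((Over.mapPullbackAdj (SGA7.pt (K := k) K).hom).homEquiv PK X)

theorem secEquiv_apply (g : SGA7.Pts K X) : secEquiv g = GalTw.secOfPt K g := by
  rw [secOfPt_eq_homEquiv]
  simp [secEquiv]

theorem secOfPt_injective : Function.Injective (GalTw.secOfPt K (G := X)) := fun g h e =>
  secEquiv.injective (by rw [secEquiv_apply, secEquiv_apply, e])

theorem secOfPt_smul (σ : K ≃ₐ[k] K) (g : SGA7.Pts K X) :
    (GalTw.secOfPt K (σ • g)).left =
      GalTw.specMap K σ ≫ (GalTw.secOfPt K g).left ≫ GalTw.galMap K σ⁻¹ X := by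
  apply pullback.hom_ext
  · simp only [Category.assoc, GalTw.galMap_fst, GalTw.secOfPt_left, pullback.lift_fst]
    rfl
  · simp only [Category.assoc, GalTw.galMap_snd, GalTw.secOfPt_left, pullback.lift_snd, pullback.lift_snd_assoc]
    show 𝟙 (Spec (CommRingCat.of K)) = GalTw.specMap K σ ≫ 𝟙 (Spec (CommRingCat.of K)) ≫ GalTw.specMap K σ⁻¹
    rw [Category.id_comp, ← GalTw.specMap_mul, mul_inv_cancel, GalTw.specMap_one]

theorem secOfPt_actK (a : AlgGrp.Action G X) (g : SGA7.Pts K G) (x : SGA7.Pts K X) :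
    GalTw.secOfPt K x ≫ GalTw.actK K a g = GalTw.secOfPt K (pmul a g x) := by
  ext1
  apply pullback.hom_ext
  · simp only [Over.comp_left, GalTw.actK, Over.homMk_left, Category.assoc, pullback.lift_fst, GalTw.secOfPt_left]
    let w : SGA7.pt (K := k) K ⟶ X ⊗ SGA7.pt (K := k) K := lift x (𝟙 _)
    have hw : w.left = (GalTw.secOfPt K x).left := by
      apply pullback.hom_ext
      · rw [GalTw.secOfPt_left, pullback.lift_fst]
        exact congrArg CommaMorphism.left (lift_fst x (𝟙 (SGA7.pt (K := k) K)))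
      · rw [GalTw.secOfPt_left, pullback.lift_snd]
        exact congrArg CommaMorphism.left (lift_snd x (𝟙 (SGA7.pt (K := k) K)))
    rw [GalTw.secOfPt_left] at hw
    rw [← hw]
    refine congrArg CommaMorphism.left (show w ≫ lift (snd X _ ≫ g) (fst X _) ≫ a.act = pmul a g x from ?_)
    simp only [w]
    rw [← Category.assoc, comp_lift, lift_snd_assoc, lift_fst, Category.id_comp]
  · simp only [Over.comp_left, GalTw.actK, Over.homMk_left, Category.assoc, pullback.lift_snd, GalTw.secOfPt_left]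

theorem secOfPt_innK (g x : SGA7.Pts K G) :
    GalTw.secOfPt K x ≫ GalTw.innK K g = GalTw.secOfPt K (g * x * g⁻¹) := by
  have hinv : GalTw.secOfPt K g⁻¹ = (GalTw.secOfPt K g)⁻¹ := by
    refine eq_inv_of_mul_eq_one_left ?_
    have h1 : GalTw.secOfPt K (1 : SGA7.Pts K G) = 1 :=
      left_eq_mul.1 ((congrArg (GalTw.secOfPt K) (_root_.mul_one (1 : SGA7.Pts K G)).symm).trans (secOfPt_mul 1 1))
    rw [← secOfPt_mul, inv_mul_cancel, h1]
  rw [secOfPt_mul, secOfPt_mul, hinv, GalTw.innK, MonObj.comp_mul, MonObj.comp_mul, GrpObj.comp_inv, Category.comp_id,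
    ← Category.assoc, toUnit_unique (_ ≫ toUnit _) (𝟙 _), Category.id_comp]

/-- Points of a form. -/
def twistPt (φ : GalTw.bcK K Y ≅ GalTw.bcK K X) : SGA7.Pts K Y ≃ SGA7.Pts K X :=
  secEquiv.trans ((φ.homToEquiv).trans secEquiv.symm)

theorem secOfPt_twistPt (φ : GalTw.bcK K Y ≅ GalTw.bcK K X) (y : SGA7.Pts K Y) :
    GalTw.secOfPt K (twistPt φ y) = GalTw.secOfPt K y ≫ φ.hom := by
  rw [← secEquiv_apply, ← secEquiv_apply]
  simp [twistPt, Iso.homToEquiv]

theorem secOfPt_twistPt_smul (φ : GalTw.bcK K Y ≅ GalTw.bcK K X) (σ : K ≃ₐ[k] K) (y : SGA7.Pts K Y) :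
    GalTw.secOfPt K (twistPt φ (σ • y)) =
      GalTw.secOfPt K (σ • twistPt φ y) ≫ (GalTw.cocycle φ σ).hom := by
  ext1
  rw [secOfPt_twistPt]
  simp only [Over.comp_left, secOfPt_smul, GalTw.cocycle_apply_hom, GalTw.twIso_inv, GalTw.twHom_left, secOfPt_twistPt,
    Category.assoc, GalTw.galMap_mul_assoc, inv_mul_cancel, GalTw.galMap_one, Category.id_comp,
    Over.hom_left_inv_left_assoc]

variable [IsGalois k K]

theorem card_pts_eq :
    Nat.card (SGA7.Pts k Y) = Nat.card {y : SGA7.Pts K Y // ∀ σ : K ≃ₐ[k] K, σ • y = y} :=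
  Nat.card_congr ((ratEquiv Y).trans (Equiv.refl _))

/-- The rational points of a twist through an action. -/
theorem card_actTwist {a : AlgGrp.Action G X}
    {z : GpH1.OneCocycle (K ≃ₐ[k] K) (SGA7.Pts K G)} (h : GalTw.IsActTwist K a z Y) :
    Nat.card (SGA7.Pts k Y) = Nat.card {x : SGA7.Pts K X // ∀ σ, pmul a (z σ) (σ • x) = x} := by
  obtain ⟨φ, hφ⟩ := h
  rw [card_pts_eq (K := K)]
  have key : ∀ σ y, twistPt φ (σ • y) = pmul a (z σ) (σ • twistPt φ y) := fun σ y =>
    secOfPt_injective (by rw [secOfPt_twistPt_smul, hφ, secOfPt_actK])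
  exact Nat.card_congr ((twistPt φ).subtypeEquiv fun y => forall_congr' fun σ => by
    rw [← key]; exact (twistPt φ).injective.eq_iff.symm)

/-- The rational points of an inner form. -/
theorem card_innTwist {G' : Over (Spec (CommRingCat.of k))} [GrpObj G']
    {z : GpH1.OneCocycle (K ≃ₐ[k] K) (SGA7.Pts K G)} (h : GalTw.IsInnTwist K G z G') :
    Nat.card (SGA7.Pts k G') = Nat.card {g : SGA7.Pts K G // ∀ σ, z σ * σ • g * (z σ)⁻¹ = g} := by
  obtain ⟨φ, -, hφ⟩ := h
  rw [card_pts_eq (K := K)]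
  have key : ∀ σ y, twistPt φ (σ • y) = z σ * σ • twistPt φ y * (z σ)⁻¹ := fun σ y =>
    secOfPt_injective (by rw [secOfPt_twistPt_smul, hφ, secOfPt_innK])
  exact Nat.card_congr ((twistPt φ).subtypeEquiv fun y => forall_congr' fun σ => by
    rw [← key]; exact (twistPt φ).injective.eq_iff.symm)

end Groth.Agent.StkCntLib
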