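import Groth.Agent.StkCntLib.FrobFix
import Groth.Agent.Lib.AVFrobExists
import Groth.Agent.VarDim.FibreDim
import Groth.Agent.VarDim.Top
import Groth.Agent.H23.GeomConn
import Groth.Agent.S0348
import Groth.Prelude.Def_AlgGrp

/-!
Lang's theorem for a twisted Frobenius on the points of a connected smooth group.
-/

set_option autoImplicit false
set_option backward.isDefEq.respectTransparency.types false
set_option linter.style.haveILetI false
set_option linter.unusedSectionVars false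

universe u

open CategoryTheory CategoryTheory.Limits MonoidalCategory CartesianMonoidalCategory MonObj AlgebraicGeometry

noncomputable section

namespace Groth.Agent.StkCntLib

variable {k : Type u} [Field k] {K : Type u} [Field K] [Algebra k K]

/-- The Frobenius of a scheme over a finite field, on points. -/
theorem exists_schFrob [Finite k] {π : K ≃ₐ[k] K} (hπ : ∀ x : K, π x = x ^ Nat.card k)
    (X : Over (Spec (CommRingCat.of k))) : ∃ F : X ⟶ X, ∀ y : SGA7.Pts K X, y ≫ F = π • y := by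
  haveI := Fintype.ofFinite k
  obtain ⟨p, hp⟩ := CharP.exists k
  haveI := hp
  obtain ⟨n, hpp, hn⟩ := FiniteField.card k p
  haveI : Fact p.Prime := ⟨hpp⟩
  haveI : FrobSch.IsCharP X.left p := FrobSch.IsCharP.of_hom X.hom p
  have hspec : ∀ (R : Type u) [CommRing R] [CharP R p] (e : R →+* R), (∀ x, e x = x ^ p ^ (n : ℕ)) →
      AVFrobExists.frobPow p (Spec (CommRingCat.of R)) n = Spec.map (CommRingCat.ofHom e) := fun R _ _ e he => by
    refine ext_of_isAffine (CommRingCat.hom_ext (RingHom.ext fun s => ?_))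
    apply (Scheme.ΓSpecIso (CommRingCat.of R)).commRingCatIsoToRingEquiv.injective
    have h1 : (AVFrobExists.frobPow p (Spec (CommRingCat.of R)) n).appTop.hom s = s ^ p ^ (n : ℕ) := by
      show (AVFrobExists.frobPow p (Spec (CommRingCat.of R)) n).app ⊤ s = _
      rw [Scheme.Hom.app_eq_appLE, AVFrobExists.frobPow_appLE]
      exact congrArg (fun g => g.hom s ^ p ^ (n : ℕ)) ((Spec (CommRingCat.of R)).presheaf.map_id _)
    have h2 := congrArg (fun g => g.hom s) (Scheme.ΓSpecIso_naturality (CommRingCat.ofHom e))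
    rw [h1, map_pow]
    exact (he _).symm.trans h2.symm
  have hk : AVFrobExists.frobPow p (Spec (CommRingCat.of k)) n = 𝟙 _ := by
    rw [hspec k (RingHom.id k) fun x => by rw [← hn, FiniteField.pow_card]; rfl]
    exact Spec.map_id _
  haveI : CharP K p := charP_of_injective_algebraMap (algebraMap k K).injective p
  refine ⟨Over.homMk (AVFrobExists.frobPow p X.left n) (by rw [AVFrobExists.frobPow_comp, hk, Category.comp_id]),
    fun y => Over.OverMorphism.ext ?_⟩
  haveI : FrobSch.IsCharP (SGA7.pt (K := k) K).left p :=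
    FrobSch.IsCharP.of_hom (SGA7.pt (K := k) K).hom p
  show y.left ≫ AVFrobExists.frobPow p X.left n = GalTw.specMap K π ≫ y.left
  rw [← AVFrobExists.frobPow_comp]
  exact congrArg (· ≫ y.left) (hspec K π.toRingEquiv.toRingHom fun x => by
    rw [← hn]
    exact (hπ x).trans (by rw [Nat.card_eq_fintype_card]))

/-- An endomorphism of an irreducible variety with a finite fibre fixes the generic point. -/
theorem map_genericPoint {X : Over (Spec (CommRingCat.of k))} [IrreducibleSpace X.left] [LocallyOfFiniteType X.hom]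
    (f : X ⟶ X) (z : X.left)
    (hfib : ∀ x : X.left, f.left x = f.left z → IsClosed ({x} : Set X.left)) :
    f.left (genericPoint X.left) = genericPoint X.left := by
  haveI : LocallyOfFiniteType (f.left ≫ X.hom) := by rw [Over.w f]; infer_instance
  haveI : LocallyOfFiniteType f.left := locallyOfFiniteType_of_comp f.left X.hom
  obtain ⟨x', -, -, hfx, hle⟩ := VarDim.exists_fdeg_ge f.left X.hom (genericPoint_specializes z)
  have h2 := VarDim.deg_eq_add f.left X.hom (Over.w f) x'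
  rw [(VarDim.closedPoint_iff_deg_eq_zero X.hom x').1 (hfib x' hfx)] at h2
  have h3 := VarDim.deg_eq_add f.left X.hom (Over.w f) (genericPoint X.left)
  refine (VarDim.eq_of_specializes_of_deg_le X.hom (genericPoint_specializes _) ?_).symm
  omega

/-- A closed set with finitely many closed points consists of closed points. -/
theorem isClosed_singleton_of_finite {T : Type u} [TopologicalSpace T] [JacobsonSpace T] {C : Set T} (hC : IsClosed C)
    (hfin : (C ∩ closedPoints T).Finite) {x : T} (hx : x ∈ C) : IsClosed ({x} : Set T) := by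
  have h1 : IsClosed (C ∩ closedPoints T) := by
    rw [← Set.biUnion_of_singleton (C ∩ closedPoints T)]
    exact hfin.isClosed_biUnion fun y hy => hy.2
  have h2 := JacobsonSpace.closure_inter_closedPoints_eq_closure hC.isLocallyClosed
  rw [h1.closure_eq, hC.closure_eq] at h2
  have hx' : x ∈ C ∩ closedPoints T := by rw [h2]; exact hx
  exact hx'.2

variable [IsAlgClosed K] [Algebra.IsAlgebraic k K]

/-- Points at the same point are conjugate. -/
theorem exists_smul_eq {X : Over (Spec (CommRingCat.of k))} (y y' : SGA7.Pts K X)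
    (h : y.left (IsLocalRing.closedPoint K) = y'.left (IsLocalRing.closedPoint K)) : ∃ σ : K ≃ₐ[k] K, σ • y = y' := by
  haveI : IsAlgClosure k K := ⟨inferInstance, inferInstance⟩
  haveI : Normal k K := IsAlgClosure.normal k K
  obtain ⟨⟨x, φ⟩, hφ⟩ := (Scheme.SpecToEquivOfField K X.left).symm.surjective y.left
  obtain ⟨⟨x', φ'⟩, hφ'⟩ := (Scheme.SpecToEquivOfField K X.left).symm.surjective y'.left
  change Spec.map φ ≫ X.left.fromSpecResidueField x = y.left at hφ
  change Spec.map φ' ≫ X.left.fromSpecResidueField x' = y'.left at hφ'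
  obtain rfl : x = x' := by
    rw [← hφ, ← hφ', Scheme.Hom.comp_apply, Scheme.Hom.comp_apply, Scheme.fromSpecResidueField_apply,
      Scheme.fromSpecResidueField_apply] at h
    exact h
  let i : CommRingCat.of k ⟶ X.left.residueField x := Spec.preimage (X.left.fromSpecResidueField x ≫ X.hom)
  have hi : Spec.map i = X.left.fromSpecResidueField x ≫ X.hom := Spec.map_preimage _
  letI := i.hom.toAlgebra
  have hc : ∀ (w : SGA7.Pts K X) (ψ : X.left.residueField x ⟶ CommRingCat.of K),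
      Spec.map ψ ≫ X.left.fromSpecResidueField x = w.left → i ≫ ψ = CommRingCat.ofHom (algebraMap k K) := by
    intro w ψ hψ
    apply Spec.map_injective
    rw [Spec.map_comp, hi, ← Category.assoc, hψ]
    exact Over.w w
  let e : X.left.residueField x →ₐ[k] K := { φ.hom with commutes' := fun c => congr($(hc y φ hφ) c) }
  let e' : X.left.residueField x →ₐ[k] K := { φ'.hom with commutes' := fun c => congr($(hc y' φ' hφ') c) }
  let ee : X.left.residueField x ≃ₐ[k] e.fieldRange := AlgEquiv.ofInjectiveField e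
  let g : e.fieldRange →ₐ[k] K := e'.comp ee.symm.toAlgHom
  let σ : K ≃ₐ[k] K := AlgEquiv.ofBijective (g.liftNormal K) (AlgHom.normal_bijective k K K _)
  refine ⟨σ, Over.OverMorphism.ext ?_⟩
  show GalTw.specMap K σ ≫ y.left = y'.left
  rw [← hφ, ← hφ', ← Category.assoc, ← Spec.map_comp]
  refine congrArg (fun ψ => Spec.map ψ ≫ X.left.fromSpecResidueField x) (CommRingCat.hom_ext (RingHom.ext fun a => ?_))
  show g.liftNormal K (e a) = e' a
  have h1 := g.liftNormal_commutes K (ee a)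
  refine h1.trans ?_
  show e' (ee.symm (ee a)) = e' a
  rw [AlgEquiv.symm_apply_apply]

/-- Two endomorphisms of an irreducible variety with finite fibres on points have common values. -/
theorem exists_common_value {X : Over (Spec (CommRingCat.of k))} [IrreducibleSpace X.left] [LocallyOfFiniteType X.hom]
    (f g : X ⟶ X) (hf : ∀ y₀ : SGA7.Pts K X, {y : SGA7.Pts K X | y ≫ f = y₀ ≫ f}.Finite)
    (hg : ∀ y₀ : SGA7.Pts K X, {y : SGA7.Pts K X | y ≫ g = y₀ ≫ g}.Finite) :
    ∃ y₁ y₂ : SGA7.Pts K X, y₁ ≫ f = y₂ ≫ g := by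
  haveI : JacobsonSpace X.left := LocallyOfFiniteType.jacobsonSpace X.hom
  have key : ∀ h : X ⟶ X, (∀ y₀ : SGA7.Pts K X, {y : SGA7.Pts K X | y ≫ h = y₀ ≫ h}.Finite) →
      h.left (genericPoint X.left) = genericPoint X.left := fun h hh => by
    obtain ⟨z, -, hz⟩ := nonempty_inter_closedPoints (X := X.left) (Z := Set.univ)
      ⟨genericPoint X.left, trivial⟩ isClosed_univ.isLocallyClosed
    obtain ⟨y₀, hy₀⟩ := exists_pts (K := K) hz
    haveI : LocallyOfFiniteType (h.left ≫ X.hom) := by rw [Over.w h]; infer_instance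
    haveI : LocallyOfFiniteType h.left := locallyOfFiniteType_of_comp h.left X.hom
    have hhz : IsClosed ({h.left z} : Set X.left) := by
      have h1 := VarDim.deg_eq_add h.left X.hom (Over.w h) z
      rw [(VarDim.closedPoint_iff_deg_eq_zero X.hom z).1 hz] at h1
      exact (VarDim.closedPoint_iff_deg_eq_zero X.hom _).2 (by omega)
    refine map_genericPoint h z fun x hx => ?_
    refine isClosed_singleton_of_finite (hhz.preimage h.left.continuous) ?_ hx
    refine ((hh y₀).image fun y => y.left (IsLocalRing.closedPoint K)).subset fun x hx => ?_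
    obtain ⟨hx', hxc⟩ := hx
    obtain ⟨y, hy⟩ := exists_pts (K := K) hxc
    obtain ⟨σ, hσ⟩ := exists_smul_eq (y ≫ h) (y₀ ≫ h) (by
      simp only [Over.comp_left, Scheme.Hom.comp_apply, hy, hy₀]
      exact hx')
    refine ⟨σ • y, ?_, ?_⟩
    · show (SGA7.specAut σ ≫ y) ≫ h = y₀ ≫ h
      rw [Category.assoc]
      exact hσ
    · show (GalTw.specMap K σ ≫ y.left) (IsLocalRing.closedPoint K) = x
      rw [Scheme.Hom.comp_apply, Subsingleton.elim (α := Spec (CommRingCat.of K)) ((GalTw.specMap K σ) _)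
        (IsLocalRing.closedPoint K), hy]
  obtain ⟨t, -, -⟩ := Scheme.Pullback.exists_preimage_pullback (f := f.left) (g := g.left) (genericPoint X.left)
    (genericPoint X.left) ((key f hf).trans (key g hg).symm)
  let W : Over (Spec (CommRingCat.of k)) := Over.mk (pullback.fst f.left g.left ≫ X.hom)
  haveI : LocallyOfFiniteType (g.left ≫ X.hom) := by rw [Over.w g]; infer_instance
  haveI : LocallyOfFiniteType g.left := locallyOfFiniteType_of_comp g.left X.hom
  haveI : LocallyOfFiniteType W.hom :=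
    inferInstanceAs (LocallyOfFiniteType (pullback.fst f.left g.left ≫ X.hom))
  haveI : JacobsonSpace W.left := LocallyOfFiniteType.jacobsonSpace W.hom
  obtain ⟨w₀, -, hw₀⟩ := nonempty_inter_closedPoints (X := W.left) (Z := Set.univ) ⟨t, trivial⟩
    isClosed_univ.isLocallyClosed
  obtain ⟨w, -⟩ := exists_pts (K := K) hw₀
  let q₁ : W ⟶ X := Over.homMk (pullback.fst f.left g.left) rfl
  let q₂ : W ⟶ X := Over.homMk (pullback.snd f.left g.left) (by
    show pullback.snd f.left g.left ≫ X.hom = pullback.fst f.left g.left ≫ X.hom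
    rw [← Over.w g, ← pullback.condition_assoc, Over.w f, Over.w g])
  refine ⟨w ≫ q₁, w ≫ q₂, ?_⟩
  rw [Category.assoc, Category.assoc]
  exact congrArg (w ≫ ·) (Over.OverMorphism.ext pullback.condition)

section Lang

variable [Finite k] [IsGalois k K]
variable {A B : Over (Spec (CommRingCat.of k))} [GrpObj A] [GrpObj B] [Smooth A.hom] [ConnectedSpace A.left]
  [LocallyOfFiniteType B.hom] [QuasiCompact B.hom]

set_option maxHeartbeats 1000000 in
/-- Lang's theorem for the twist of the Frobenius of a normal subgroup by a point. -/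
theorem twisted_lang (i : A ⟶ B) [IsMonHom i] [Mono i] (c : AlgGrp.Action B A)
    (hc : c.act ≫ i = fst B A * (snd B A ≫ i) * (fst B A)⁻¹) {π : K ≃ₐ[k] K} (hπ : ∀ x : K, π x = x ^ Nat.card k)
    (a : SGA7.Pts K B) (u : SGA7.Pts K A) :
    ∃ v : SGA7.Pts K A, (v ≫ i)⁻¹ * a * π • (v ≫ i) = (u ≫ i) * a := by
  obtain ⟨Fr, hFr⟩ := exists_schFrob hπ A
  obtain ⟨F₁, hF₁, h₁⟩ := exists_level a
  obtain ⟨F₂, hF₂, h₂⟩ := exists_level u
  let F := F₁ ⊔ F₂
  haveI : FiniteDimensional k F := IntermediateField.finiteDimensional_sup F₁ F₂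
  obtain ⟨aF, haF⟩ := h₁ F le_sup_left
  obtain ⟨uF, huF⟩ := h₂ F le_sup_right
  let T := SGA7.pt (K := k) F
  haveI : IrreducibleSpace (A ⊗ T).left := by
    haveI : GeometricallyConnected A.hom := H23.GeomConn.of_point k A.hom η[A].left (Over.w η[A])
    haveI : UniversallyOpen A.hom := UniversallyOpen.of_flat A.hom
    haveI : ConnectedSpace ↥T.left := by
      haveI : Subsingleton ↥T.left := inferInstanceAs (Subsingleton (Spec (CommRingCat.of F)))
      haveI : Nonempty ↥T.left := inferInstanceAs (Nonempty (Spec (CommRingCat.of F)))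
      exact ⟨inferInstance⟩
    haveI : ConnectedSpace (Red.bc T.hom A).left := inferInstanceAs (ConnectedSpace ↥(pullback A.hom T.hom))
    exact S0348.result F (Red.bc T.hom A)
  haveI : LocallyOfFiniteType (A ⊗ T).hom := by
    haveI : LocallyOfFiniteType (pullback.snd A.hom T.hom) := MorphismProperty.pullback_snd A.hom T.hom inferInstance
    haveI := etale_pt (k := k) F
    show LocallyOfFiniteType (pullback.fst A.hom T.hom ≫ A.hom)
    rw [pullback.condition]
    infer_instance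
  let Φ : SGA7.Pts F A → (A ⊗ T ⟶ A ⊗ T) := fun w =>
    lift ((fst A T)⁻¹ * (snd A T ≫ w) * (lift (snd A T ≫ aF) (fst A T ≫ Fr) ≫ c.act)) (snd A T)
  have hΦfst : ∀ (w : SGA7.Pts F A) (y : SGA7.Pts K (A ⊗ T)), (y ≫ Φ w) ≫ fst A T ≫ i =
      ((y ≫ fst A T) ≫ i)⁻¹ * (((y ≫ snd A T) ≫ w) ≫ i * ((y ≫ snd A T) ≫ aF)) * π • ((y ≫ fst A T) ≫ i) *
        ((y ≫ snd A T) ≫ aF)⁻¹ := fun w y => by
    have h0 : (y ≫ Φ w) ≫ fst A T ≫ i = ((y ≫ fst A T) ≫ i)⁻¹ * ((y ≫ snd A T) ≫ w) ≫ i *
        (lift ((y ≫ snd A T) ≫ aF) ((y ≫ fst A T) ≫ Fr) ≫ c.act ≫ i) := by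
      simp only [Φ, Category.assoc, lift_fst_assoc, MonObj.comp_mul, MonObj.mul_comp, GrpObj.comp_inv, GrpObj.inv_comp,
        comp_lift_assoc]
    rw [h0, hc, MonObj.comp_mul, MonObj.comp_mul, GrpObj.comp_inv, lift_fst, lift_snd_assoc, hFr,
      GalTw.pts_smul_def, GalTw.pts_smul_def]
    simp only [Category.assoc]
    group
  have hΦsnd : ∀ (w : SGA7.Pts F A) (y : SGA7.Pts K (A ⊗ T)), (y ≫ Φ w) ≫ snd A T = y ≫ snd A T := fun w y => by
    rw [Category.assoc, lift_snd]
  have hfin : ∀ (w : SGA7.Pts F A) (y₀ : SGA7.Pts K (A ⊗ T)),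
      {y : SGA7.Pts K (A ⊗ T) | y ≫ Φ w = y₀ ≫ Φ w}.Finite := fun w y₀ => by
    have hS := finite_twisted_fixed_grp hπ (((y₀ ≫ snd A T) ≫ w) ≫ i * ((y₀ ≫ snd A T) ≫ aF))
    refine Set.Finite.of_finite_image (f := fun y : SGA7.Pts K (A ⊗ T) =>
      ((y ≫ fst A T) ≫ i) * ((y₀ ≫ fst A T) ≫ i)⁻¹) (hS.subset ?_) ?_
    · rintro _ ⟨y, hy, rfl⟩
      have e : y ≫ snd A T = y₀ ≫ snd A T := by
        rw [← hΦsnd w y, (hy : y ≫ Φ w = y₀ ≫ Φ w), hΦsnd]
      have h1 := congrArg (· ≫ fst A T ≫ i) (hy : y ≫ Φ w = y₀ ≫ Φ w)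
      rw [hΦfst, hΦfst, e] at h1
      have h2 := mul_right_cancel h1
      show _ * _ = _ * π • _
      rw [StkCntLib.smul_mul', smul_inv']
      have h3 : ∀ {M : Type u} [Group M] (p p₀ b P P₀ : M), p⁻¹ * b * P = p₀⁻¹ * b * P₀ →
          p * p₀⁻¹ * b = b * (P * P₀⁻¹) := fun p p₀ b P P₀ h => by
        have h4 : b * P = p * (p₀⁻¹ * b * P₀) := by rw [← h]; group
        rw [← _root_.mul_assoc b, h4]
        group
      exact h3 _ _ _ _ _ h2
    · intro y hy y' hy' h
      have e : y ≫ snd A T = y' ≫ snd A T := by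
        rw [← hΦsnd w y, (hy : y ≫ Φ w = y₀ ≫ Φ w), ← (hy' : y' ≫ Φ w = y₀ ≫ Φ w), hΦsnd]
      exact CartesianMonoidalCategory.hom_ext _ _ ((cancel_mono i).1 (mul_right_cancel h)) e
  obtain ⟨y₁, y₂, h⟩ := exists_common_value (Φ uF) (Φ 1) (hfin uF) (hfin 1)
  obtain ⟨e, he⟩ := exists_algHom_of_pt (y₁ ≫ snd A T)
  obtain ⟨σ, rfl⟩ : ∃ σ : K ≃ₐ[k] K, (σ : K →ₐ[k] K).comp F.val = e :=
    ⟨AlgEquiv.ofBijective (e.liftNormal K) (AlgHom.normal_bijective k K K _),
      AlgHom.ext fun x => e.liftNormal_commutes K x⟩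
  have he₂ : y₂ ≫ snd A T = y₁ ≫ snd A T := by rw [← hΦsnd 1 y₂, ← h, hΦsnd]
  have h' : (σ⁻¹ • y₁) ≫ Φ uF = (σ⁻¹ • y₂) ≫ Φ 1 := by
    rw [GalTw.pts_smul_def, GalTw.pts_smul_def, Category.assoc, Category.assoc, h]
  have hs : ∀ y : SGA7.Pts K (A ⊗ T), y ≫ snd A T = y₁ ≫ snd A T → (σ⁻¹ • y) ≫ snd A T = fldHom F.val :=
    fun y hy => by
    rw [GalTw.pts_smul_def, Category.assoc, hy, he, inclT, ← Category.assoc, ← GalTw.specAut_mul, inv_mul_cancel,
      GalTw.specAut_one, Category.id_comp]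
  have h1 := congrArg (· ≫ fst A T ≫ i) h'
  rw [hΦfst, hΦfst, hs y₁ rfl, hs y₂ he₂, haF, huF, MonObj.comp_one, MonObj.one_comp, _root_.one_mul] at h1
  refine ⟨(σ⁻¹ • y₂) ≫ fst A T * ((σ⁻¹ • y₁) ≫ fst A T)⁻¹, ?_⟩
  rw [MonObj.mul_comp, GrpObj.inv_comp, StkCntLib.smul_mul', smul_inv']
  have h3 : ∀ {M : Type u} [Group M] (p₁ p₂ b a P₁ P₂ : M), p₁⁻¹ * (b * a) * P₁ = p₂⁻¹ * a * P₂ →
      (p₂ * p₁⁻¹)⁻¹ * a * (P₂ * P₁⁻¹) = b * a := fun p₁ p₂ b a P₁ P₂ h => by
    have h4 : (p₂ * p₁⁻¹)⁻¹ * a * (P₂ * P₁⁻¹) = p₁ * (p₂⁻¹ * a * P₂) * P₁⁻¹ := by group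
    rw [h4, ← h]
    group
  exact h3 _ _ _ _ _ _ (mul_right_cancel h1)

end Lang

end Groth.Agent.StkCntLib
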