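import Groth.Agent.StkCntLib.Classes

/-!
Representatives of the classes of values at the Frobenius.
-/

set_option autoImplicit false
set_option backward.isDefEq.respectTransparency.types false
set_option linter.style.haveILetI false
set_option linter.unusedSectionVars false

universe u

open CategoryTheory CategoryTheory.Limits MonoidalCategory CartesianMonoidalCategory MonObj AlgebraicGeometry MulAction

noncomputable section

namespace Groth.Agent.StkCntLib

variable {k : Type u} [Field k] [Finite k] {K : Type u} [Field K] [Algebra k K] [IsAlgClosure k K] [IsAlgClosed K]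
  [IsGalois k K]
variable {G X : Over (Spec (CommRingCat.of k))} [GrpObj G] [Smooth G.hom] [IsAffineHom G.hom]
  [LocallyOfFiniteType X.hom] {aX : AlgGrp.Action G X}

/-- Finitely many classes carry fixed points. -/
theorem exists_class_reps {π : K ≃ₐ[k] K} (hπ : ∀ x : K, π x = x ^ Nat.card k)
    (h : StkCnt.IsEssFinite (StkCnt.pts (AlgSt.QuotSt Scheme.etalePrecoverage G aX) k)) :
    ∃ (J : Type u) (_ : Fintype J) (a : J → SGA7.Pts K G),
      (∀ j, ∃ x : SGA7.Pts K X, pmul aX (a j) (π • x) = x) ∧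
      (∀ (b : SGA7.Pts K G) (x : SGA7.Pts K X), pmul aX b (π • x) = x → ∃ i g, g * a i * (π • g)⁻¹ = b) ∧
      ∀ i j, (∃ g, g * a j * (π • g)⁻¹ = a i) → i = j := by
  classical
  obtain ⟨e, -⟩ := exists_equiv_orbits (aX := aX) hπ
  haveI := h.finite_isoCl
  haveI : Finite (orbitRel.Quotient (SGA7.Pts K G) (Dat π aX)) := Finite.of_equiv _ e
  let c : orbitRel.Quotient (SGA7.Pts K G) (Dat π aX) → orbitRel.Quotient (SGA7.Pts K G) (TwG π G) :=
    Quotient.map' (Dat.proj (π := π) (aX := aX)) fun d d' ⟨g, hg⟩ => ⟨g, (map_smul _ g d').symm.trans (congrArg _ hg)⟩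
  let J := Set.range c
  haveI : Fintype J := (Set.finite_range c).fintype
  let d : J → Dat π aX := fun j => j.2.choose.out
  have hd : ∀ j : J, Quotient.mk _ (Dat.proj (d j)) = j.1 := fun j => by
    conv_rhs => rw [← j.2.choose_spec, ← Quotient.out_eq j.2.choose]
    rfl
  refine ⟨J, inferInstance, fun j => (d j).a, fun j => ⟨(d j).x, (d j).fix'⟩, fun b x hx => ?_, fun i j ⟨g, hg⟩ => ?_⟩
  · let d' : Dat π aX := ⟨b, x, hx⟩
    refine ⟨⟨c (Quotient.mk _ d'), _, rfl⟩, ?_⟩
    have h1 := hd ⟨c (Quotient.mk _ d'), _, rfl⟩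
    obtain ⟨g, hg⟩ := Quotient.exact (h1.symm : Quotient.mk (orbitRel (SGA7.Pts K G) (TwG π G)) (Dat.proj d') = _)
    exact ⟨g, congrArg TwG.val hg⟩
  · refine Subtype.ext ?_
    rw [← hd i, ← hd j]
    exact Quotient.sound ⟨g, TwG.ext hg⟩

end Groth.Agent.StkCntLib
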