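import Groth.Agent.StkCntLib.UnipCount
import Groth.Agent.StkCntLib.TwistLang

/-!
The fixed points of a twisted Frobenius in a normal connected unipotent subgroup.
-/

set_option autoImplicit false
set_option backward.isDefEq.respectTransparency false
set_option backward.isDefEq.respectTransparency.types false
set_option linter.style.haveILetI false
set_option linter.unusedSectionVars false

universe u

open CategoryTheory MonoidalCategory CartesianMonoidalCategory MonObj AlgebraicGeometry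

noncomputable section

namespace Groth.Agent.StkCntLib

section Conj

variable {S : Scheme.{u}} {A B : Over S} [GrpObj A] [GrpObj B] (i : A ⟶ B) [IsMonHom i] [Mono i]

/-- A normal subgroup is acted on by conjugation. -/
theorem exists_conjAction (hn : AlgGrp.IsNormalHom i) :
    ∃ c : AlgGrp.Action B A, c.act ≫ i = fst B A * (snd B A ≫ i) * (fst B A)⁻¹ := by
  obtain ⟨f, hf⟩ := hn (B ⊗ A) (fst B A) (snd B A)
  refine ⟨{ act := f, one_act := ?_, mul_act := ?_ }, hf.symm⟩
  · rw [← cancel_mono i, Category.assoc, ← hf, MonObj.comp_mul, MonObj.comp_mul, GrpObj.comp_inv, whiskerRight_fst,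
      whiskerRight_snd_assoc]
    rw [show fst (𝟙_ (Over S)) A ≫ η[B] = 1 by
      rw [Hom.one_def]; congr 1]
    rw [inv_one, _root_.one_mul, _root_.mul_one]
    rfl
  · rw [← cancel_mono i, Category.assoc, ← hf, Category.assoc, Category.assoc, ← hf]
    simp only [MonObj.comp_mul, GrpObj.comp_inv, whiskerRight_fst, whiskerRight_snd_assoc, whiskerLeft_fst,
      whiskerLeft_snd_assoc, whiskerLeft_fst_assoc, whiskerLeft_snd]
    rw [← hf]
    simp only [MonObj.comp_mul, GrpObj.comp_inv, associator_hom_fst, associator_hom_snd_fst_assoc,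
      associator_hom_snd_snd_assoc, associator_hom_fst_assoc, associator_hom_snd_fst, associator_hom_snd_snd,
      whiskerRight_fst_assoc, whiskerLeft_fst_assoc, Category.assoc]
    have h : fst (B ⊗ B) A ≫ μ[B] = (fst (B ⊗ B) A ≫ fst B B) * (fst (B ⊗ B) A ≫ snd B B) := by
      show _ = lift (fst (B ⊗ B) A ≫ fst B B) (fst (B ⊗ B) A ≫ snd B B) ≫ μ[B]
      rw [← comp_lift, lift_fst_snd, Category.comp_id]
    rw [h, mul_inv_rev]
    group

variable {T : Over S} (c : AlgGrp.Action B A) (hc : c.act ≫ i = fst B A * (snd B A ≫ i) * (fst B A)⁻¹)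

include hc in
theorem pmul_conj_comp (a : T ⟶ B) (x : T ⟶ A) :
    (lift a x ≫ c.act) ≫ i = a * (x ≫ i) * a⁻¹ := by
  rw [Category.assoc, hc, MonObj.comp_mul, MonObj.comp_mul, GrpObj.comp_inv, lift_fst, lift_snd_assoc]

end Conj

variable {k : Type u} [Field k] [Finite k] {K : Type u} [Field K] [Algebra k K] [IsAlgClosure k K] [IsAlgClosed K]
  [IsGalois k K]
variable {A B : Over (Spec (CommRingCat.of k))} [GrpObj A] [GrpObj B] [IsAffineHom A.hom] [Smooth A.hom]
  [ConnectedSpace A.left] [LocallyOfFiniteType B.hom] [QuasiCompact B.hom]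

open GeomFn in
set_option maxHeartbeats 1000000 in
/-- A twisted Frobenius of a normal connected unipotent subgroup fixes `q ^ dim` points. -/
theorem card_twisted_unip {π : K ≃ₐ[k] K} (hπ : ∀ x : K, π x = x ^ Nat.card k) (i : A ⟶ B) [IsMonHom i] [Mono i]
    (hn : AlgGrp.IsNormalHom i) (hu : Red.HasNoSubtorus K (GalTw.bcK K A)) (d : ℕ)
    (hd : topologicalKrullDim ↥A.left = (d : WithBot ℕ∞)) (a : SGA7.Pts K B) :
    Nat.card {x : SGA7.Pts K A // (x ≫ i) * a = a * π • (x ≫ i)} = Nat.card k ^ d := by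
  obtain ⟨c, hc⟩ := exists_conjAction i hn
  haveI : IsAffine A.left := isAffine_of_isAffineHom A.hom
  have hsm : ∀ (σ : K ≃ₐ[k] K) (x : SGA7.Pts K A), σ • (x ≫ i) = (σ • x) ≫ i := fun σ x => by
    rw [GalTw.pts_smul_def, GalTw.pts_smul_def, Category.assoc]
  let σ : SGA7.Pts K A →* SGA7.Pts K A := MonoidHom.mk' (fun x => pmul c a (π • x)) fun x y => by
    refine (cancel_mono i).1 ?_
    rw [MonObj.mul_comp, pmul_conj_comp i c hc, pmul_conj_comp i c hc, pmul_conj_comp i c hc, StkCntLib.smul_mul',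
      MonObj.mul_comp]
    group
  have hσi : ∀ x, σ x ≫ i = a * π • (x ≫ i) * a⁻¹ := fun x => by
    rw [hsm]; exact pmul_conj_comp i c hc a (π • x)
  have key : ∀ x, σ x = x ↔ (x ≫ i) * a = a * π • (x ≫ i) := fun x => by
    rw [← cancel_mono i, hσi, mul_inv_eq_iff_eq_mul, eq_comm]
  rw [← Nat.card_congr (Equiv.subtypeEquivRight key)]
  refine card_fixed_unip hπ hu d hd σ ?_ (fun f => ?_) (fun b => ?_) fun b => ?_
  · obtain ⟨n, hn0, h1, h2⟩ := exists_period π a
    refine ⟨n, hn0, fun x => ?_⟩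
    have hit : ∀ m, σ^[m] x ≫ i = frobProd π a m * π ^ m • (x ≫ i) * (frobProd π a m)⁻¹ := fun m => by
      induction m with
      | zero => simp [frobProd]
      | succ m ih =>
        rw [Function.iterate_succ_apply', hσi, ih, StkCntLib.smul_mul', StkCntLib.smul_mul', smul_inv', ← mul_smul,
          ← pow_succ']
        show _ = a * π • frobProd π a m * _ * (a * π • frobProd π a m)⁻¹
        group
    rw [← cancel_mono i, hit, h1, _root_.one_mul, inv_one, _root_.mul_one, hsm]
  · obtain ⟨Fr, hFr⟩ := exists_schFrob hπ A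
    refine ⟨(GalTw.actK K c a⁻¹).left.appTop (base A f), fun x => ?_⟩
    have h1 : GalTw.secOfPt K (σ x) ≫ GalTw.actK K c a⁻¹ = GalTw.secOfPt K (π • x) := by
      rw [secOfPt_actK, show σ x = pmul c a (π • x) from rfl, ← pmul_mul, inv_mul_cancel, pmul_one]
    show AGFLib.ProjAct.toK ((GalTw.secOfPt K (σ x)).left.appTop ((GalTw.actK K c a⁻¹).left.appTop (base A f))) = _
    rw [← hπ, ← val0_smul, ← val_base]
    show _ = AGFLib.ProjAct.toK ((GalTw.secOfPt K (π • x)).left.appTop (base A f))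
    rw [← h1, Over.comp_left, Scheme.Hom.comp_appTop]
    rfl
  · haveI := (finite_twisted_fixed_grp hπ ((b ≫ i) * a)).to_subtype
    refine Finite.of_injective (fun w : {w : SGA7.Pts K A // w * b = b * σ w} =>
      (⟨w.1 ≫ i, ?_⟩ : {g : SGA7.Pts K B | g * ((b ≫ i) * a) = (b ≫ i) * a * π • g})) ?_
    · have h := congrArg (· ≫ i) w.2
      simp only [MonObj.mul_comp, hσi] at h
      show (w.1 ≫ i) * ((b ≫ i) * a) = (b ≫ i) * a * π • (w.1 ≫ i)
      rw [← _root_.mul_assoc, h]
      group
    · exact fun w w' h => Subtype.ext ((cancel_mono i).1 (congrArg Subtype.val h))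
  · obtain ⟨v, hv⟩ := twisted_lang i c hc hπ a b
    refine ⟨v⁻¹, (cancel_mono i).1 ?_⟩
    have h : σ v⁻¹ ≫ i = a * (π • (v ≫ i))⁻¹ * a⁻¹ := by
      rw [hσi, GrpObj.inv_comp, smul_inv']
    rw [MonObj.mul_comp, GrpObj.inv_comp, GrpObj.inv_comp, h]
    have h2 : (v ≫ i)⁻¹ * a * π • (v ≫ i) * a⁻¹ = b ≫ i := by rw [hv, mul_inv_cancel_right]
    rw [← h2]
    group

end Groth.Agent.StkCntLib
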