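import Groth.Agent.StkCntLib.UniTri
import Groth.Agent.S7975
import Groth.Agent.SigmaLinLib.AlgPow
import Groth.Agent.SigmaLinLib.Basic

/-!
A unipotent representation with a compatible semilinear map has a fixed triangular basis.
-/

set_option autoImplicit false
set_option linter.unusedSectionVars false
set_option linter.style.haveILetI false

universe u v w

open Module Submodule

noncomputable section

namespace Groth.Agent.StkCntLib.UniTri

variable {Γ : Type u} [Group Γ] {F : Type v} [Field F] [IsAlgClosed F] {θ : F →+* F} {q : ℕ}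

/-- A bijective semilinear map has enough fixed vectors. -/
theorem span_fixed (hq : 1 < q) (hθ : ∀ x, θ x = x ^ q) {W : Type w} [AddCommGroup W] [Module F W]
    [FiniteDimensional F W] (T : W →ₛₗ[θ] W) (hT : Function.Surjective T) :
    span F {v : W | T v = v} = ⊤ := by
  refine SigmaLinLib.span_fixed_eq_top T (by rw [hT.range_eq, span_univ]) (SigmaLinLib.pow_fixed_eq hq θ hθ) fun c => ?_
  obtain ⟨y, hy⟩ := SigmaLinLib.exists_pow_sub_eq hq c
  exact ⟨y, by rw [hθ]; exact hy⟩

set_option maxHeartbeats 1000000 in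
/-- A fixed triangular basis. -/
theorem exists_basis (hq : 1 < q) (hθ : ∀ x, θ x = x ^ q) {σ : Γ →* Γ} (hσ : Function.Surjective σ) :
    ∀ (n : ℕ) (W : Type w) [AddCommGroup W] [Module F W] [FiniteDimensional F W],
      finrank F W = n → ∀ (ρ : Γ →* Module.End F W), (∀ g, IsNilpotent (ρ g - 1)) →
      ∀ (T : W →ₛₗ[θ] W), Function.Bijective T → (∀ g v, T (ρ g v) = ρ (σ g) (T v)) →
        ∃ b : Basis (Fin n) F W, (∀ i, T (b i) = b i) ∧ ∀ g j, ρ g (b j) - b j ∈ span F (b '' {i | i < j}) := by
  intro n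
  induction n with
  | zero =>
    intro W _ _ _ hn ρ _ T _ _
    exact ⟨finBasisOfFinrankEq F W hn, fun i => i.elim0, fun _ j => j.elim0⟩
  | succ n ih =>
    intro W _ _ _ hn ρ hρ T hT hρT
    haveI : Nontrivial W := Module.nontrivial_of_finrank_eq_succ hn
    let P : Submodule F W := ⨅ g, LinearMap.ker (ρ g - 1)
    have hP : ∀ v, v ∈ P ↔ ∀ g, ρ g v = v := fun v => by
      simp [P, Submodule.mem_iInf, sub_eq_zero]
    have hTP : ∀ v, T v ∈ P ↔ v ∈ P := fun v => by
      rw [hP, hP]
      refine ⟨fun h g => hT.1 (by rw [hρT]; exact h (σ g)), fun h g => ?_⟩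
      obtain ⟨g, rfl⟩ := hσ g
      rw [← hρT, h g]
    obtain ⟨v₀, hv₀, hv₀f⟩ := S7975.exists_fixed_of_isAlgClosed F W ρ hρ
    let TP : P →ₛₗ[θ] P := SigmaLinLib.res T P fun x hx => (hTP x).2 hx
    have hsurj : Function.Surjective TP := fun y => by
      obtain ⟨x, hx⟩ := hT.2 y.1
      exact ⟨⟨x, (hTP x).1 (hx ▸ y.2)⟩, Subtype.ext hx⟩
    obtain ⟨v, hvT, hv0⟩ : ∃ v : P, TP v = v ∧ v ≠ 0 := by
      by_contra hc
      push Not at hc
      have h := span_fixed hq hθ TP hsurj
      rw [show {v : P | TP v = v} = {0} from Set.eq_singleton_iff_unique_mem.2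
        ⟨map_zero TP, fun x hx => hc x hx⟩, span_zero_singleton] at h
      have h0 : (⟨v₀, (hP v₀).2 hv₀f⟩ : P) = 0 := (Submodule.mem_bot F).1 (h ▸ mem_top)
      exact hv₀ (congrArg Subtype.val h0)
    have hvT' : T v.1 = v.1 := congrArg Subtype.val hvT
    have hvf : ∀ g, ρ g v.1 = v.1 := (hP v.1).1 v.2
    have hv0' : v.1 ≠ 0 := fun h => hv0 (Subtype.ext h)
    let L : Submodule F W := F ∙ v.1
    have hLρ : ∀ g, L ≤ L.comap (ρ g) := fun g => by
      rw [span_singleton_le_iff_mem, mem_comap, hvf]
      exact mem_span_singleton_self _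
    have hLT : L ≤ L.comap T := by
      rw [span_singleton_le_iff_mem, mem_comap, hvT']
      exact mem_span_singleton_self _
    let ρ' : Γ →* Module.End F (W ⧸ L) :=
      { toFun := fun g => L.mapQ L (ρ g) (hLρ g)
        map_one' := linearMap_qext _ (LinearMap.ext fun x => by
          show Submodule.Quotient.mk (ρ 1 x) = Submodule.Quotient.mk x
          rw [map_one]; rfl)
        map_mul' := fun a b => linearMap_qext _ (LinearMap.ext fun x => by
          show Submodule.Quotient.mk (ρ (a * b) x) = Submodule.Quotient.mk (ρ a (ρ b x))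
          rw [map_mul]; rfl) }
    let T' : W ⧸ L →ₛₗ[θ] W ⧸ L := L.mapQ L T hLT
    have hT' : Function.Bijective T' := by
      refine ⟨(injective_iff_map_eq_zero T').2 fun x => ?_, fun y => ?_⟩
      · induction x using Submodule.Quotient.induction_on with
        | _ x =>
          intro hx
          rw [mapQ_apply, Submodule.Quotient.mk_eq_zero, mem_span_singleton] at hx
          obtain ⟨c, hc⟩ := hx
          obtain ⟨d, hd⟩ := IsAlgClosed.exists_pow_nat_eq c (show 0 < q by omega)
          rw [Submodule.Quotient.mk_eq_zero, mem_span_singleton]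
          refine ⟨d, hT.1 ?_⟩
          rw [map_smulₛₗ, hvT', hθ, hd, hc]
      · induction y using Submodule.Quotient.induction_on with
        | _ y =>
          obtain ⟨x, rfl⟩ := hT.2 y
          exact ⟨Submodule.Quotient.mk x, rfl⟩
    have hn' : finrank F (W ⧸ L) = n := by
      have := Submodule.finrank_quotient_add_finrank L
      rw [finrank_span_singleton hv0', hn] at this
      omega
    obtain ⟨b', hb'T, hb'⟩ := ih (W ⧸ L) hn' ρ' (fun g => by
      obtain ⟨m, hm⟩ := hρ g
      refine ⟨m, linearMap_qext _ (LinearMap.ext fun x => ?_)⟩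
      have key : ∀ (l : ℕ) (y : W), ((ρ' g - 1) ^ l) (L.mkQ y) = L.mkQ (((ρ g - 1) ^ l) y) := fun l => by
        induction l with
        | zero => intro y; rfl
        | succ l ihl =>
          intro y
          rw [pow_succ', pow_succ', Module.End.mul_apply, Module.End.mul_apply, ihl]
          rfl
      show ((ρ' g - 1) ^ m) (L.mkQ x) = 0
      rw [key, hm, LinearMap.zero_apply, map_zero]) T' hT' (fun g x => by
      induction x using Submodule.Quotient.induction_on with
      | _ x => show Submodule.Quotient.mk (T (ρ g x)) = Submodule.Quotient.mk (ρ (σ g) (T x)); rw [hρT])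
    have hlift : ∀ i, ∃ u : W, L.mkQ u = b' i ∧ T u = u := fun i => by
      obtain ⟨u, hu⟩ := L.mkQ_surjective (b' i)
      have h1 : T u - u ∈ L := (Submodule.Quotient.eq L).1 (by
        show L.mkQ (T u) = L.mkQ u
        rw [hu, ← hb'T i, ← hu]; rfl)
      obtain ⟨c, hc⟩ := mem_span_singleton.1 h1
      obtain ⟨y, hy⟩ := SigmaLinLib.exists_pow_sub_eq hq c
      refine ⟨u + y • v.1, ?_, ?_⟩
      · have h2 : L.mkQ v.1 = 0 := (Submodule.Quotient.mk_eq_zero L).2 (mem_span_singleton_self _)
        rw [map_add, map_smul, h2, smul_zero, add_zero, hu]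
      · rw [map_add, map_smulₛₗ, hvT', hθ, show T u = c • v.1 + u by rw [hc, sub_add_cancel],
          show y ^ q = y - c by linear_combination hy]
        module
    choose uu huu huT using hlift
    have hzero : ∀ g : Fin n → F, ∑ i, g i • uu i ∈ L → g = 0 := fun g hg => by
      have h1 := (Submodule.Quotient.mk_eq_zero L).2 hg
      have h2 : ∑ i, g i • b' i = 0 := by
        rw [← h1]
        show _ = L.mkQ _
        rw [map_sum]
        exact Finset.sum_congr rfl fun i _ => by rw [map_smul, huu]
      exact funext (Fintype.linearIndependent_iff.1 b'.linearIndependent g h2)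
    have hli : LinearIndependent F (Fin.cons v.1 uu) := by
      refine linearIndependent_finCons.2 ⟨Fintype.linearIndependent_iff.2 fun g hg i =>
        congrFun (hzero g (hg ▸ zero_mem _)) i, fun hmem => ?_⟩
      obtain ⟨g, hg⟩ := (mem_span_range_iff_exists_fun F).1 hmem
      rw [hzero g (hg ▸ mem_span_singleton_self _)] at hg
      exact hv0' (by simpa using hg.symm)
    let b : Basis (Fin (n + 1)) F W :=
      basisOfLinearIndependentOfCardEqFinrank hli (by rw [Fintype.card_fin, hn])
    have hb : ⇑b = Fin.cons v.1 uu := coe_basisOfLinearIndependentOfCardEqFinrank _ _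
    refine ⟨b, fun i => ?_, fun g j => ?_⟩
    · rw [hb]
      exact Fin.cases hvT' huT i
    · induction j using Fin.cases with
      | zero => rw [hb, Fin.cons_zero, hvf, sub_self]; exact zero_mem _
      | succ j =>
        rw [hb, Fin.cons_succ]
        have h1 := hb' g j
        have h2 : L.mkQ (ρ g (uu j) - uu j) ∈ (span F (uu '' {i | i < j})).map L.mkQ := by
          rw [map_span, ← Set.image_comp, show (⇑L.mkQ ∘ uu) = ⇑b' from funext huu,
            map_sub, show L.mkQ (ρ g (uu j)) = ρ' g (L.mkQ (uu j)) from rfl, huu]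
          exact h1
        obtain ⟨y, hy, hye⟩ := mem_map.1 h2
        have h3 : ρ g (uu j) - uu j - y ∈ L := (Submodule.Quotient.eq L).1 hye.symm
        have hle1 : L ≤ span F (Fin.cons v.1 uu '' {i | i < j.succ}) := by
          rw [span_singleton_le_iff_mem]
          exact subset_span ⟨0, Fin.succ_pos j, rfl⟩
        have hle2 : span F (uu '' {i | i < j}) ≤ span F (Fin.cons v.1 uu '' {i | i < j.succ}) :=
          span_mono (Set.image_subset_iff.2 fun i hi => ⟨i.succ, Fin.succ_lt_succ_iff.2 hi, Fin.cons_succ _ _ i⟩)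
        simpa using add_mem (hle1 h3) (hle2 hy)

/-- A representation with a fixed triangular basis gives unitriangular matrices. -/
theorem exists_matrix (hq : 1 < q) (hθ : ∀ x, θ x = x ^ q) {σ : Γ →* Γ} (hσ : Function.Surjective σ)
    {W : Type w} [AddCommGroup W] [Module F W] [FiniteDimensional F W]
    (ρ : Γ →* Module.End F W) (hinj : Function.Injective ρ) (hρ : ∀ g, IsNilpotent (ρ g - 1))
    (T : W →ₛₗ[θ] W) (hT : Function.Bijective T) (hρT : ∀ g v, T (ρ g v) = ρ (σ g) (T v)) :
    ∃ (N : ℕ) (M : Γ →* Matrix (Fin N) (Fin N) F), IsUniTri M ∧ Function.Injective M ∧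
      (∀ g a b, M (σ g) a b = M g a b ^ q) ∧
      ∀ a b, ∃ (l : W →ₗ[F] F) (v : W), ∀ g, M g a b = l (ρ g v) := by
  obtain ⟨b, hbT, hb⟩ := exists_basis hq hθ hσ _ W rfl ρ hρ T hT hρT
  let M : Γ →* Matrix (Fin (finrank F W)) (Fin (finrank F W)) F :=
    ((LinearMap.toMatrixAlgEquiv b).toAlgHom : Module.End F W →* _).comp ρ
  have hM : ∀ g i j, M g i j = b.repr (ρ g (b j)) i := fun g i j => LinearMap.toMatrixAlgEquiv_apply _ _ _ _
  have hrT : ∀ (w : W) i, b.repr (T w) i = b.repr w i ^ q := fun w i => by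
    conv_lhs => rw [← b.sum_repr w]
    rw [map_sum]
    simp only [map_smulₛₗ, hbT, hθ]
    rw [b.repr_sum_self]
  have hlow : ∀ g i j, j ≤ i → b.repr (ρ g (b j)) i = b.repr (b j) i := fun g i j hij => by
    have h1 := b.mem_span_image.1 (hb g j)
    rw [← sub_eq_zero, ← Finsupp.sub_apply, ← map_sub]
    by_contra h2
    exact absurd (h1 (Finsupp.mem_support_iff.2 h2) : i < j) (not_lt.2 hij)
  refine ⟨_, M, ⟨fun g a => ?_, fun g a c hca => ?_⟩, fun g g' h => hinj ?_, fun g a c => ?_,
    fun a c => ⟨b.coord a, b c, fun g => hM g a c⟩⟩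
  · rw [hM, hlow g a a le_rfl, b.repr_self, Finsupp.single_eq_same]
  · rw [hM, hlow g a c hca.le, b.repr_self, Finsupp.single_eq_of_ne hca.ne']
  · exact (LinearMap.toMatrixAlgEquiv b).injective h
  · rw [hM, hM, ← hrT]
    conv_rhs => rw [hρT, hbT]

end Groth.Agent.StkCntLib.UniTri
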