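import Groth.Agent.StkCntLib.GeomFn
import Groth.Agent.StkCntLib.UniBasis
import Groth.Agent.StkCntLib.FrobFix
import Groth.Agent.AGFLib.SolvSection
import Groth.Agent.SolvGrp.Unip
import Mathlib.RingTheory.KrullDimension.Polynomial

/-!
The mass of twisted conjugation of a connected unipotent group with a Frobenius.
-/

set_option autoImplicit false
set_option backward.isDefEq.respectTransparency false
set_option backward.isDefEq.respectTransparency.types false
set_option linter.style.haveILetI false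
set_option linter.unusedSectionVars false

universe u

open CategoryTheory MonoidalCategory CartesianMonoidalCategory MonObj AlgebraicGeometry

noncomputable section

namespace Groth.Agent.StkCntLib

open GrpSchLib GrpSchLib.Kunneth GrpSchLib.LineGroups WeilCmp.Unip SolvGrp GeomFn

variable {k : Type u} [Field k] [Finite k] {K : Type u} [Field K] [Algebra k K] [IsAlgClosure k K] [IsAlgClosed K]
  [IsGalois k K]

/-- Iterates of an endomorphism of a group. -/
def iterHom {Γ : Type u} [Group Γ] (σ : Γ →* Γ) : ℕ → (Γ →* Γ)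
  | 0 => MonoidHom.id Γ
  | n + 1 => σ.comp (iterHom σ n)

theorem iterHom_apply {Γ : Type u} [Group Γ] (σ : Γ →* Γ) : ∀ (n : ℕ) (x : Γ), iterHom σ n x = σ^[n] x
  | 0, _ => rfl
  | n + 1, x => by
    rw [Function.iterate_succ_apply', ← iterHom_apply σ n x]
    rfl

/-- Every scalar of an algebraic closure of a finite field has a period. -/
theorem exists_pow_eq_self (c : K) : ∃ m : ℕ, 0 < m ∧ c ^ (Nat.card k ^ m) = c := by
  haveI : Algebra.IsAlgebraic k K := IsAlgClosure.isAlgebraic
  let E : IntermediateField k K := IntermediateField.adjoin k {c}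
  haveI : FiniteDimensional k E := IntermediateField.adjoin.finiteDimensional (Algebra.IsIntegral.isIntegral c)
  haveI : Finite E := Module.finite_of_finite k
  haveI := Fintype.ofFinite E
  refine ⟨Module.finrank k E, Module.finrank_pos, ?_⟩
  have h := FiniteField.pow_card (⟨c, IntermediateField.mem_adjoin_simple_self k c⟩ : E)
  rw [← Nat.card_eq_fintype_card, Module.natCard_eq_pow_finrank (K := k)] at h
  exact congrArg Subtype.val h

variable {V : Over (Spec (CommRingCat.of K))} [GrpObj V] [IsAffine V.left] [Smooth V.hom] [ConnectedSpace V.left]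

local notation "PT" => 𝟙_ (Over (Spec (CommRingCat.of K)))

set_option maxHeartbeats 2000000 in
/-- Twisted conjugation of a connected unipotent group has mass `q ^ (-dim)`. -/
theorem mass_unip (hu : Red.HasNoSubtorus K V) (d : ℕ) (hd : topologicalKrullDim ↥V.left = (d : WithBot ℕ∞))
    (σ : (PT ⟶ V) →* (PT ⟶ V)) (hσbij : Function.Bijective σ)
    (hreg : ∀ f : Fn V, ∃ g : Fn V, ∀ x, vl (σ x) g = vl x f ^ Nat.card k)
    (hper : ∀ f : Fn V, ∃ n : ℕ, 0 < n ∧ ∀ x, vl (σ^[n] x) f = vl x f ^ (Nat.card k ^ n))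
    (hfix : ∀ n : ℕ, 0 < n → ∀ c : (PT ⟶ V), Finite {w : (PT ⟶ V) // w * c = c * σ^[n] w}) :
    Finite (MulAction.orbitRel.Quotient (PT ⟶ V) (AddFilt.Tw σ)) ∧
      mass (PT ⟶ V) (AddFilt.Tw σ) = ((Nat.card k : ℚ) ^ d)⁻¹ := by
  classical
  haveI : IsReduced V.left := isReduced_of_smooth_field V.hom
  set q := Nat.card k with hqdef
  obtain ⟨p, hpchar⟩ := CharP.exists k
  haveI := hpchar
  haveI := Fintype.ofFinite k
  obtain ⟨⟨s, hs0⟩, hp, hqs⟩ := FiniteField.card k p
  haveI : Fact p.Prime := ⟨hp⟩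
  haveI : CharP K p := charP_of_injective_algebraMap (algebraMap k K).injective p
  have hqp : q = p ^ s := by rw [hqdef, Nat.card_eq_fintype_card]; exact hqs
  have hs : 1 ≤ s := hs0
  have hq1 : 1 < q := Finite.one_lt_card
  let θ : K →+* K := iterateFrobenius K p s
  have hθ : ∀ x, θ x = x ^ q := fun x => by rw [hqp]; exact iterateFrobenius_def p s x
  -- points
  let σe := MulEquiv.ofBijective σ hσbij
  have hsi : ∀ (n : ℕ) x, σ^[n] (σe.symm^[n] x) = x := fun n x =>
    (Function.RightInverse.iterate (fun y => σe.apply_symm_apply y) n : Function.RightInverse _ _) x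
  have his : ∀ (n : ℕ) x, σe.symm^[n] (σ^[n] x) = x := fun n x =>
    (Function.LeftInverse.iterate (fun y => σe.symm_apply_apply y) n : Function.LeftInverse _ _) x
  -- periods
  let per : ℕ → Fn V → Prop := fun n g => ∀ x, vl (σe.symm^[n] x) g ^ (q ^ n) = vl x g
  have hper_mul : ∀ n m g, per n g → per (n * m) g := fun n m g hg => by
    induction m with
    | zero => intro x; simp
    | succ m ih =>
      intro x
      rw [Nat.mul_succ, Function.iterate_add_apply, pow_add, pow_mul, ih, hg]
  have hperiod : ∀ g, ∃ m, 0 < m ∧ per m g := fun g => by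
    obtain ⟨n, hn, h⟩ := hper g
    exact ⟨n, hn, fun x => by rw [← h, hsi]⟩
  have hcommon : ∀ S : Finset (Fn V), ∃ M, 0 < M ∧ ∀ g ∈ S, per M g := fun S => by
    induction S using Finset.induction_on with
    | empty => exact ⟨1, Nat.one_pos, by simp⟩
    | insert g S _ ih =>
      obtain ⟨M, hM, hS⟩ := ih
      obtain ⟨m, hm, hg⟩ := hperiod g
      refine ⟨M * m, Nat.mul_pos hM hm, fun g' hg' => ?_⟩
      rcases Finset.mem_insert.1 hg' with rfl | hg'
      · rw [Nat.mul_comm M]; exact hper_mul _ _ _ hg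
      · exact hper_mul _ _ _ (hS g' hg')
  -- functions of points
  let valA : Fn V →ₐ[K] ((PT ⟶ V) → K) := AlgHom.pi fun x => vl x
  let R : (PT ⟶ V) →* Module.End K ((PT ⟶ V) → K) :=
    { toFun := fun u => LinearMap.funLeft K K (· * u)
      map_one' := LinearMap.ext fun F => funext fun x => by simp [LinearMap.funLeft_apply]
      map_mul' := fun u v => LinearMap.ext fun F => funext fun x => by
        simp [LinearMap.funLeft_apply, _root_.mul_assoc] }
  let T : ((PT ⟶ V) → K) →ₛₗ[θ] ((PT ⟶ V) → K) :=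
    { toFun := fun F x => θ (F (σe.symm x))
      map_add' := fun F G => funext fun x => map_add θ _ _
      map_smul' := fun c F => funext fun x => map_mul θ _ _ }
  have hT_iter : ∀ (n : ℕ) (F : (PT ⟶ V) → K) x, (⇑T)^[n] F x = F (σe.symm^[n] x) ^ (q ^ n) := fun n => by
    induction n with
    | zero => intro F x; simp
    | succ n ih =>
      intro F x
      rw [Function.iterate_succ_apply', Function.iterate_succ_apply]
      show θ ((⇑T)^[n] F (σe.symm x)) = _
      rw [ih, hθ, ← pow_mul, pow_succ]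
  have hTR : ∀ u F, T (R u F) = R (σ u) (T F) := fun u F => funext fun x => by
    show θ (F (σe.symm x * u)) = θ (F (σe.symm (x * σ u)))
    rw [map_mul σe.symm x (σ u), show σe.symm (σ u) = u from σe.symm_apply_apply u]
  have hRA : ∀ u f, R u (valA f) = valA (rt (u) f) := fun u f => funext fun x => (vl_rt x u f).symm
  have hTA : ∀ g, T (valA g) ∈ valA.range := fun f => by
    obtain ⟨g, hg⟩ := hreg f
    refine ⟨g, funext fun x => ?_⟩
    show vl x g = θ (vl (σe.symm x) f)
    rw [hθ, ← hg, show σ (σe.symm x) = x from σe.apply_symm_apply x]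
  have hTA' : ∀ (n : ℕ) g, (⇑T)^[n] (valA g) ∈ valA.range := fun n g => by
    induction n with
    | zero => exact ⟨g, rfl⟩
    | succ n ih =>
      obtain ⟨g', hg'⟩ := ih
      rw [Function.iterate_succ_apply', ← hg']
      exact hTA g'
  have hu' : ∀ u : 𝟙_ (Over (Spec (CommRingCat.of K))) ⟶ V, IsUnipPt u :=
    SolvGrp.isUnipPt_of_hasNoSubtorus hu
  obtain ⟨n', ⟨eA⟩⟩ := AGFLib.SolvSection.exists_poly hu'
  let A := Fn V
  haveI : Algebra.FiniteType K A := Algebra.FiniteType.equiv inferInstance eA.symm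
  let gens : Finset A := Finset.univ.image fun i => eA.symm (MvPolynomial.X i)
  have hgens : ∀ x y : (PT ⟶ V), (∀ g ∈ gens, vl x g = vl y g) → x = y := fun x y h => by
    refine vl_ext (AlgHom.congr_fun (?_ : vl x = vl y))
    have h1 : (vl x).comp eA.symm.toAlgHom = (vl y).comp eA.symm.toAlgHom :=
      MvPolynomial.algHom_ext fun i => h _ (Finset.mem_image_of_mem _ (Finset.mem_univ i))
    exact AlgHom.ext fun g => by simpa using AlgHom.congr_fun h1 (eA g)
  -- a finite stable space of functions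
  obtain ⟨W₀, hW₀fin, hgW₀, hW₀st⟩ := SolvGrp.exists_space (G := V) gens
  haveI := hW₀fin
  obtain ⟨B, hB⟩ := (Module.Finite.iff_fg.1 hW₀fin : W₀.FG)
  obtain ⟨L, hL, hMper⟩ := hcommon (B ∪ gens)
  let S : Set ((PT ⟶ V) → K) := ⋃ i : Fin L, (fun b => (⇑T)^[(i : ℕ)] (valA b)) '' (B : Set A)
  let W : Submodule K ((PT ⟶ V) → K) := Submodule.span K S
  haveI : FiniteDimensional K W :=
    FiniteDimensional.span_of_finite K (Set.finite_iUnion fun i => B.finite_toSet.image _)
  have hWT : ∀ v ∈ W, T v ∈ W := fun v hv => by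
    induction hv using Submodule.span_induction with
    | mem x hx =>
      simp only [S, Set.mem_iUnion, Set.mem_image, Finset.mem_coe] at hx
      obtain ⟨i, b, hb, rfl⟩ := hx
      rw [← Function.iterate_succ_apply' (⇑T) (i : ℕ) (valA b)]
      rcases Nat.lt_or_ge ((i : ℕ) + 1) L with h | h
      · exact Submodule.subset_span (Set.mem_iUnion.2 ⟨⟨(i : ℕ) + 1, h⟩, Set.mem_image_of_mem _ hb⟩)
      · have hiL : (i : ℕ).succ = L := by have := i.2; omega
        refine Submodule.subset_span (Set.mem_iUnion.2 ⟨⟨0, hL⟩, b, hb, funext fun x => ?_⟩)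
        rw [hiL, hT_iter L]
        exact (hMper b (Finset.mem_union_left _ hb) x).symm
    | zero => rw [map_zero]; exact zero_mem _
    | add x y _ _ hx hy => rw [map_add]; exact add_mem hx hy
    | smul c x _ hx => rw [LinearMap.map_smulₛₗ]; exact W.smul_mem _ hx
  have hRbase : ∀ (i : Fin L) (u : (PT ⟶ V)) (f : A), f ∈ W₀ → R u ((⇑T)^[(i : ℕ)] (valA f)) ∈ W := by
    intro i u f hf
    have hcomm : ∀ (n : ℕ) u F, (⇑T)^[n] (R u F) = R (σ^[n] u) ((⇑T)^[n] F) := fun n => by
      induction n with
      | zero => intro u F; rfl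
      | succ n ih => intro u F; rw [Function.iterate_succ_apply', ih, hTR, ← Function.iterate_succ_apply' σ,
          ← Function.iterate_succ_apply' T]
    rw [← hsi (i : ℕ) u, ← hcomm, hRA]
    have hmem := hW₀st ((σe.symm^[(i : ℕ)] u)) f hf
    change rt ((σe.symm^[(i : ℕ)] u)) f ∈ W₀ at hmem
    rw [← hB] at hmem
    generalize rt ((σe.symm^[(i : ℕ)] u)) f = f' at hmem ⊢
    induction hmem using Submodule.span_induction with
    | mem x hx => exact Submodule.subset_span (Set.mem_iUnion.2 ⟨i, Set.mem_image_of_mem _ hx⟩)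
    | zero => rw [map_zero, iterate_map_zero]; exact zero_mem _
    | add x y _ _ hx hy => rw [map_add, iterate_map_add]; exact add_mem hx hy
    | smul c x _ hx => rw [map_smul, SigmaLinLib.iterate_smul]; exact W.smul_mem _ hx
  have hWR : ∀ u, ∀ v ∈ W, R u v ∈ W := fun u v hv => by
    induction hv using Submodule.span_induction with
    | mem x hx =>
      simp only [S, Set.mem_iUnion, Set.mem_image, Finset.mem_coe] at hx
      obtain ⟨i, b, hb, rfl⟩ := hx
      exact hRbase i u b (hB ▸ Submodule.subset_span hb)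
    | zero => rw [map_zero]; exact zero_mem _
    | add x y _ _ hx hy => rw [map_add]; exact add_mem hx hy
    | smul c x _ hx => rw [map_smul]; exact W.smul_mem _ hx
  have hWA : ∀ v ∈ W, ∃ g, valA g = v := fun v hv => by
    induction hv using Submodule.span_induction with
    | mem x hx =>
      simp only [S, Set.mem_iUnion, Set.mem_image, Finset.mem_coe] at hx
      obtain ⟨i, b, -, rfl⟩ := hx
      exact hTA' i b
    | zero => exact ⟨0, map_zero _⟩
    | add x y _ _ hx hy => obtain ⟨a, rfl⟩ := hx; obtain ⟨b, rfl⟩ := hy; exact ⟨a + b, map_add _ _ _⟩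
    | smul c x _ hx => obtain ⟨a, rfl⟩ := hx; exact ⟨c • a, map_smul _ _ _⟩
  let ρ : (PT ⟶ V) →* Module.End K W :=
    { toFun := fun u => (R u).restrict (hWR u)
      map_one' := LinearMap.ext fun v => Subtype.ext (by simp [map_one])
      map_mul' := fun u v => LinearMap.ext fun x => Subtype.ext (by simp [map_mul]) }
  have hρinj : Function.Injective ρ := fun u v h => hgens u v fun g hg => by
    have hgW : valA g ∈ W := by
      have hgB : g ∈ Submodule.span K (B : Set A) := hB.symm ▸ hgW₀ hg
      clear hg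
      induction hgB using Submodule.span_induction with
      | mem x hx => exact Submodule.subset_span (Set.mem_iUnion.2 ⟨⟨0, hL⟩, x, hx, rfl⟩)
      | zero => rw [map_zero]; exact zero_mem _
      | add x y _ _ hx hy => rw [map_add]; exact add_mem hx hy
      | smul c x _ hx => rw [map_smul]; exact W.smul_mem _ hx
    have h1 := congrFun (congrArg Subtype.val (LinearMap.congr_fun h ⟨valA g, hgW⟩)) 1
    change vl (1 * u) g = vl (1 * v) g at h1
    rwa [_root_.one_mul, _root_.one_mul] at h1
  have hρnil : ∀ u, IsNilpotent (ρ u - 1) := fun u => by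
    refine Module.End.isNilpotent_iff_of_finite.2 fun v => ?_
    obtain ⟨g, hg⟩ := hWA v.1 v.2
    obtain ⟨n, hn⟩ := hu' (u) g
    refine ⟨n, Subtype.ext ?_⟩
    have key : ∀ (m : ℕ) (w : W) (f : A), w.1 = valA f →
        (((ρ u - 1) ^ m) w).1 = valA (((rl (u) - 1) ^ m) f) := fun m => by
      induction m with
      | zero => intro w f h; exact h
      | succ m ih =>
        intro w f h
        rw [pow_succ', pow_succ', Module.End.mul_apply, Module.End.mul_apply]
        set y := ((ρ u - 1) ^ m) w with hy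
        show R u y.1 - y.1 = _
        rw [hy, ih w f h, hRA, ← map_sub]
        rfl
    rw [key n v g hg.symm, hn, map_zero]
    rfl
  let TW : W →ₛₗ[θ] W := SigmaLinLib.res T W hWT
  have hθbij : Function.Bijective θ := ⟨θ.injective, fun y => by
    obtain ⟨z, hz⟩ := IsAlgClosed.exists_pow_nat_eq y (show 0 < q by omega)
    exact ⟨z, by rw [hθ, hz]⟩⟩
  have hTinj : Function.Injective T := fun F G h => funext fun x => by
    have := congrFun h (σ x)
    change θ (F (σe.symm (σ x))) = θ (G (σe.symm (σ x))) at this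
    rw [show σe.symm (σ x) = x from σe.symm_apply_apply x] at this
    exact θ.injective this
  have hTW : Function.Bijective TW := by
    refine ⟨fun v w h => Subtype.ext (hTinj (congrArg Subtype.val h)), ?_⟩
    intro y
    obtain ⟨y, hy⟩ := y
    induction hy using Submodule.span_induction with
    | mem x hx =>
      simp only [S, Set.mem_iUnion, Set.mem_image, Finset.mem_coe] at hx
      obtain ⟨i, b, hb, rfl⟩ := hx
      obtain ⟨j, hjL, hj⟩ : ∃ j, j < L ∧ (⇑T)^[j + 1] (valA b) = (⇑T)^[(i : ℕ)] (valA b) := by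
        rcases Nat.eq_zero_or_pos (i : ℕ) with h | h
        · refine ⟨L - 1, by omega, funext fun x => ?_⟩
          rw [Nat.sub_add_cancel hL, h, hT_iter]
          exact hMper b (Finset.mem_union_left _ hb) x
        · exact ⟨(i : ℕ) - 1, by omega, by rw [Nat.sub_add_cancel h]⟩
      exact ⟨⟨(⇑T)^[j] (valA b), Submodule.subset_span (Set.mem_iUnion.2 ⟨⟨j, hjL⟩, Set.mem_image_of_mem _ hb⟩)⟩,
        Subtype.ext ((Function.iterate_succ_apply' _ _ _).symm.trans hj)⟩
    | zero => exact ⟨0, map_zero TW⟩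
    | add x y hx hy ihx ihy =>
      obtain ⟨a, ha⟩ := ihx; obtain ⟨b, hb⟩ := ihy
      exact ⟨a + b, (map_add TW a b).trans (Subtype.ext (congrArg₂ (· + ·) (congrArg Subtype.val ha)
        (congrArg Subtype.val hb)))⟩
    | smul c x hx ihx =>
      obtain ⟨a, ha⟩ := ihx
      obtain ⟨c', rfl⟩ := hθbij.2 c
      exact ⟨c' • a, (LinearMap.map_smulₛₗ TW c' a).trans (Subtype.ext (congrArg (θ c' • ·) (congrArg Subtype.val ha)))⟩
  have hρT : ∀ u v, TW (ρ u v) = ρ (σ u) (TW v) := fun u v => Subtype.ext (hTR u v.1)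
  obtain ⟨N, MM, hUT, hMinj, hMσ, hMent⟩ := UniTri.exists_matrix hq1 hθ hσbij.2 ρ hρinj hρnil TW hTW hρT
  -- entries are functions
  have hfun : ∀ (Λ : ((PT ⟶ V) → K) →ₗ[K] K) (f : A), ∃ h : A, ∀ u, vl u h = Λ (R u (valA f)) := by
    intro Λ f
    obtain ⟨n, w, Nm, -, -, hFw, hw⟩ := AGFLib.exists_stable (G := V) ({f} : Finset A)
    have hf : f ∈ Submodule.span K (Set.range w) := hFw (by simp)
    clear hFw
    induction hf using Submodule.span_induction with
    | mem x hx =>
      obtain ⟨j, rfl⟩ := hx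
      refine ⟨∑ i, Λ (valA (w i)) • Nm i j, fun u => ?_⟩
      have hR : R u (valA (w j)) = ∑ i, vl u (Nm i j) • valA (w i) := funext fun x => by
        show vl (x * u) (w j) = _
        show AGFLib.ProjAct.toK (ev (x * u) (w j)) = _
        rw [hw, map_sum, Finset.sum_apply]
        refine Finset.sum_congr rfl fun i _ => ?_
        rw [map_mul, Pi.smul_apply, smul_eq_mul, _root_.mul_comm]
        rfl
      rw [hR, map_sum, map_sum]
      refine Finset.sum_congr rfl fun i _ => ?_
      rw [map_smul, map_smul, smul_eq_mul, smul_eq_mul, _root_.mul_comm]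
    | zero => exact ⟨0, fun u => by simp⟩
    | add x y _ _ hx hy =>
      obtain ⟨a, ha⟩ := hx; obtain ⟨b, hb⟩ := hy
      exact ⟨a + b, fun u => by rw [map_add, ha, hb, ← map_add, ← map_add, ← map_add]⟩
    | smul c x _ hx =>
      obtain ⟨a, ha⟩ := hx
      exact ⟨c • a, fun u => by rw [map_smul, ha, ← map_smul, ← map_smul, ← map_smul]⟩
  have hentry : ∀ a b, ∃ h : A, ∀ u, vl u h = MM u a b := fun a b => by
    obtain ⟨lam, v, hv⟩ := hMent a b
    obtain ⟨Λ, hΛ⟩ := LinearMap.exists_extend lam
    obtain ⟨g, hg⟩ := hWA v.1 v.2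
    obtain ⟨h, hh⟩ := hfun Λ g
    refine ⟨h, fun u => ?_⟩
    rw [hh, hv, hg, ← hΛ]
    rfl
  choose ent hent using hentry
  have himg : ∀ (S : Finset (Fin N × Fin N)) (r : Fin N × Fin N),
      ((fun g => MM g r.1 r.2) '' {g | ∀ t ∈ S, MM g t.1 t.2 = 0}).Finite ∨
        ((fun g => MM g r.1 r.2) '' {g | ∀ t ∈ S, MM g t.1 t.2 = 0})ᶜ.Finite := fun S r => by
    have he : ((fun g => MM g r.1 r.2) '' {g | ∀ t ∈ S, MM g t.1 t.2 = 0}) =
        (fun χ : A →ₐ[K] K => χ (ent r.1 r.2)) '' {χ | ∀ g ∈ S.image fun t => ent t.1 t.2, χ g = 0} := by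
      ext z
      constructor
      · rintro ⟨u, hu, rfl⟩
        refine ⟨vl u, fun g hg => ?_, hent _ _ u⟩
        obtain ⟨t, ht, rfl⟩ := Finset.mem_image.1 hg
        rw [hent]; exact hu t ht
      · rintro ⟨χ, hχ, rfl⟩
        obtain ⟨u, rfl⟩ := exists_pt (U := V) χ
        exact ⟨u, fun t ht => by rw [← hent]; exact hχ _ (Finset.mem_image_of_mem _ ht), (hent _ _ u).symm⟩
    rw [he]
    exact finite_or_cofinite_image _ _
  haveI : Infinite K := IsAlgClosed.instInfinite
  let F := UniTri.addFilt hUT hMinj himg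
  have hF := UniTri.addFilt_isFrob hUT hMinj himg (show q ≠ 0 by omega) hMσ
  have hmain := AddFilt.mass_tw F p hF hqp hs (fun c => hfix 1 Nat.one_pos c)
  refine ⟨hmain.1, hmain.2.trans ?_⟩
  congr 2
  -- identify the exponent
  have hn' : n' = d := by
    have h1 := hd
    rw [(V.left.isoSpec.hom.homeomorph.isHomeomorph).topologicalKrullDim_eq] at h1
    have h2 : ringKrullDim A = (d : WithBot ℕ∞) := by
      rw [← PrimeSpectrum.topologicalKrullDim_eq_ringKrullDim]
      exact h1
    rw [ringKrullDim_eq_of_ringEquiv eA.toRingEquiv, MvPolynomial.ringKrullDim_of_isNoetherianRing,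
      ringKrullDim_eq_zero_of_field, zero_add] at h2
    rw [Nat.card_eq_fintype_card, Fintype.card_fin] at h2
    exact_mod_cast h2
  have hcount : ∀ m, 0 < m → Nat.card {w : (PT ⟶ V) // iterHom σ (L * m) w = w} = (q ^ (L * m)) ^ n' := by
    intro m hm
    have hp' : ∀ g ∈ gens, per (L * m) g := fun g hg => hper_mul _ _ _ (hMper g (Finset.mem_union_right _ hg))
    let Φ : (PT ⟶ V) ≃ (Fin n' → K) :=
      Equiv.ofBijective (fun x i => vl x (eA.symm (MvPolynomial.X i))) ⟨fun x y h => hgens x y fun g hg => by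
        obtain ⟨i, -, rfl⟩ := Finset.mem_image.1 hg
        exact congrFun h i, fun t => by
        obtain ⟨x, hx⟩ := exists_pt (U := V) ((MvPolynomial.aeval t).comp eA.toAlgHom)
        exact ⟨x, funext fun i => by simp [hx]⟩⟩
    have hfx : ∀ w, iterHom σ (L * m) w = w ↔ ∀ i, Φ w i ^ (q ^ (L * m)) = Φ w i := fun w => by
      rw [iterHom_apply]
      constructor
      · intro hw i
        have h1 := hp' _ (Finset.mem_image_of_mem _ (Finset.mem_univ i)) w
        rwa [show σe.symm^[L * m] w = w by conv_lhs => rw [← hw, his]] at h1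
      · intro hw
        have h2 : σe.symm^[L * m] w = w := hgens _ _ fun g hg => by
          obtain ⟨i, -, rfl⟩ := Finset.mem_image.1 hg
          have h1 := (hp' _ hg w).trans (hw i).symm
          rw [hqp, ← pow_mul] at h1
          exact iterateFrobenius_inj K p (s * (L * m)) h1
        conv_lhs => rw [← h2, hsi]
    rw [Nat.card_congr ((Φ.subtypeEquiv hfx).trans
      (Equiv.subtypePiEquivPi (p := fun _ : Fin n' => fun v : K => v ^ (q ^ (L * m)) = v)))]
    rw [Nat.card_pi, Finset.prod_const, Finset.card_univ, Fintype.card_fin]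
    congr 1
    exact AddFilt.card_fixed_pow (F := K) p (s := s * (L * m)) (by rw [hqp, ← pow_mul]) (Nat.mul_pos hs0 (Nat.mul_pos hL hm))
  have hfixn : ∀ m, 0 < m → ∀ c, Finite {w : (PT ⟶ V) // w * c = c * iterHom σ (L * m) w} := fun m hm c => by
    simp only [iterHom_apply]
    exact hfix _ (Nat.mul_pos hL hm) c
  have hfrob : ∀ m, F.IsFrob (iterHom σ (L * m)) (q ^ (L * m)) := fun m =>
    hF.iterate F (L * m) (iterHom σ (L * m)) (iterHom_apply σ (L * m))
  rw [← hn']
  refine le_antisymm ?_ ?_
  · have h1 := AddFilt.pow_le_card_fixed F p (hfrob 1) (s := s * (L * 1)) (by rw [hqp, ← pow_mul])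
      (Nat.mul_pos hs0 (by omega)) (hfixn 1 Nat.one_pos) 1
    have h2 : Nat.card {w : (PT ⟶ V) // w * 1 = 1 * iterHom σ (L * 1) w} =
        Nat.card {w : (PT ⟶ V) // iterHom σ (L * 1) w = w} :=
      Nat.card_congr (Equiv.subtypeEquivRight fun w => by rw [_root_.mul_one, _root_.one_mul]; exact eq_comm)
    rw [h2, hcount 1 Nat.one_pos] at h1
    exact (Nat.pow_le_pow_iff_right (Nat.one_lt_pow (by omega) hq1)).1 h1
  · by_contra hlt
    push Not at hlt
    let m := F.bound F.len + 1
    have hm : 0 < m := Nat.succ_pos _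
    have hfinm : Finite {w : (PT ⟶ V) // iterHom σ (L * m) w = w} := by
      haveI := hfixn m hm 1
      exact Finite.of_equiv _ (Equiv.subtypeEquivRight fun w : (PT ⟶ V) => by
        rw [_root_.mul_one, _root_.one_mul]; exact eq_comm : {w : (PT ⟶ V) // w * 1 = 1 * iterHom σ (L * m) w} ≃ _)
    have h1 := AddFilt.card_fixed_le F p (hfrob m) (s := s * (L * m)) (by rw [hqp, ← pow_mul])
      (Nat.mul_pos hs0 (Nat.mul_pos hL hm)) hfinm
    rw [hcount m hm] at h1
    have hQ : F.bound F.len < q ^ (L * m) := by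
      have h2 : m ≤ L * m := Nat.le_mul_of_pos_left m hL
      have h3 := Nat.lt_pow_self hq1 (n := L * m)
      omega
    have h4 : (q ^ (L * m)) ^ (F.expo F.len) * q ^ (L * m) ≤ (q ^ (L * m)) ^ n' := by
      rw [← pow_succ]
      exact Nat.pow_le_pow_right (Nat.pow_pos (by omega)) hlt
    have h5 := h4.trans h1
    rw [Nat.mul_comm (F.bound F.len)] at h5
    have h6 := Nat.le_of_mul_le_mul_left h5 (Nat.pow_pos (Nat.pow_pos (by omega)))
    omega

end Groth.Agent.StkCntLib
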