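import Groth.Agent.StkCntLib.StabScheme
import Groth.Agent.StkCntLib.UnipMass
import Groth.Agent.StkCntLib.TwistLang
import Groth.Agent.StkCntLib.Classes
import Groth.Agent.SolvGrp.Sub

/-!
The mass of a stabiliser with unipotent identity component.
-/

set_option autoImplicit false
set_option backward.isDefEq.respectTransparency false
set_option backward.isDefEq.respectTransparency.types false
set_option linter.style.haveILetI false
set_option linter.unusedSectionVars false

universe u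

open CategoryTheory CategoryTheory.Limits MonoidalCategory CartesianMonoidalCategory MonObj AlgebraicGeometry MulAction

noncomputable section

namespace Groth.Agent.StkCntLib

open GrpSchLib GrpSchLib.Kunneth GrpSchLib.LineGroups WeilCmp.Unip SolvGrp GeomFn

variable {k : Type u} [Field k] {K : Type u} [Field K] [Algebra k K]
variable {G X : Over (Spec (CommRingCat.of k))} [GrpObj G]

local notation "PK" => 𝟙_ (Over (Spec (CommRingCat.of K)))

/-- Sections of the base change as points. -/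
def ptsHom : (PK ⟶ GalTw.bcK K G) →* SGA7.Pts K G :=
  MonoidHom.mk' (secEquiv (k := k) (K := K) (X := G)).symm fun a b => (secEquiv (k := k) (K := K) (X := G)).injective (by
    rw [Equiv.apply_symm_apply, secEquiv_apply, secOfPt_mul, ← secEquiv_apply, ← secEquiv_apply,
      Equiv.apply_symm_apply, Equiv.apply_symm_apply])

theorem secOfPt_ptsHom (g : PK ⟶ GalTw.bcK K G) : GalTw.secOfPt K (ptsHom g) = g := by
  rw [← secEquiv_apply]; exact Equiv.apply_symm_apply _ _

theorem ptsHom_secOfPt (g : SGA7.Pts K G) : ptsHom (GalTw.secOfPt K g) = g :=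
  secOfPt_injective (secOfPt_ptsHom _)

theorem secOfPt_comp (F : G ⟶ G) (x : SGA7.Pts K G) :
    GalTw.secOfPt K x ≫ (Over.pullback (SGA7.pt (K := k) K).hom).map F = GalTw.secOfPt K (x ≫ F) := by
  rw [secOfPt_eq_homEquiv, secOfPt_eq_homEquiv]
  exact ((Over.mapPullbackAdj (SGA7.pt (K := k) K).hom).homEquiv_naturality_right _ _).symm

variable [Finite k] [IsAlgClosure k K] [IsAlgClosed K] [IsGalois k K] [Smooth G.hom] [IsAffineHom G.hom]
variable {π : K ≃ₐ[k] K}

theorem finite_pow_twisted_grp (hπ : ∀ x : K, π x = x ^ Nat.card k) {n : ℕ} (hn : 0 < n) (c : SGA7.Pts K G) :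
    {w : SGA7.Pts K G | w * c = c * π ^ n • w}.Finite := by
  obtain ⟨m, hm, h1, -⟩ := exists_period (π ^ n) c
  refine (finite_fixed_pow (X := G) hπ (Nat.mul_pos hn hm)).subset fun w hw => ?_
  have h2 := conj_fixed_iterate (π ^ n) c w hw m
  rw [h1, _root_.mul_one, _root_.one_mul, ← pow_mul] at h2
  exact h2.symm

variable {D : Over (Spec (CommRingCat.of K))} [GrpObj D] [Smooth D.hom] [ConnectedSpace D.left]

set_option maxHeartbeats 1000000 in
set_option synthInstance.maxHeartbeats 200000 in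
/-- The mass of a twisted Frobenius on a connected unipotent subgroup over the algebraic closure. -/
theorem mass_subgroup (hπ : ∀ x : K, π x = x ^ Nat.card k) (j : D ⟶ GalTw.bcK K G) [IsMonHom j]
    [IsClosedImmersion j.left] (hu : Red.HasNoSubtorus K D) (d : ℕ)
    (hd : topologicalKrullDim ↥D.left = (d : WithBot ℕ∞)) (b : SGA7.Pts K G) (τ : (PK ⟶ D) →* (PK ⟶ D))
    (hτ : ∀ w, ptsHom (τ w ≫ j) = b * π • ptsHom (w ≫ j) * b⁻¹) (hτbij : Function.Bijective τ) :
    Finite (orbitRel.Quotient (PK ⟶ D) (AddFilt.Tw τ)) ∧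
      mass (PK ⟶ D) (AddFilt.Tw τ) = ((Nat.card k : ℚ) ^ d)⁻¹ := by
  haveI : IsAffine G.left := isAffine_of_isAffineHom G.hom
  haveI := isAffine_bcK (K := K) (U := G)
  haveI := smooth_bcK (K := K) (U := G)
  obtain ⟨haff, -, -, hmono, hev⟩ := sub_props j
  haveI := haff
  haveI := hmono
  obtain ⟨p, hpchar⟩ := CharP.exists k
  haveI := hpchar
  haveI := Fintype.ofFinite k
  obtain ⟨s, hp, hqs⟩ := FiniteField.card k p
  haveI : Fact p.Prime := ⟨hp⟩
  haveI : CharP K p := charP_of_injective_algebraMap (algebraMap k K).injective p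
  have hqp : Nat.card k = p ^ (s : ℕ) := by rw [Nat.card_eq_fintype_card]; exact hqs
  have hval : ∀ (w : PK ⟶ D) (f : Fn (GalTw.bcK K G)), vl w (ev j f) = val (ptsHom (w ≫ j)) f := fun w f => by
    rw [val, secOfPt_ptsHom]; rfl
  have hgen : ∀ (P : Fn D → Prop), (∀ f, P (ev j (base G f))) → (∀ c, P (algebraMap K _ c)) →
      (∀ a b, P a → P b → P (a + b)) → (∀ a b, P a → P b → P (a * b)) → ∀ g, P g := by
    intro P h1 h2 h3 h4 g
    obtain ⟨g, rfl⟩ := hev g
    have hg : g ∈ Algebra.adjoin K (Set.range (base (K := K) G)) := by rw [adjoin_base]; exact Algebra.mem_top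
    induction hg using Algebra.adjoin_induction with
    | mem x hx => obtain ⟨f, rfl⟩ := hx; exact h1 f
    | algebraMap c => rw [AlgHom.commutes]; exact h2 c
    | add x y _ _ hx hy => rw [map_add]; exact h3 _ _ hx hy
    | mul x y _ _ hx hy => rw [map_mul]; exact h4 _ _ hx hy
  have hit : ∀ (n : ℕ) (w : PK ⟶ D),
      ptsHom (τ^[n] w ≫ j) = frobProd π b n * π ^ n • ptsHom (w ≫ j) * (frobProd π b n)⁻¹ := fun n w => by
    induction n with
    | zero => simp [frobProd]
    | succ m ih =>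
      rw [Function.iterate_succ_apply', hτ, ih, StkCntLib.smul_mul', StkCntLib.smul_mul', smul_inv', ← mul_smul,
        ← pow_succ']
      show _ = b * π • frobProd π b m * _ * (b * π • frobProd π b m)⁻¹
      group
  obtain ⟨l, hl, hP, -⟩ := exists_period π b
  refine mass_unip hu d hd τ hτbij ?_ ?_ fun n hn c => ?_
  · refine hgen _ (fun f => ⟨ev j (ev (GalTw.innK K b⁻¹) (base G f)), fun w => ?_⟩)
      (fun c => ⟨algebraMap K _ (c ^ Nat.card k), fun w => ?_⟩) ?_ ?_
    · rw [hval, hval, hτ]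
      show _ = val (ptsHom (w ≫ j)) (base G f) ^ Nat.card k
      rw [val_base, ← hπ, ← val0_smul, ← val_base, val, val, vl_ev, secOfPt_innK,
        show b⁻¹ * (b * π • ptsHom (w ≫ j) * b⁻¹) * b⁻¹⁻¹ = π • ptsHom (w ≫ j) by group]
    · rw [AlgHom.commutes, AlgHom.commutes]; rfl
    · rintro a a₂ ⟨a', ha⟩ ⟨b', hb⟩
      exact ⟨a' + b', fun x => by rw [map_add, map_add, ha, hb, hqp, add_pow_char_pow]⟩
    · rintro a a₂ ⟨a', ha⟩ ⟨b', hb⟩
      exact ⟨a' * b', fun x => by rw [map_mul, map_mul, ha, hb, mul_pow]⟩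
  · have hper : ∀ f, ∃ m, 0 < m ∧ ∀ w, vl (τ^[l * m] w) f = vl w f ^ (Nat.card k ^ (l * m)) := by
      have hmul : ∀ f m i, (∀ w, vl (τ^[l * m] w) f = vl w f ^ (Nat.card k ^ (l * m))) →
          ∀ w, vl (τ^[l * (m * i)] w) f = vl w f ^ (Nat.card k ^ (l * (m * i))) := fun f m i h => by
        induction i with
        | zero => intro w; simp
        | succ i ih =>
          intro w
          rw [Nat.mul_succ, Nat.mul_add, Nat.add_comm, Function.iterate_add_apply, h, ih, ← pow_mul, ← pow_add,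
            Nat.add_comm]
      refine hgen _ (fun f => ⟨1, Nat.one_pos, fun w => ?_⟩) (fun c => ?_) ?_ ?_
      · rw [Nat.mul_one, hval, hval, hit, hP, _root_.one_mul, inv_one, _root_.mul_one, val_base, val_base, val0_smul,
          frobenius_pow hπ]
      · obtain ⟨m, hm, hc⟩ := exists_pow_eq_self (k := k) c
        refine ⟨m, hm, fun w => ?_⟩
        rw [AlgHom.commutes, AlgHom.commutes]
        show c = c ^ (Nat.card k ^ (l * m))
        rw [Nat.mul_comm, pow_mul]
        clear hmul hP hl w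
        induction l with
        | zero => simp
        | succ i ih => rw [pow_succ, pow_mul, ← ih, hc]
      · rintro a a₂ ⟨m, hm, ha⟩ ⟨m', hm', hb⟩
        refine ⟨m * m', Nat.mul_pos hm hm', fun x => ?_⟩
        rw [map_add, map_add, hmul a m m' ha, Nat.mul_comm m, hmul a₂ m' m hb, hqp, ← pow_mul, add_pow_char_pow]
      · rintro a a₂ ⟨m, hm, ha⟩ ⟨m', hm', hb⟩
        refine ⟨m * m', Nat.mul_pos hm hm', fun x => ?_⟩
        rw [map_mul, map_mul, hmul a m m' ha, Nat.mul_comm m, hmul a₂ m' m hb, mul_pow]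
    intro f
    obtain ⟨m, hm, h⟩ := hper f
    exact ⟨l * m, Nat.mul_pos hl hm, h⟩
  · let c' := ptsHom (c ≫ j) * frobProd π b n
    haveI := (finite_pow_twisted_grp hπ hn c').to_subtype
    refine Finite.of_injective (fun w : {w : PK ⟶ D // w * c = c * τ^[n] w} =>
      (⟨ptsHom (w.1 ≫ j), ?_⟩ : {g : SGA7.Pts K G | g * c' = c' * π ^ n • g})) fun w w' h => ?_
    · have h := congrArg (fun z : PK ⟶ D => ptsHom (z ≫ j)) w.2
      simp only [MonObj.mul_comp, map_mul, hit] at h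
      show _ * (_ * _) = _ * _ * _
      rw [← _root_.mul_assoc, h]
      group
    · exact Subtype.ext ((cancel_mono j).1 ((secEquiv (k := k) (K := K) (X := G)).symm.injective
        (congrArg (fun g : {g : SGA7.Pts K G | g * c' = c' * π ^ n • g} => g.1) h)))

section Stab

variable [LocallyOfFiniteType X.hom] {aX : AlgGrp.Action G X}

/-- The points with the action of the group. -/
@[ext]
structure PX (aX : AlgGrp.Action G X) (K : Type u) [Field K] [Algebra k K] where
  /-- the point -/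
  val : SGA7.Pts K X

instance : MulAction (SGA7.Pts K G) (PX aX K) where
  smul g x := ⟨pmul aX g x.val⟩
  one_smul x := PX.ext (pmul_one aX x.val)
  mul_smul g h x := PX.ext (pmul_mul aX g h x.val)

theorem PX.mem_stabilizer_iff (g : SGA7.Pts K G) (x : PX aX K) :
    g ∈ stabilizer (SGA7.Pts K G) x ↔ pmul aX g x.val = x.val := by
  rw [MulAction.mem_stabilizer_iff, PX.ext_iff]
  rfl

/-- The point of a datum. -/
def Dat.xproj : Dat π aX →[SGA7.Pts K G] PX aX K where
  toFun d := ⟨d.x⟩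
  map_smul' _ _ := rfl

omit [Smooth D.hom] [ConnectedSpace D.left] in
set_option maxHeartbeats 2000000 in
set_option synthInstance.maxHeartbeats 200000 in
/-- The data over a point have mass `q ^ (-dim)` as soon as a connected unipotent subgroup has finite index in the
stabiliser. -/
theorem mass_stab_core (hπ : ∀ x : K, π x = x ^ Nat.card k) (x : SGA7.Pts K X) (a₀ : SGA7.Pts K G)
    (ha₀ : pmul aX a₀ (π • x) = x) {P0 : Over (Spec (CommRingCat.of K))} [GrpObj P0] (j : P0 ⟶ GalTw.bcK K G)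
    [IsMonHom j] [IsClosedImmersion j.left] [Smooth P0.hom] [ConnectedSpace P0.left] (hu0 : Red.HasNoSubtorus K P0)
    (d : ℕ) (hdim : topologicalKrullDim ↥P0.left = (d : WithBot ℕ∞))
    (hfixj : ∀ w : PK ⟶ P0, pmul aX (ptsHom (w ≫ j)) x = x) (T : Set (SGA7.Pts K G)) (hT : T.Finite)
    (hcov : ∀ g, pmul aX g x = x → ∃ t ∈ T, pmul aX t x = x ∧ ∃ q : PK ⟶ P0, t * ptsHom (q ≫ j) = g) :
    Finite (orbitRel.Quotient (stabilizer (SGA7.Pts K G) (⟨x⟩ : PX aX K))
        (Fib (Dat.xproj (π := π) (aX := aX)) (⟨x⟩ : PX aX K))) ∧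
      mass (stabilizer (SGA7.Pts K G) (⟨x⟩ : PX aX K)) (Fib (Dat.xproj (π := π) (aX := aX)) (⟨x⟩ : PX aX K)) =
        ((Nat.card k : ℚ) ^ d)⁻¹ := by
  classical
  haveI : IsAffine G.left := isAffine_of_isAffineHom G.hom
  haveI := isAffine_bcK (K := K) (U := G)
  haveI := smooth_bcK (K := K) (U := G)
  haveI : QuasiCompact (GalTw.bcK K G).hom := by
    haveI : IsAffineHom (GalTw.bcK K G).hom := isAffineHom_of_isAffine _
    infer_instance
  obtain ⟨haff0, hl0, hq0, hmono, -⟩ := sub_props j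
  haveI := haff0
  haveI := hl0
  haveI := hq0
  haveI := hmono
  let W := stabilizer (SGA7.Pts K G) (⟨x⟩ : PX aX K)
  have hW : ∀ g, g ∈ W ↔ pmul aX g x = x := fun g => PX.mem_stabilizer_iff g _
  let inc : (PK ⟶ P0) →* SGA7.Pts K G := MonoidHom.mk' (fun w => ptsHom (w ≫ j)) fun a b => by
    rw [MonObj.mul_comp, map_mul]
  have hincinj : Function.Injective inc := fun a b h =>
    (cancel_mono j).1 ((secEquiv (k := k) (K := K) (X := G)).symm.injective h)
  have hincW : ∀ w, inc w ∈ W := fun w => (hW _).2 (hfixj w)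
  -- the finitely many translates
  have hcover : ∀ g ∈ W, ∃ t ∈ T, t ∈ W ∧ ∃ q, t * inc q = g := fun g hg => by
    obtain ⟨t, ht, htx, q, hq⟩ := hcov g ((hW g).1 hg)
    exact ⟨t, ht, (hW t).2 htx, q, hq⟩
  -- the identity component is preserved by algebraic endomorphisms of the stabiliser
  have hpres : ∀ (φ : SGA7.Pts K G →* SGA7.Pts K G) (ψ : GalTw.bcK K G ⟶ GalTw.bcK K G),
      (∀ g, GalTw.secOfPt K (φ g) = GalTw.secOfPt K g ≫ ψ) → (∀ g ∈ W, φ g ∈ W) →
        ∀ w, φ (inc w) ∈ inc.range := by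
    intro φ ψ hψ hφ w
    let Γ : Subgroup (PK ⟶ P0) := inc.range.comap (φ.comp inc)
    have hΓ : PtsClosed (Γ : Set (PK ⟶ P0)) := by
      have e : (Γ : Set (PK ⟶ P0)) = {v | v ≫ (j ≫ ψ) ∈ (rangePts j : Set (PK ⟶ GalTw.bcK K G))} := by
        ext v
        show (∃ v', inc v' = φ (inc v)) ↔ ∃ v', v' ≫ j = v ≫ (j ≫ ψ)
        refine exists_congr fun v' => ?_
        rw [← Category.assoc v j ψ, ← secOfPt_ptsHom (v ≫ j), ← hψ, ← secOfPt_ptsHom (v' ≫ j)]
        exact ⟨fun h => congrArg _ h, fun h => secOfPt_injective h⟩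
      rw [e]
      exact (ptsClosed_range j).preimage _
    have hmap : ∀ v, ∃ t ∈ T, t ∈ W ∧ ∃ q, t * inc q = φ (inc v) := fun v => hcover _ (hφ _ (hincW v))
    let rep : SGA7.Pts K G → (PK ⟶ P0) := fun t =>
      if h : ∃ v, ∃ q, t * inc q = φ (inc v) then h.choose else 1
    have htop := eq_top_of_finite Γ hΓ (rep '' T) (hT.image rep) fun v => by
      obtain ⟨t, ht, -, q, hq⟩ := hmap v
      have hex : ∃ v, ∃ q, t * inc q = φ (inc v) := ⟨v, q, hq⟩
      refine ⟨rep t, ⟨t, ht, rfl⟩, ?_⟩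
      simp only [rep, dif_pos hex]
      obtain ⟨q', hq'⟩ := hex.choose_spec
      refine ⟨q'⁻¹ * q, ?_⟩
      show _ = φ (inc (hex.choose⁻¹ * v))
      rw [map_mul, map_mul, map_mul, map_inv, map_inv, map_inv, ← hq, ← hq']
      group
    obtain ⟨v', hv'⟩ : w ∈ Γ := htop ▸ Subgroup.mem_top w
    exact ⟨v', hv'⟩
  let D0 : Subgroup W := inc.range.comap W.subtype
  -- the twisted Frobenius
  obtain ⟨Fr, hFr⟩ := exists_schFrob hπ G
  let σG : SGA7.Pts K G →* SGA7.Pts K G := MonoidHom.mk' (fun g => a₀ * π • g * a₀⁻¹) fun g h => by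
    rw [StkCntLib.smul_mul']; group
  have hσGbij : Function.Bijective σG := by
    refine ⟨fun g h e => smul_left_cancel π (mul_left_cancel (mul_right_cancel e)), fun y => ⟨π⁻¹ • (a₀⁻¹ * y * a₀), ?_⟩⟩
    show a₀ * π • (π⁻¹ • (a₀⁻¹ * y * a₀)) * a₀⁻¹ = y
    rw [smul_inv_smul]; group
  have ha₀' : pmul aX a₀⁻¹ x = π • x := by
    conv_lhs => rw [← ha₀]
    rw [← pmul_mul, inv_mul_cancel, pmul_one]
  have hσW : ∀ g, σG g ∈ W ↔ g ∈ W := fun g => by
    rw [hW, hW]
    show pmul aX (a₀ * π • g * a₀⁻¹) x = x ↔ _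
    rw [pmul_mul, pmul_mul, ha₀', ← smul_pmul]
    constructor
    · intro h
      rw [← smul_left_cancel_iff π]
      conv_rhs => rw [← ha₀', ← h, ← pmul_mul, inv_mul_cancel, pmul_one]
    · intro h; rw [h, ha₀]
  have hσψ : ∀ g, GalTw.secOfPt K (σG g) =
      GalTw.secOfPt K g ≫ (Over.pullback (SGA7.pt (K := k) K).hom).map Fr ≫ GalTw.innK K a₀ := fun g => by
    rw [← Category.assoc, secOfPt_comp, hFr, secOfPt_innK]
    rfl
  let σ : W →* W := MonoidHom.mk' (fun g => ⟨σG g, (hσW g).2 g.2⟩) fun g h => Subtype.ext (map_mul σG g.1 h.1)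
  have hσbij : Function.Bijective σ := by
    refine ⟨fun g h e => Subtype.ext (hσGbij.1 (congrArg Subtype.val e)), fun y => ?_⟩
    obtain ⟨g, hg⟩ := hσGbij.2 y.1
    exact ⟨⟨g, (hσW g).1 (hg ▸ y.2)⟩, Subtype.ext hg⟩
  haveI hnormal : D0.Normal := ⟨fun w hw c => by
    obtain ⟨v, hv⟩ := hw
    obtain ⟨v', hv'⟩ := hpres (MulAut.conj c.1).toMonoidHom (GalTw.innK K c.1)
      (fun g => by rw [secOfPt_innK]; rfl) (fun g hg => mul_mem (mul_mem c.2 hg) (inv_mem c.2)) v
    refine ⟨v', hv'.trans ?_⟩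
    show c.1 * inc v * c.1⁻¹ = _
    rw [hv]
    rfl⟩
  have hfinQ : Finite (W ⧸ D0) := by
    haveI := hT.to_subtype
    refine Finite.of_surjective (fun t : {t : T // (t : SGA7.Pts K G) ∈ W} => (QuotientGroup.mk ⟨t.1.1, t.2⟩ : W ⧸ D0))
      fun z => QuotientGroup.induction_on z fun g => ?_
    obtain ⟨t, ht, htW, q, hq⟩ := hcover g.1 g.2
    refine ⟨⟨⟨t, ht⟩, htW⟩, QuotientGroup.eq.2 ⟨q, ?_⟩⟩
    show inc q = t⁻¹ * g.1
    rw [← hq, inv_mul_cancel_left]
  have hσD : ∀ g : W, σ g ∈ D0 ↔ g ∈ D0 := by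
    have h1 : ∀ g : W, g ∈ D0 → σ g ∈ D0 := fun g ⟨v, hv⟩ => by
      obtain ⟨v', hv'⟩ := hpres σG _ hσψ (fun g hg => (hσW g).2 hg) v
      exact ⟨v', hv'.trans (by rw [hv]; rfl)⟩
    let σQ : W ⧸ D0 →* W ⧸ D0 := QuotientGroup.map D0 D0 σ fun g hg => h1 g hg
    have hQ : Function.Surjective σQ := fun z => QuotientGroup.induction_on z fun g => by
      obtain ⟨g', rfl⟩ := hσbij.2 g
      exact ⟨QuotientGroup.mk g', rfl⟩
    have hQi : Function.Injective σQ := Finite.injective_iff_surjective.2 hQ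
    refine fun g => ⟨fun hg => ?_, h1 g⟩
    rw [← QuotientGroup.eq_one_iff] at hg ⊢
    exact hQi (hg.trans (map_one σQ).symm)
  -- the mass on each coset
  let incW : (PK ⟶ P0) →* W := inc.codRestrict W hincW
  have hincWinj : Function.Injective incW := fun u v h => hincinj (congrArg Subtype.val h)
  have hD0 : ∀ g : W, g ∈ D0 ↔ ∃ v, incW v = g := fun g =>
    ⟨fun ⟨v, hv⟩ => ⟨v, Subtype.ext hv⟩, fun ⟨v, hv⟩ => ⟨v, congrArg Subtype.val hv⟩⟩
  have hconj : ∀ (c : W) v, c * incW v * c⁻¹ ∈ D0 := fun c v => hnormal.conj_mem _ ((hD0 _).2 ⟨v, rfl⟩) c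
  let p : AddFilt.Tw σ →[D0] W ⧸ D0 :=
    { toFun := fun y => QuotientGroup.mk y.val
      map_smul' := fun g y => by
        show (QuotientGroup.mk ((g : W) * y.val * (σ g)⁻¹) : W ⧸ D0) = QuotientGroup.mk ((g : W) * y.val)
        rw [QuotientGroup.eq]
        have : ((g : W) * y.val * (σ g)⁻¹)⁻¹ * ((g : W) * y.val) = σ g := by group
        rw [this]
        exact (hσD g).2 g.2 }
  have htriv : ∀ (g : D0) (z : W ⧸ D0), g • z = z := fun g z => QuotientGroup.induction_on z fun y => by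
    show (QuotientGroup.mk ((g : W) * y) : W ⧸ D0) = QuotientGroup.mk y
    rw [QuotientGroup.eq]
    have : ((g : W) * y)⁻¹ * y = y⁻¹ * (g : W)⁻¹ * y⁻¹⁻¹ := by group
    rw [this]
    exact hnormal.conj_mem _ (inv_mem g.2) y⁻¹
  have hfib : ∀ z : W ⧸ D0, Finite (orbitRel.Quotient (stabilizer D0 z) (Fib p z)) ∧
      mass (stabilizer D0 z) (Fib p z) = ((Nat.card k : ℚ) ^ d)⁻¹ := by
    intro z
    induction z using QuotientGroup.induction_on with
    | H c =>
      choose τf hτf using fun v => (hD0 _).1 ((hσD _).2 (hconj c v))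
      let τ : (PK ⟶ P0) →* (PK ⟶ P0) := MonoidHom.mk' τf fun u v => hincWinj (by
        rw [map_mul incW (τf u), hτf, hτf, hτf, ← map_mul σ, map_mul incW]
        congr 1
        group)
      have hτ : ∀ v, incW (τ v) = σ (c * incW v * c⁻¹) := hτf
      have hτbij : Function.Bijective τ := by
        refine ⟨fun u v h => hincWinj ?_, fun w => ?_⟩
        · have h1 := hσbij.1 ((hτ u).symm.trans ((congrArg incW h).trans (hτ v)))
          exact mul_left_cancel (mul_right_cancel h1)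
        · obtain ⟨y, hy⟩ := hσbij.2 (incW w)
          have hy' : c⁻¹ * y * c⁻¹⁻¹ ∈ D0 := hnormal.conj_mem y ((hσD y).1 ((hD0 _).2 ⟨w, hy.symm⟩)) c⁻¹
          obtain ⟨v, hv⟩ := (hD0 _).1 hy'
          refine ⟨v, hincWinj ?_⟩
          rw [hτ, hv, ← hy]
          congr 1
          group
      obtain ⟨h1, h2⟩ := mass_subgroup hπ j hu0 d hdim (σG c.1 * a₀) τ (fun v => by
        have h := congrArg Subtype.val (hτ v)
        show inc (τ v) = σG c.1 * a₀ * π • inc v * (σG c.1 * a₀)⁻¹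
        refine h.trans ?_
        show σG (c.1 * inc v * c.1⁻¹) = _
        rw [map_mul, map_mul, map_inv]
        show σG c.1 * (a₀ * π • inc v * a₀⁻¹) * (σG c.1)⁻¹ = _
        group) hτbij
      let e : (PK ⟶ P0) ≃* stabilizer D0 (QuotientGroup.mk c : W ⧸ D0) :=
        MulEquiv.ofBijective (MonoidHom.mk' (fun v => ⟨⟨c * incW v * c⁻¹, hconj c v⟩, htriv _ _⟩) fun u v =>
          Subtype.ext (Subtype.ext (show c * incW (u * v) * c⁻¹ = c * incW u * c⁻¹ * (c * incW v * c⁻¹) by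
            rw [map_mul]; group)))
          ⟨fun u v h => hincWinj (mul_left_cancel (mul_right_cancel
            (congrArg (fun g : stabilizer D0 (QuotientGroup.mk c : W ⧸ D0) => (g.1 : W)) h))), fun g => by
            obtain ⟨v, hv⟩ := (hD0 _).1 (hnormal.conj_mem _ g.1.2 c⁻¹)
            refine ⟨v, Subtype.ext (Subtype.ext ?_)⟩
            show c * incW v * c⁻¹ = _
            rw [hv]; group⟩
      have hEmem : ∀ y : AddFilt.Tw τ, (QuotientGroup.mk (c * incW y.val) : W ⧸ D0) = QuotientGroup.mk c := fun y => by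
        rw [QuotientGroup.eq, _root_.mul_inv_rev, _root_.mul_assoc, inv_mul_cancel, _root_.mul_one]
        exact inv_mem ((hD0 _).2 ⟨_, rfl⟩)
      let E : AddFilt.Tw τ ≃ Fib p (QuotientGroup.mk c : W ⧸ D0) :=
        Equiv.ofBijective (fun y => ⟨⟨c * incW y.val⟩, hEmem y⟩)
          ⟨fun u v h => AddFilt.Tw.ext (hincWinj (mul_left_cancel
            (congrArg (fun g : Fib p (QuotientGroup.mk c : W ⧸ D0) => g.1.val) h))), fun g => by
            obtain ⟨v, hv⟩ := (hD0 _).1 (QuotientGroup.eq.1 g.2.symm : c⁻¹ * g.1.val ∈ D0)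
            refine ⟨⟨v⟩, Subtype.ext (AddFilt.Tw.ext ?_)⟩
            show c * incW v = _
            rw [hv, mul_inv_cancel_left]⟩
      have hcg' := mass_congr e.symm E.symm fun g y => by
        obtain ⟨v, rfl⟩ := e.surjective g
        obtain ⟨z, rfl⟩ := E.surjective y
        refine E.injective ?_
        rw [Equiv.apply_symm_apply, MulEquiv.symm_apply_apply, Equiv.symm_apply_apply]
        exact (Subtype.ext (AddFilt.Tw.ext (by
          show c * incW (v * z.val * (τ v)⁻¹) = c * incW v * c⁻¹ * (c * incW z.val) * (σ (c * incW v * c⁻¹))⁻¹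
          rw [map_mul, map_mul, map_inv, hτ]
          group)) : E (v • z) = e v • E z).symm
      exact ⟨hcg'.1 h1, hcg'.2.trans h2⟩
  haveI := hfinQ
  haveI := Fintype.ofFinite (W ⧸ D0)
  haveI : ∀ z : W ⧸ D0, Finite (orbitRel.Quotient (stabilizer D0 z) (Fib p z)) := fun z => (hfib z).1
  have hD0fin : Finite (orbitRel.Quotient D0 (AddFilt.Tw σ)) :=
    finite_quotient_of_fib p id fun y => ⟨p y, mem_orbit_self _⟩
  have hD0mass : mass D0 (AddFilt.Tw σ) = (Nat.card (W ⧸ D0) : ℚ) * ((Nat.card k : ℚ) ^ d)⁻¹ := by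
    rw [mass_eq_sum_fib p id (fun y => ⟨p y, mem_orbit_self _⟩) fun z z' ⟨g, hg⟩ => hg.symm.trans (htriv g z'),
      Finset.sum_congr rfl fun z _ => (hfib (id z)).2, Finset.sum_const, Finset.card_univ, nsmul_eq_mul,
      ← Nat.card_eq_fintype_card]
  let eK : (QuotientGroup.mk' D0).ker ≃* D0 := MulEquiv.subgroupCongr (QuotientGroup.ker_mk' D0)
  have hK := mass_congr (D := AddFilt.Tw σ) (E := AddFilt.Tw σ) eK (Equiv.refl _) fun _ _ => rfl
  obtain ⟨hWfin, hWmass⟩ := mass_ker (D := AddFilt.Tw σ) (QuotientGroup.mk' D0) (QuotientGroup.mk'_surjective D0)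
    (fun y => by
      haveI := (finite_twisted_fixed_grp hπ (y.val.1 * a₀)).to_subtype
      refine Finite.of_injective (fun g : stabilizer W y =>
        (⟨g.1.1, ?_⟩ : {g : SGA7.Pts K G | g * (y.val.1 * a₀) = y.val.1 * a₀ * π • g})) fun g g' h =>
          Subtype.ext (Subtype.ext (congrArg (fun g : {g : SGA7.Pts K G | g * (y.val.1 * a₀) = y.val.1 * a₀ * π • g} => g.1) h))
      have h : g.1.1 * y.val.1 = y.val.1 * (a₀ * π • g.1.1 * a₀⁻¹) :=
        congrArg Subtype.val ((AddFilt.Tw.mem_stabilizer_iff g.1 y).1 g.2)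
      show g.1.1 * (y.val.1 * a₀) = y.val.1 * a₀ * π • g.1.1
      rw [← _root_.mul_assoc, h]
      group) (hK.1 hD0fin)
  rw [hK.2, hD0mass, mul_div_cancel_left₀ _ (Nat.cast_ne_zero.2 Nat.card_pos.ne')] at hWmass
  -- the fibre is the stabiliser translated
  let E : Fib (Dat.xproj (π := π) (aX := aX)) (⟨x⟩ : PX aX K) ≃ AddFilt.Tw σ :=
    { toFun := fun y => ⟨⟨y.1.a * a₀⁻¹, (hW _).2 (by
        have hx : y.1.x = x := congrArg PX.val y.2
        have hf := y.1.fix'
        rw [hx] at hf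
        rw [pmul_mul, ha₀', hf])⟩⟩
      invFun := fun y => ⟨⟨y.val.1 * a₀, x, by rw [pmul_mul, ha₀, (hW _).1 y.val.2]⟩, rfl⟩
      left_inv := fun y => Subtype.ext (Dat.ext (inv_mul_cancel_right _ _) (congrArg PX.val y.2).symm)
      right_inv := fun y => AddFilt.Tw.ext (Subtype.ext (mul_inv_cancel_right _ _)) }
  have hE := mass_congr (MulEquiv.refl W) E fun g y => AddFilt.Tw.ext (Subtype.ext (by
    show g.1 * y.1.a * (π • g.1)⁻¹ * a₀⁻¹ = g.1 * (y.1.a * a₀⁻¹) * (a₀ * π • g.1 * a₀⁻¹)⁻¹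
    group))
  exact ⟨hE.1 hWfin, hE.2.trans hWmass⟩


omit [Smooth D.hom] [ConnectedSpace D.left] in
set_option maxHeartbeats 2000000 in
set_option synthInstance.maxHeartbeats 200000 in
/-- The data over a point with unipotent stabiliser have mass `q ^ (-dim)`. -/
theorem mass_stab (hπ : ∀ x : K, π x = x ^ Nat.card k) (x : SGA7.Pts K X) (a₀ : SGA7.Pts K G)
    (ha₀ : pmul aX a₀ (π • x) = x) (S : Over (Spec (CommRingCat.of K))) [GrpObj S] (s : S ⟶ GalTw.bcK K G)
    [IsMonHom s] [Mono s]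
    (hS : ∀ (T : Over (Spec (CommRingCat.of K))) (g : (Over.map (SGA7.pt (K := k) K).hom).obj T ⟶ G),
      (∃ g' : T ⟶ S, g' ≫ s = (Over.mapPullbackAdj (SGA7.pt (K := k) K).hom).homEquiv T G g) ↔
        lift g (StabScheme.bpt T ≫ x) ≫ aX.act = StabScheme.bpt T ≫ x)
    (hu : Red.HasNoSubtorus K S) (d : ℕ) (hd : topologicalKrullDim ↥S.left = (d : WithBot ℕ∞)) :
    Finite (orbitRel.Quotient (stabilizer (SGA7.Pts K G) (⟨x⟩ : PX aX K))
        (Fib (Dat.xproj (π := π) (aX := aX)) (⟨x⟩ : PX aX K))) ∧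
      mass (stabilizer (SGA7.Pts K G) (⟨x⟩ : PX aX K)) (Fib (Dat.xproj (π := π) (aX := aX)) (⟨x⟩ : PX aX K)) =
        ((Nat.card k : ℚ) ^ d)⁻¹ := by
  classical
  haveI : IsAffine G.left := isAffine_of_isAffineHom G.hom
  haveI := isAffine_bcK (K := K) (U := G)
  haveI := smooth_bcK (K := K) (U := G)
  haveI : QuasiCompact (GalTw.bcK K G).hom := by
    haveI : IsAffineHom (GalTw.bcK K G).hom := isAffineHom_of_isAffine _
    infer_instance
  haveI hsc := StabScheme.isClosedImmersion hS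
  obtain ⟨haffS, hlS, hqS, -, -⟩ := sub_props s
  haveI := hlS
  haveI := hqS
  obtain ⟨P0, _, i, hi, hic, hsm, hcon, hdim, T, hT, hcov⟩ := StabScheme.exists_idComp_dim (P := S) d hd
  haveI := hi
  haveI := hic
  haveI := hsm
  haveI := hcon
  let j : P0 ⟶ GalTw.bcK K G := i ≫ s
  haveI : IsClosedImmersion j.left := inferInstanceAs (IsClosedImmersion (i.left ≫ s.left))
  obtain ⟨haff0, hl0, hq0, hmono, -⟩ := sub_props j
  haveI := haff0
  haveI := hl0
  haveI := hq0
  haveI := hmono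
  haveI : Mono i := AGFLib.BorelExist.mono_of_closedImmersion i
  have hu0 : Red.HasNoSubtorus K P0 := fun Tt _ t _ _ hTt => hu Tt (t ≫ i) hTt
  refine mass_stab_core hπ x a₀ ha₀ j hu0 d hdim (fun w => ?_) ((fun t => ptsHom (t ≫ s)) '' T) (hT.image _) fun g hg => ?_
  · refine (StabScheme.mem_range_iff hS _).1 ⟨w ≫ i, ?_⟩
    rw [secOfPt_ptsHom, Category.assoc]
  · obtain ⟨h, hh⟩ := (StabScheme.mem_range_iff hS g).2 hg
    obtain ⟨t, ht, q, hq⟩ := hcov h
    refine ⟨_, ⟨t, ht, rfl⟩, (StabScheme.mem_range_iff hS _).1 ⟨t, (secOfPt_ptsHom _).symm⟩, q, ?_⟩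
    rw [← map_mul, show q ≫ j = (q ≫ i) ≫ s from (Category.assoc _ _ _).symm, ← MonObj.mul_comp, hq, hh, ptsHom_secOfPt]

end Stab

end Groth.Agent.StkCntLib
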