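import Groth.Agent.StkCntLib.StabMass
import Groth.Agent.StkCntLib.ClassReps
import Groth.Agent.StkCntLib.FinPts

/-!
Actions on finite schemes: mass of the data, Galois stability of orbits, rational points of affine space.
-/

set_option autoImplicit false
set_option backward.isDefEq.respectTransparency false
set_option backward.isDefEq.respectTransparency.types false
set_option linter.style.haveILetI false
set_option linter.unusedSectionVars false

universe u w

open CategoryTheory CategoryTheory.Limits MonoidalCategory CartesianMonoidalCategory MonObj AlgebraicGeometry MulAction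

noncomputable section

namespace Groth.Agent.StkCntLib

open GrpSchLib GrpSchLib.Kunneth GrpSchLib.LineGroups WeilCmp.Unip SolvGrp GeomFn

variable {k : Type u} [Field k] [Finite k] {K : Type u} [Field K] [Algebra k K] [IsAlgClosure k K] [IsAlgClosed K]
  [IsGalois k K]
variable {π : K ≃ₐ[k] K}

/-- A point fixed by the Frobenius is fixed by Galois. -/
theorem smul_eq_of_frob_fixed (hπ : ∀ x : K, π x = x ^ Nat.card k) {X : Over (Spec (CommRingCat.of k))}
    [LocallyOfFiniteType X.hom] (x : SGA7.Pts K X) (h : π • x = x) (σ : K ≃ₐ[k] K) : σ • x = x := by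
  obtain ⟨i, hi⟩ := Frob.exists_pow_mem hπ ((fun τ => σ⁻¹ * τ) ⁻¹' {τ | τ • x = x})
    ((isOpen_stabilizer x).preimage (continuous_const_mul σ⁻¹)) ⟨σ, by simp⟩
  have h1 : (σ⁻¹ * π ^ i) • x = x := hi
  rw [mul_smul, inv_smul_eq_iff] at h1
  rw [← h1]
  exact (stabilizer (K ≃ₐ[k] K) x).zpow_mem (show π ∈ stabilizer (K ≃ₐ[k] K) x from h) i

theorem card_pts_frob (hπ : ∀ x : K, π x = x ^ Nat.card k) (X : Over (Spec (CommRingCat.of k)))
    [LocallyOfFiniteType X.hom] : Nat.card (SGA7.Pts k X) = Nat.card {x : SGA7.Pts K X // π • x = x} := by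
  rw [card_pts_eq (K := K) (Y := X)]
  exact Nat.card_congr (Equiv.subtypeEquivRight fun x => ⟨fun h => h π, fun h σ => smul_eq_of_frob_fixed hπ x h σ⟩)

/-- Affine space has `q ^ n` rational points. -/
theorem card_pts_affineSpace (V : Over (Spec (CommRingCat.of k))) (n : ℕ)
    (eV : V.left ≅ 𝔸(ULift.{u} (Fin n); Spec (CommRingCat.of k)))
    (heV : eV.hom ≫ (𝔸(ULift.{u} (Fin n); Spec (CommRingCat.of k)) ↘ Spec (CommRingCat.of k)) = V.hom) :
    Nat.card (SGA7.Pts k V) = Nat.card k ^ n := by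
  let T := (SGA7.pt (K := k) k).left
  letI : T.Over (Spec (CommRingCat.of k)) := ⟨(SGA7.pt (K := k) k).hom⟩
  let e : SGA7.Pts k V ≃ {f : T ⟶ 𝔸(ULift.{u} (Fin n); Spec (CommRingCat.of k)) // f.IsOver (Spec (CommRingCat.of k))} :=
    { toFun := fun x => ⟨x.left ≫ eV.hom, ⟨by rw [Category.assoc, heV]; exact Over.w x⟩⟩
      invFun := fun f => Over.homMk (f.1 ≫ eV.inv) (by
        rw [← heV, Category.assoc, Iso.inv_hom_id_assoc]
        exact f.2.1)
      left_inv := fun x => Over.OverMorphism.ext (by simp)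
      right_inv := fun f => Subtype.ext (by simp) }
  rw [Nat.card_congr (e.trans (AffineSpace.homOverEquiv (Spec (CommRingCat.of k)))), Nat.card_fun, Nat.card_ulift, Nat.card_fin,
    show Nat.card Γ(T, ⊤) = Nat.card k from
      Nat.card_congr (Scheme.ΓSpecIso (CommRingCat.of k)).commRingCatIsoToRingEquiv.toEquiv]

variable {G X : Over (Spec (CommRingCat.of k))} [GrpObj G] [Smooth G.hom] [IsAffineHom G.hom]
  [LocallyOfFiniteType X.hom] {aX : AlgGrp.Action G X}

/-- An orbit through a datum is stable under Galois. -/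
theorem exists_pmul_smul_eq (hπ : ∀ x : K, π x = x ^ Nat.card k) (a : SGA7.Pts K G) (y : SGA7.Pts K X)
    (hay : pmul aX a (π • y) = y) (σ : K ≃ₐ[k] K) : ∃ g, pmul aX g (σ • y) = y := by
  let T : Subgroup (K ≃ₐ[k] K) :=
    { carrier := {τ | ∃ g, pmul aX g (τ • y) = y}
      one_mem' := ⟨1, by rw [one_smul, pmul_one]⟩
      mul_mem' := fun {τ τ'} ⟨g, hg⟩ ⟨g', hg'⟩ => ⟨g * τ • g', by
        rw [pmul_mul, mul_smul, ← smul_pmul, hg', hg]⟩
      inv_mem' := fun {τ} ⟨g, hg⟩ => ⟨(τ⁻¹ • g)⁻¹, by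
        have h1 : pmul aX (τ⁻¹ • g) y = τ⁻¹ • y := by
          conv_rhs => rw [← hg]
          rw [smul_pmul, inv_smul_smul]
        rw [← h1, ← pmul_mul, inv_mul_cancel, pmul_one]⟩ }
  obtain ⟨i, hi⟩ := Frob.exists_pow_mem hπ ((fun τ => σ⁻¹ * τ) ⁻¹' {τ | τ • y = y})
    ((isOpen_stabilizer y).preimage (continuous_const_mul σ⁻¹)) ⟨σ, by simp⟩
  have hi' : π ^ i • y = σ • y := by
    have h1 : (σ⁻¹ * π ^ i) • y = y := hi
    rwa [mul_smul, inv_smul_eq_iff] at h1
  obtain ⟨g, hg⟩ := T.zpow_mem (show π ∈ T from ⟨a, hay⟩) i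
  exact ⟨g, by rw [← hi']; exact hg⟩

/-- Finitely many orbits of data have finitely many classes of values at the Frobenius. -/
theorem exists_class_reps_of_finite [Finite (orbitRel.Quotient (SGA7.Pts K G) (Dat π aX))] :
    ∃ (J : Type u) (_ : Fintype J) (a : J → SGA7.Pts K G),
      (∀ (b : SGA7.Pts K G) (x : SGA7.Pts K X), pmul aX b (π • x) = x → ∃ i g, g * a i * (π • g)⁻¹ = b) ∧
      ∀ i j, (∃ g, g * a j * (π • g)⁻¹ = a i) → i = j := by
  classical
  let c : orbitRel.Quotient (SGA7.Pts K G) (Dat π aX) → orbitRel.Quotient (SGA7.Pts K G) (TwG π G) :=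
    Quotient.map' (Dat.proj (π := π) (aX := aX)) fun d d' ⟨g, hg⟩ => ⟨g, (map_smul _ g d').symm.trans (congrArg _ hg)⟩
  let J := Set.range c
  haveI : Fintype J := (Set.finite_range c).fintype
  refine ⟨J, inferInstance, fun j => (Quotient.out (s := orbitRel (SGA7.Pts K G) (TwG π G)) j.1).val,
    fun b x hx => ?_, fun i j ⟨g, hg⟩ => ?_⟩
  · let d' : Dat π aX := ⟨b, x, hx⟩
    refine ⟨⟨c (Quotient.mk _ d'), _, rfl⟩, ?_⟩
    obtain ⟨g, hg⟩ := Quotient.exact ((Quotient.out_eq (c (Quotient.mk _ d'))).symm :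
      Quotient.mk (orbitRel (SGA7.Pts K G) (TwG π G)) (Dat.proj d') = _)
    exact ⟨g, congrArg TwG.val hg⟩
  · refine Subtype.ext ?_
    rw [← Quotient.out_eq i.1, ← Quotient.out_eq j.1]
    exact Quotient.sound ⟨g, TwG.ext hg⟩

variable {E : Over (Spec (CommRingCat.of k))} [IsFinite E.hom] {aE : AlgGrp.Action G E}

set_option maxHeartbeats 1000000 in
set_option synthInstance.maxHeartbeats 200000 in
/-- The data over a point of a finite scheme have mass `q ^ (-dim)`. -/
theorem mass_stab_finite (hπ : ∀ x : K, π x = x ^ Nat.card k) (hu : Red.HasNoSubtorus K (GalTw.bcK K G)) (d : ℕ)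
    (hd : topologicalKrullDim ↥G.left = (d : WithBot ℕ∞)) (x : SGA7.Pts K E) (a₀ : SGA7.Pts K G)
    (ha₀ : pmul aE a₀ (π • x) = x) :
    Finite (orbitRel.Quotient (stabilizer (SGA7.Pts K G) (⟨x⟩ : PX aE K))
        (Fib (Dat.xproj (π := π) (aX := aE)) (⟨x⟩ : PX aE K))) ∧
      mass (stabilizer (SGA7.Pts K G) (⟨x⟩ : PX aE K)) (Fib (Dat.xproj (π := π) (aX := aE)) (⟨x⟩ : PX aE K)) =
        ((Nat.card k : ℚ) ^ d)⁻¹ := by
  classical
  haveI : IsAffine G.left := isAffine_of_isAffineHom G.hom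
  haveI := isAffine_bcK (K := K) (U := G)
  haveI := smooth_bcK (K := K) (U := G)
  haveI : QuasiCompact (GalTw.bcK K G).hom := by
    haveI : IsAffineHom (GalTw.bcK K G).hom := isAffineHom_of_isAffine _
    infer_instance
  obtain ⟨P0, _, i, hi, hic, hsm, hcon, hdim, T, hT, hcov⟩ :=
    StabScheme.exists_idComp_dim (P := GalTw.bcK K G) d (by rw [dim_bcK]; exact hd)
  haveI := hi
  haveI := hic
  haveI := hsm
  haveI := hcon
  obtain ⟨-, hl0, hq0, hmono, -⟩ := sub_props i
  haveI := hl0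
  haveI := hq0
  haveI := hmono
  have hu0 : Red.HasNoSubtorus K P0 := fun Tt _ t _ _ hTt => hu Tt (t ≫ i) hTt
  haveI := finite_pts_of_isFinite (K := K) E
  -- the orbit map
  let adj := Over.mapPullbackAdj (SGA7.pt (K := k) K).hom
  let gu : (Over.map (SGA7.pt (K := k) K).hom).obj (GalTw.bcK K G) ⟶ G :=
    (adj.homEquiv (GalTw.bcK K G) G).symm (𝟙 _)
  let φ : GalTw.bcK K G ⟶ GalTw.bcK K E :=
    adj.homEquiv (GalTw.bcK K G) E (lift gu (StabScheme.bpt (GalTw.bcK K G) ≫ x) ≫ aE.act)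
  have hφ : ∀ g : SGA7.Pts K G, GalTw.secOfPt K g ≫ φ = GalTw.secOfPt K (pmul aE g x) := fun g => by
    have h1 : (Over.map (SGA7.pt (K := k) K).hom).map (GalTw.secOfPt K g) ≫ gu = (mapUnitIso (k := k) (K := K)).hom ≫ g := by
      rw [← Adjunction.homEquiv_naturality_left_symm, Category.comp_id, secOfPt_eq_homEquiv, Equiv.symm_apply_apply]
    rw [secOfPt_eq_homEquiv (pmul aE g x), ← Adjunction.homEquiv_naturality_left, ← Category.assoc, comp_lift, h1,
      ← Category.assoc, StabScheme.map_comp_bpt, StabScheme.bpt_unit, ← comp_lift, Category.assoc]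
  have hfix : ∀ w : 𝟙_ (Over (Spec (CommRingCat.of K))) ⟶ P0, pmul aE (ptsHom (w ≫ i)) x = x := by
    let Γ : Subgroup (𝟙_ (Over (Spec (CommRingCat.of K))) ⟶ P0) :=
      (stabilizer (SGA7.Pts K G) (⟨x⟩ : PX aE K)).comap (MonoidHom.mk' (fun w => ptsHom (w ≫ i)) fun a b => by
        rw [MonObj.mul_comp, map_mul])
    have hΓ : PtsClosed (Γ : Set (𝟙_ (Over (Spec (CommRingCat.of K))) ⟶ P0)) := by
      haveI : IsSeparated E.hom := inferInstance
      haveI : LocallyOfFiniteType (GalTw.bcK K E).hom :=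
        MorphismProperty.pullback_snd E.hom (SGA7.pt (K := k) K).hom inferInstance
      haveI : IsSeparated (GalTw.bcK K E).hom :=
        MorphismProperty.pullback_snd E.hom (SGA7.pt (K := k) K).hom inferInstance
      have hs : PtsClosed ({GalTw.secOfPt K x} : Set (𝟙_ (Over (Spec (CommRingCat.of K))) ⟶ GalTw.bcK K E)) :=
        ⟨{AGFLib.Gen.cp (GalTw.secOfPt K x)}, AGFLib.Gen.isClosed_cp _, fun y =>
          ⟨fun h => congrArg AGFLib.Gen.cp h, fun h => AGFLib.Gen.cp_injective h⟩⟩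
      convert hs.preimage (i ≫ φ) using 1
      ext v
      show ptsHom (v ≫ i) ∈ stabilizer (SGA7.Pts K G) (⟨x⟩ : PX aE K) ↔ v ≫ i ≫ φ = GalTw.secOfPt K x
      rw [PX.mem_stabilizer_iff, ← Category.assoc, ← secOfPt_ptsHom (v ≫ i), hφ, secOfPt_ptsHom]
      exact ⟨fun h => congrArg _ h, fun h => secOfPt_injective h⟩
    let rep : SGA7.Pts K E → (𝟙_ (Over (Spec (CommRingCat.of K))) ⟶ P0) := fun y =>
      if h : ∃ v, pmul aE (ptsHom (v ≫ i)) x = y then h.choose else 1
    have htop := eq_top_of_finite Γ hΓ (Set.range rep) (Set.finite_range rep) fun v => by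
      have hex : ∃ v', pmul aE (ptsHom (v' ≫ i)) x = pmul aE (ptsHom (v ≫ i)) x := ⟨v, rfl⟩
      refine ⟨rep (pmul aE (ptsHom (v ≫ i)) x), ⟨_, rfl⟩, ?_⟩
      simp only [rep, dif_pos hex]
      show ptsHom ((hex.choose⁻¹ * v) ≫ i) ∈ stabilizer (SGA7.Pts K G) (⟨x⟩ : PX aE K)
      rw [PX.mem_stabilizer_iff, MonObj.mul_comp, GrpObj.inv_comp, map_mul, map_inv, pmul_mul]
      have h2 := congrArg (pmul aE (ptsHom (hex.choose ≫ i))⁻¹) hex.choose_spec
      rw [← pmul_mul, inv_mul_cancel, pmul_one] at h2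
      exact h2.symm
    intro w
    have hw : w ∈ Γ := htop ▸ Subgroup.mem_top w
    exact (PX.mem_stabilizer_iff _ _).1 hw
  refine mass_stab_core hπ x a₀ ha₀ i hu0 d hdim hfix (ptsHom '' T) (hT.image _) fun g hg => ?_
  obtain ⟨t, ht, q, hq⟩ := hcov (GalTw.secOfPt K g)
  have hg' : ptsHom t * ptsHom (q ≫ i) = g := by rw [← map_mul, hq, ptsHom_secOfPt]
  refine ⟨_, ⟨t, ht, rfl⟩, ?_, q, hg'⟩
  rw [← hg', pmul_mul, hfix] at hg
  exact hg

end Groth.Agent.StkCntLib
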