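import Groth.Agent.StkCntLib.TwistPts
import Groth.Agent.SolvGrp.Pt
import Groth.Agent.GenImage.Basic
import Groth.Agent.H23.GeomConn
import Groth.Agent.FibDim.BaseField
import Mathlib.RingTheory.Nullstellensatz

/-!
Functions on the base change of an affine scheme as functions of its points.
-/

set_option autoImplicit false
set_option backward.isDefEq.respectTransparency false
set_option backward.isDefEq.respectTransparency.types false
set_option linter.style.haveILetI false
set_option linter.unusedSectionVars false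

universe u

open CategoryTheory CategoryTheory.Limits MonoidalCategory CartesianMonoidalCategory MonObj AlgebraicGeometry

noncomputable section

namespace Groth.Agent.StkCntLib.GeomFn

open GrpSchLib GrpSchLib.Kunneth GrpSchLib.LineGroups WeilCmp.Unip SolvGrp

section Image

variable {K : Type u} [Field K] [IsAlgClosed K] {A : Type u} [CommRing A] [Algebra K A] [Algebra.FiniteType K A]

/-- The values of a function on a closed set are finitely many or all but finitely many. -/
theorem finite_or_cofinite_image (s : Finset A) (f : A) :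
    ((fun χ : A →ₐ[K] K => χ f) '' {χ | ∀ g ∈ s, χ g = 0}).Finite ∨
      ((fun χ : A →ₐ[K] K => χ f) '' {χ | ∀ g ∈ s, χ g = 0})ᶜ.Finite := by
  classical
  haveI : IsNoetherianRing A := Algebra.FiniteType.isNoetherianRing K A
  let I : Ideal A := Ideal.span (s : Set A)
  by_cases hall : ∀ p ∈ I.minimalPrimes, ∃ P : Polynomial K, P ≠ 0 ∧ Polynomial.aeval f P ∈ p
  · refine Or.inl ?_
    choose P hP0 hPmem using hall
    have hfin := Ideal.finite_minimalPrimes_of_isNoetherianRing A I
    let Q : Polynomial K := ∏ p ∈ hfin.toFinset.attach, P p.1 (hfin.mem_toFinset.1 p.2)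
    have hQ : Q ≠ 0 := Finset.prod_ne_zero_iff.2 fun p _ => hP0 _ _
    refine (Q.roots.toFinset.finite_toSet).subset ?_
    rintro _ ⟨χ, hχ, rfl⟩
    have hle : I ≤ RingHom.ker χ.toRingHom := Ideal.span_le.2 fun g hg => hχ g hg
    haveI : (RingHom.ker χ.toRingHom).IsPrime := RingHom.ker_isPrime _
    obtain ⟨p, hp, hple⟩ := Ideal.exists_minimalPrimes_le hle
    have h1 : χ (Polynomial.aeval f (P p hp)) = 0 := hple (hPmem p hp)
    rw [← Polynomial.aeval_algHom_apply] at h1
    rw [Finset.mem_coe, Multiset.mem_toFinset, Polynomial.mem_roots hQ, Polynomial.IsRoot, Polynomial.eval_prod]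
    exact Finset.prod_eq_zero (Finset.mem_attach _ ⟨p, hfin.mem_toFinset.2 hp⟩) (by
      rw [← Polynomial.coe_aeval_eq_eval]; exact h1)
  · refine Or.inr ?_
    push Not at hall
    obtain ⟨p, hp, hpi⟩ := hall
    haveI : p.IsPrime := hp.1.1
    let φ : Polynomial K →ₐ[K] A ⧸ p := Polynomial.aeval (Ideal.Quotient.mk p f)
    letI := φ.toRingHom.toAlgebra
    haveI : IsScalarTower K (Polynomial K) (A ⧸ p) := IsScalarTower.of_algebraMap_eq' φ.comp_algebraMap.symm
    haveI : Algebra.FiniteType K (A ⧸ p) :=
      Algebra.FiniteType.of_surjective (Ideal.Quotient.mkₐ K p) (Ideal.Quotient.mkₐ_surjective K p)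
    haveI : Algebra.FiniteType (Polynomial K) (A ⧸ p) := Algebra.FiniteType.of_restrictScalars_finiteType K _ _
    have hinj : Function.Injective (algebraMap (Polynomial K) (A ⧸ p)) := by
      refine (injective_iff_map_eq_zero _).2 fun P hP => ?_
      by_contra h0
      refine hpi P h0 (Ideal.Quotient.eq_zero_iff_mem.1 ?_)
      rw [show Ideal.Quotient.mk p (Polynomial.aeval f P) = Ideal.Quotient.mkₐ K p (Polynomial.aeval f P) from rfl,
        ← Polynomial.aeval_algHom_apply]
      exact hP
    obtain ⟨c, hc0, hc⟩ := GenImage.exists_basicOpen_subset_range hinj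
    refine (c.roots.toFinset.finite_toSet).subset fun t ht => ?_
    rw [Finset.mem_coe, Multiset.mem_toFinset, Polynomial.mem_roots hc0]
    by_contra htc
    refine ht ?_
    let m : Ideal (Polynomial K) := RingHom.ker (Polynomial.evalRingHom t)
    haveI hm : m.IsMaximal := RingHom.ker_isMaximal_of_surjective _ fun y => ⟨Polynomial.C y, by simp⟩
    obtain ⟨q, hq, hqc⟩ := hc ⟨m, hm.isPrime⟩ (fun h => htc h)
    obtain ⟨n, hn, hqn⟩ := Ideal.exists_le_maximal q hq.ne_top
    have hnc : n.comap (algebraMap (Polynomial K) (A ⧸ p)) = m := by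
      refine (hm.eq_of_le (Ideal.comap_ne_top _ hn.ne_top) ?_).symm
      exact (show m ≤ q.comap (algebraMap (Polynomial K) (A ⧸ p)) from hqc.ge).trans (Ideal.comap_mono hqn)
    haveI := hn
    letI := Ideal.Quotient.field n
    haveI : Algebra.FiniteType K ((A ⧸ p) ⧸ n) :=
      Algebra.FiniteType.of_surjective (Ideal.Quotient.mkₐ K n) (Ideal.Quotient.mkₐ_surjective K n)
    haveI : Module.Finite K ((A ⧸ p) ⧸ n) := finite_of_finite_type_of_isJacobsonRing K _
    have hbij : Function.Bijective (algebraMap K ((A ⧸ p) ⧸ n)) :=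
      IsAlgClosed.algebraMap_bijective_of_isIntegral
    let e : ((A ⧸ p) ⧸ n) →ₐ[K] K := (AlgEquiv.ofBijective (Algebra.ofId K _) hbij).symm.toAlgHom
    let χ : A →ₐ[K] K := (e.comp (Ideal.Quotient.mkₐ K n)).comp (Ideal.Quotient.mkₐ K p)
    refine ⟨χ, fun g hg => ?_, ?_⟩
    · show e (Ideal.Quotient.mkₐ K n (Ideal.Quotient.mkₐ K p g)) = 0
      rw [show Ideal.Quotient.mkₐ K p g = 0 from
        Ideal.Quotient.eq_zero_iff_mem.2 (hp.1.2 (Ideal.subset_span hg)), map_zero, map_zero]
    · have h1 : algebraMap (Polynomial K) (A ⧸ p) (Polynomial.X - Polynomial.C t) ∈ n := by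
        show _ ∈ n.comap (algebraMap (Polynomial K) (A ⧸ p))
        rw [hnc]
        simp [m]
      have h2 : e (Ideal.Quotient.mkₐ K n (φ (Polynomial.X - Polynomial.C t))) = 0 := by
        rw [show Ideal.Quotient.mkₐ K n (φ (Polynomial.X - Polynomial.C t)) = 0 from
          Ideal.Quotient.eq_zero_iff_mem.2 h1, map_zero]
      rw [map_sub φ, map_sub (Ideal.Quotient.mkₐ K n), map_sub e, sub_eq_zero, show φ Polynomial.X =
        Ideal.Quotient.mkₐ K p f from Polynomial.aeval_X _, show φ (Polynomial.C t) = algebraMap K (A ⧸ p) t from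
        Polynomial.aeval_C _ t, AlgHom.commutes, AlgHom.commutes] at h2
      exact h2

end Image

variable {k : Type u} [Field k] {K : Type u} [Field K] [Algebra k K]
variable (U : Over (Spec (CommRingCat.of k)))

local notation "PK" => 𝟙_ (Over (Spec (CommRingCat.of K)))

theorem toK_eq (z : Fn PK) :
    AGFLib.ProjAct.toK (k := K) z = (Scheme.ΓSpecIso (CommRingCat.of K)).hom z := by
  have h : z = algebraMap K (Fn PK) ((Scheme.ΓSpecIso (CommRingCat.of K)).hom z) := by
    show z = (PK).hom.appTop ((Scheme.ΓSpecIso (CommRingCat.of K)).inv ((Scheme.ΓSpecIso (CommRingCat.of K)).hom z))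
    rw [← CommRingCat.comp_apply (Scheme.ΓSpecIso (CommRingCat.of K)).hom, Iso.hom_inv_id]
    rfl
  conv_lhs => rw [h, AGFLib.ProjAct.toK_algebraMap]

/-- The value at a point of a function of the scheme over the ground field. -/
def val0 (x : SGA7.Pts K U) : Γ(U.left, ⊤) →+* K :=
  (Scheme.ΓSpecIso (CommRingCat.of K)).hom.hom.comp x.left.appTop.hom

/-- A function on the scheme as a function on its base change. -/
def base : Γ(U.left, ⊤) →+* Fn (GalTw.bcK K U) :=
  (pullback.fst U.hom (SGA7.pt (K := k) K).hom).appTop.hom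

variable {U}

/-- The value of a function on the base change at a point. -/
def val (x : SGA7.Pts K U) : Fn (GalTw.bcK K U) →ₐ[K] K := vl (GalTw.secOfPt K x)

theorem val_base (x : SGA7.Pts K U) (f : Γ(U.left, ⊤)) : val x (base U f) = val0 U x f := by
  show AGFLib.ProjAct.toK ((GalTw.secOfPt K x).left.appTop ((pullback.fst U.hom (SGA7.pt (K := k) K).hom).appTop f)) = _
  rw [toK_eq]
  show (Scheme.ΓSpecIso (CommRingCat.of K)).hom
    (((GalTw.secOfPt K x).left ≫ pullback.fst U.hom (SGA7.pt (K := k) K).hom).appTop f) = _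
  rw [GalTw.secOfPt_left, pullback.lift_fst]
  rfl

theorem val0_smul (σ : K ≃ₐ[k] K) (x : SGA7.Pts K U) (f : Γ(U.left, ⊤)) :
    val0 U (σ • x) f = σ (val0 U x f) := by
  show (Scheme.ΓSpecIso (CommRingCat.of K)).hom ((GalTw.specMap K σ ≫ x.left).appTop f) = _
  rw [Scheme.Hom.comp_appTop, CommRingCat.comp_apply, ← CommRingCat.comp_apply (GalTw.specMap K σ).appTop,
    show GalTw.specMap K σ = Spec.map (CommRingCat.ofHom (σ : K →+* K)) from rfl, Scheme.ΓSpecIso_naturality]
  rfl

variable [IsAffine U.left]

theorem isAffine_bcK : IsAffine (GalTw.bcK K U).left :=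
  haveI : IsAffineHom U.hom := isAffineHom_of_isAffine U.hom
  haveI : IsAffine (SGA7.pt (K := k) K).left := inferInstanceAs (IsAffine (Spec (CommRingCat.of K)))
  inferInstanceAs (IsAffine (pullback U.hom (SGA7.pt (K := k) K).hom))

/-- The base change is generated by the functions of the scheme. -/
theorem adjoin_base : Algebra.adjoin K (Set.range (base (K := K) U)) = ⊤ := by
  let T := SGA7.pt (K := k) K
  haveI : IsAffine T.left := inferInstanceAs (IsAffine (Spec (CommRingCat.of K)))
  haveI : IsAffineHom U.hom := isAffineHom_of_isAffine U.hom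
  haveI : IsAffineHom T.hom := isAffineHom_of_isAffine T.hom
  suffices key : ∀ t, (toProd U T t : Fn (GalTw.bcK K U)) ∈ Algebra.adjoin K (Set.range (base (K := K) U)) by
    refine eq_top_iff.2 fun z _ => ?_
    obtain ⟨t, ht⟩ := (toProd_bijective U T).2 (z : Fn (U ⊗ T))
    exact (show (toProd U T t : Fn (GalTw.bcK K U)) = z from ht) ▸ key t
  intro t
  induction t using TensorProduct.induction_on with
  | zero =>
    rw [map_zero]
    exact zero_mem (Algebra.adjoin K (Set.range (base (K := K) U)))
  | add a b ha hb =>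
    rw [map_add]
    exact add_mem (S := Subalgebra K (Fn (GalTw.bcK K U))) ha hb
  | tmul a c =>
    let w : Fn (GalTw.bcK K U) := ev (snd U T) c
    have h2 : w =
        algebraMap K (Fn (GalTw.bcK K U)) ((Scheme.ΓSpecIso (CommRingCat.of K)).hom c) := by
      show _ = (GalTw.bcK K U).hom.appTop ((Scheme.ΓSpecIso (CommRingCat.of K)).inv _)
      rw [← CommRingCat.comp_apply (Scheme.ΓSpecIso (CommRingCat.of K)).hom, Iso.hom_inv_id]
      rfl
    have e1 : (toProd U T (a ⊗ₜ[k] c) : Fn (GalTw.bcK K U)) = base (K := K) U a * w :=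
      (Algebra.TensorProduct.lift_tmul _ _ _ _ _).trans rfl
    rw [e1, h2]
    exact Subalgebra.mul_mem (Algebra.adjoin K (Set.range (base (K := K) U))) (x := base (K := K) U a)
      (Algebra.subset_adjoin ⟨a, rfl⟩)
      (Subalgebra.algebraMap_mem (Algebra.adjoin K (Set.range (base (K := K) U))) _)

/-- The points separate by values of functions. -/
theorem val0_injective : Function.Injective (val0 (K := K) U) := fun x y h => by
  refine Over.OverMorphism.ext (ext_of_isAffine ?_)
  rw [← cancel_mono (Scheme.ΓSpecIso (CommRingCat.of K)).hom]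
  exact CommRingCat.hom_ext (RingHom.ext fun f => congr($h f))

/-- Every value homomorphism comes from a point. -/
theorem exists_val_eq (χ : Fn (GalTw.bcK K U) →ₐ[K] K) : ∃ x : SGA7.Pts K U, val x = χ := by
  haveI := isAffine_bcK (K := K) (U := U)
  obtain ⟨g, hg⟩ := exists_pt (U := GalTw.bcK K U) χ
  obtain ⟨x, rfl⟩ := (secEquiv (k := k) (K := K) (X := U)).surjective g
  exact ⟨x, by rw [val, ← secEquiv_apply]; exact hg⟩

section Props

variable [Smooth U.hom]

theorem smooth_bcK : Smooth (GalTw.bcK K U).hom := by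
  show Smooth (pullback.snd U.hom (SGA7.pt (K := k) K).hom)
  exact MorphismProperty.pullback_snd _ _ inferInstance

theorem connectedSpace_bcK [GrpObj U] [ConnectedSpace U.left] : ConnectedSpace (GalTw.bcK K U).left := by
  haveI : GeometricallyConnected U.hom := H23.GeomConn.of_point k U.hom η[U].left (Over.w η[U])
  haveI : UniversallyOpen U.hom := UniversallyOpen.of_flat U.hom
  haveI : ConnectedSpace ↥(SGA7.pt (K := k) K).left := by
    haveI : Subsingleton ↥(SGA7.pt (K := k) K).left := inferInstanceAs (Subsingleton (Spec (CommRingCat.of K)))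
    haveI : Nonempty ↥(SGA7.pt (K := k) K).left := inferInstanceAs (Nonempty (Spec (CommRingCat.of K)))
    exact ⟨inferInstance⟩
  exact inferInstanceAs (ConnectedSpace ↥(pullback U.hom (SGA7.pt (K := k) K).hom))

theorem dim_bcK : topologicalKrullDim ↥(GalTw.bcK K U).left = topologicalKrullDim ↥U.left := by
  haveI : Subsingleton ↥(Spec (CommRingCat.of k)) := FibDim.subsingleton_spec_field k
  haveI : LocallyOfFiniteType (pullback.snd U.hom (SGA7.pt (K := k) K).hom) :=
    MorphismProperty.pullback_snd _ _ inferInstance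
  haveI : Subsingleton ↥(SGA7.pt (K := k) K).left := inferInstanceAs (Subsingleton (Spec (CommRingCat.of K)))
  haveI : Nonempty ↥(SGA7.pt (K := k) K).left := inferInstanceAs (Nonempty (Spec (CommRingCat.of K)))
  exact FibDim.topologicalKrullDim_baseChange (IsPullback.of_hasPullback U.hom (SGA7.pt (K := k) K).hom)

end Props

end Groth.Agent.StkCntLib.GeomFn
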