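import Groth.Agent.StkCntLib.TwistPts
import Groth.Agent.AGFLib.BorelExist
import Groth.Agent.S10938

/-!
Stabiliser group schemes of points over the algebraic closure.
-/

set_option autoImplicit false
set_option backward.isDefEq.respectTransparency false
set_option backward.isDefEq.respectTransparency.types false
set_option linter.style.haveILetI false
set_option linter.unusedSectionVars false

universe u

open CategoryTheory CategoryTheory.Limits MonoidalCategory CartesianMonoidalCategory MonObj AlgebraicGeometry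

noncomputable section

namespace Groth.Agent.StkCntLib.StabScheme

variable {k : Type u} [Field k] {K : Type u} [Field K] [Algebra k K]
variable {G X : Over (Spec (CommRingCat.of k))} [GrpObj G] {aX : AlgGrp.Action G X} {x : SGA7.Pts K X}

local notation "PK" => 𝟙_ (Over (Spec (CommRingCat.of K)))

/-- The base point of a scheme over the algebraic closure. -/
def bpt (T : Over (Spec (CommRingCat.of K))) :
    (Over.map (SGA7.pt (K := k) K).hom).obj T ⟶ SGA7.pt (K := k) K :=
  Over.homMk T.hom rfl

theorem map_comp_bpt {T T' : Over (Spec (CommRingCat.of K))} (h : T' ⟶ T) :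
    (Over.map (SGA7.pt (K := k) K).hom).map h ≫ bpt T = bpt (k := k) T' :=
  Over.OverMorphism.ext (Over.w h)

theorem bpt_unit : bpt (k := k) PK = (mapUnitIso (k := k) (K := K)).hom := rfl

variable {S : Over (Spec (CommRingCat.of K))} [GrpObj S] {s : S ⟶ GalTw.bcK K G} [IsMonHom s] [Mono s]

/-- The stabiliser group scheme has the stabiliser as its points. -/
theorem mem_range_iff
    (hS : ∀ (T : Over (Spec (CommRingCat.of K))) (g : (Over.map (SGA7.pt (K := k) K).hom).obj T ⟶ G),
      (∃ g' : T ⟶ S, g' ≫ s = (Over.mapPullbackAdj (SGA7.pt (K := k) K).hom).homEquiv T G g) ↔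
        lift g (bpt T ≫ x) ≫ aX.act = bpt T ≫ x)
    (g : SGA7.Pts K G) : (∃ h : PK ⟶ S, h ≫ s = GalTw.secOfPt K g) ↔ pmul aX g x = x := by
  rw [secOfPt_eq_homEquiv]
  refine (hS PK _).trans ?_
  rw [bpt_unit, ← comp_lift_assoc]
  exact cancel_epi _

/-- The stabiliser group scheme is closed. -/
theorem isClosedImmersion [IsAlgClosed K] [LocallyOfFiniteType X.hom]
    (hS : ∀ (T : Over (Spec (CommRingCat.of K))) (g : (Over.map (SGA7.pt (K := k) K).hom).obj T ⟶ G),
      (∃ g' : T ⟶ S, g' ≫ s = (Over.mapPullbackAdj (SGA7.pt (K := k) K).hom).homEquiv T G g) ↔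
        lift g (bpt T ≫ x) ≫ aX.act = bpt T ≫ x) :
    IsClosedImmersion s.left := by
  let adj := Over.mapPullbackAdj (SGA7.pt (K := k) K).hom
  let gu : (Over.map (SGA7.pt (K := k) K).hom).obj (GalTw.bcK K G) ⟶ G :=
    (adj.homEquiv (GalTw.bcK K G) G).symm (𝟙 _)
  let φ : GalTw.bcK K G ⟶ GalTw.bcK K X :=
    adj.homEquiv (GalTw.bcK K G) X (lift gu (bpt (GalTw.bcK K G) ≫ x) ≫ aX.act)
  let xs : PK ⟶ GalTw.bcK K X := GalTw.secOfPt K x
  have hconst : ∀ T : Over (Spec (CommRingCat.of K)), toUnit T ≫ xs = adj.homEquiv T X (bpt T ≫ x) := fun T => by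
    rw [show xs = adj.homEquiv PK X ((mapUnitIso (k := k) (K := K)).hom ≫ x) from secOfPt_eq_homEquiv x,
      ← Adjunction.homEquiv_naturality_left, ← Category.assoc, ← bpt_unit, map_comp_bpt]
  have key : ∀ {T : Over (Spec (CommRingCat.of K))} (h : T ⟶ GalTw.bcK K G),
      h ≫ φ = toUnit T ≫ xs ↔ ∃ g' : T ⟶ S, g' ≫ s = h := fun {T} h => by
    have hg : (adj.homEquiv T G).symm h = (Over.map (SGA7.pt (K := k) K).hom).map h ≫ gu := by
      rw [← Adjunction.homEquiv_naturality_left_symm, Category.comp_id]
    have h1 := hS T ((adj.homEquiv T G).symm h)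
    rw [Equiv.apply_symm_apply] at h1
    rw [h1, hg, hconst, ← Adjunction.homEquiv_naturality_left, (adj.homEquiv T X).injective.eq_iff,
      ← Category.assoc, comp_lift, ← Category.assoc, map_comp_bpt]
  have w : s ≫ φ = toUnit S ≫ xs := (key s).2 ⟨𝟙 S, Category.id_comp s⟩
  have hc : ∀ c : PullbackCone φ xs, ∃ g', g' ≫ s = c.fst := fun c =>
    (key c.fst).1 (by rw [c.condition, toUnit_unique c.snd (toUnit c.pt)])
  have hpb : IsPullback s (toUnit S) φ xs :=
    ⟨⟨w⟩, ⟨PullbackCone.IsLimit.mk w (fun c => (hc c).choose) (fun c => (hc c).choose_spec)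
      (fun c => toUnit_unique _ _) (fun c m hm _ => (cancel_mono s).1 (hm.trans (hc c).choose_spec.symm))⟩⟩
  have hpb' := hpb.map (Over.forget (Spec (CommRingCat.of K)))
  haveI : IsImmersion xs.left := by
    haveI : IsImmersion (xs.left ≫ (GalTw.bcK K X).hom) := by
      rw [Over.w xs]
      exact inferInstanceAs (IsImmersion (𝟙 _))
    exact IsImmersion.of_comp xs.left (GalTw.bcK K X).hom
  haveI : IsImmersion s.left := MorphismProperty.of_isPullback hpb'.flip ‹IsImmersion xs.left›
  haveI : LocallyOfFiniteType (GalTw.bcK K X).hom := by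
    show LocallyOfFiniteType (pullback.snd X.hom (SGA7.pt (K := k) K).hom)
    exact MorphismProperty.pullback_snd _ _ inferInstance
  have hcl : IsClosed ({AGFLib.Gen.cp xs} : Set (GalTw.bcK K X).left) := by
    have h1 := VarDim.deg_eq_add xs.left (GalTw.bcK K X).hom (Over.w xs) (IsLocalRing.closedPoint K)
    haveI : LocallyOfFiniteType (PK).hom := inferInstanceAs (LocallyOfFiniteType (𝟙 _))
    refine (VarDim.closedPoint_iff_deg_eq_zero (GalTw.bcK K X).hom _).2 ?_
    have h2 : IsClosed ({IsLocalRing.closedPoint K} : Set (PK).left) := by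
      rw [show ({IsLocalRing.closedPoint K} : Set (PK).left) = Set.univ from
        Set.eq_univ_of_forall fun t => Subsingleton.elim (α := Spec (CommRingCat.of K)) t _]
      exact isClosed_univ
    rw [(VarDim.closedPoint_iff_deg_eq_zero (PK).hom _).1 h2] at h1
    have h3 : AGFLib.Gen.cp xs = xs.left (IsLocalRing.closedPoint K) := rfl
    rw [h3]
    omega
  refine IsClosedImmersion.of_isPreimmersion _ ?_
  have hr : Set.range s.left = φ.left ⁻¹' {AGFLib.Gen.cp xs} := by
    ext z
    constructor
    · rintro ⟨y, rfl⟩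
      show φ.left (s.left y) = _
      rw [← Scheme.Hom.comp_apply, ← Over.comp_left, w, Over.comp_left, Scheme.Hom.comp_apply]
      exact congrArg xs.left (Subsingleton.elim (α := Spec (CommRingCat.of K)) _ _)
    · intro hz
      obtain ⟨y, hy, -⟩ := Scheme.exists_preimage_of_isPullback hpb' z (IsLocalRing.closedPoint K) hz
      exact ⟨y, hy⟩
  rw [hr]
  exact hcl.preimage φ.left.continuous

open AGFLib.BorelExist AGFLib.BorelFixed AGFLib.Gen in
/-- The identity component of a group of finite type has its dimension and finitely many translates. -/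
theorem exists_idComp_dim [IsAlgClosed K] {P : Over (Spec (CommRingCat.of K))} [GrpObj P] [LocallyOfFiniteType P.hom]
    [QuasiCompact P.hom] (d : ℕ) (hd : topologicalKrullDim ↥P.left = (d : WithBot ℕ∞)) :
    ∃ (P0 : Over (Spec (CommRingCat.of K))) (_ : GrpObj P0) (i : P0 ⟶ P), IsMonHom i ∧ IsClosedImmersion i.left ∧
      Smooth P0.hom ∧ ConnectedSpace P0.left ∧ topologicalKrullDim ↥P0.left = (d : WithBot ℕ∞) ∧
      ∃ T : Set (PK ⟶ P), T.Finite ∧ ∀ p : PK ⟶ P, ∃ t ∈ T, ∃ q : PK ⟶ P0, t * (q ≫ i) = p := by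
  haveI := GrpSchLib.AntiAffine.isSeparated_grp P
  obtain ⟨P0, _, i, hi, hic, hsm, hcon, hqc, T, hT, hcov⟩ := exists_idComp (P := P)
  haveI := hic
  refine ⟨P0, inferInstance, i, hi, hic, hsm, hcon, le_antisymm ?_ ?_, T, hT, hcov⟩
  · rw [← hd]
    exact i.left.isClosedEmbedding.isInducing.topologicalKrullDim_le
  · rw [← hd]
    let tr : (PK ⟶ P) → (P ⟶ P) := fun t => (toUnit P ≫ t) * 𝟙 P
    have htr : ∀ t q, q ≫ tr t = t * q := fun t q => by
      simp only [tr, MonObj.comp_mul, Category.comp_id, ← Category.assoc, toUnit_unique (q ≫ toUnit P) (𝟙 _),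
        Category.id_comp]
    let C : (PK ⟶ P) → Set P.left := fun t => (tr t⁻¹).left ⁻¹' Set.range i.left
    have hC : ∀ t, IsClosed (C t) := fun t => i.left.isClosedEmbedding.isClosed_range.preimage (tr t⁻¹).left.continuous
    have huniv : ⋃₀ (C '' T) = Set.univ := eq_univ_of_forall_cp
      (by rw [Set.sUnion_eq_biUnion]; exact (hT.image C).isClosed_biUnion (by rintro _ ⟨t, -, rfl⟩; exact hC t))
      fun g => by
        obtain ⟨t, ht, q, hq⟩ := hcov g
        refine ⟨C t, ⟨t, ht, rfl⟩, cp q, ?_⟩
        show _ = (tr t⁻¹).left (cp g)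
        rw [← cp_comp, ← cp_comp, htr, ← hq, inv_mul_cancel_left]
    have htop : topologicalKrullDim ↥(Set.univ : Set P.left) = topologicalKrullDim ↥P.left :=
      (Homeomorph.Set.univ _).isHomeomorph.topologicalKrullDim_eq
    have hiso : ∀ t, IsIso (tr t).left := fun t => by
      let e : P ≅ P :=
        { hom := tr t
          inv := tr t⁻¹
          hom_inv_id := by
            simp only [tr, MonObj.comp_mul, Category.comp_id, ← Category.assoc, toUnit_unique (_ ≫ toUnit P) (toUnit P)]
            rw [← _root_.mul_assoc, ← MonObj.comp_mul, inv_mul_cancel, MonObj.comp_one, _root_.one_mul]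
          inv_hom_id := by
            simp only [tr, MonObj.comp_mul, Category.comp_id, ← Category.assoc, toUnit_unique (_ ≫ toUnit P) (toUnit P)]
            rw [← _root_.mul_assoc, ← MonObj.comp_mul, mul_inv_cancel, MonObj.comp_one, _root_.one_mul] }
      exact ((Over.forget _).mapIso e).isIso_hom
    have hP0 : topologicalKrullDim ↥P0.left ≤ (d : WithBot ℕ∞) :=
      hd ▸ i.left.isClosedEmbedding.isInducing.topologicalKrullDim_le
    obtain ⟨r, hr⟩ : ∃ r : ℕ, topologicalKrullDim ↥P0.left = (r : WithBot ℕ∞) := by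
      haveI : Nonempty ↥P0.left := inferInstance
      haveI : Nonempty (TopologicalSpace.IrreducibleCloseds ↥P0.left) :=
        ⟨⟨closure {Classical.arbitrary _}, isIrreducible_singleton.closure, isClosed_closure⟩⟩
      have h0 : (0 : WithBot ℕ∞) ≤ topologicalKrullDim ↥P0.left := Order.krullDim_nonneg
      generalize topologicalKrullDim ↥P0.left = D at hP0 h0
      induction D with
      | bot => exact absurd h0 (by simp)
      | coe D =>
        induction D with
        | top => exact absurd (WithBot.coe_le_coe.1 hP0) (by simp)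
        | coe D => exact ⟨D, rfl⟩
    rw [hr, ← htop]
    refine Groth.Agent.S10938.topologicalKrullDim_le_of_cover (hT.image C) (by rintro _ ⟨t, -, rfl⟩; exact hC t)
      huniv.ge r ?_
    rintro _ ⟨t, -, rfl⟩
    haveI := hiso t⁻¹
    rw [← hr]
    refine le_of_eq ?_
    let h := (tr t⁻¹).left.homeomorph
    exact (((h.image (C t)).trans (Homeomorph.setCongr (by
      show h '' (h ⁻¹' _) = _
      rw [Set.image_preimage_eq _ h.surjective]))).trans
        (i.left.isClosedEmbedding.isEmbedding.toHomeomorph.symm)).isHomeomorph.topologicalKrullDim_eq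

end Groth.Agent.StkCntLib.StabScheme
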