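import Groth.Agent.StkCntLib.Desc
import Groth.Agent.StkCntLib.Frob
import Groth.Agent.SchTorsor.Props
import Groth.Agent.EtFound.Descent
import Mathlib.AlgebraicGeometry.Sites.Proetale
import Groth.Prelude.Def_AlgGrp

/-!
Torsors over a field through their points in an algebraic closure: the cocycle of a base point, and equivariant
morphisms from values at base points.
-/

set_option autoImplicit false
set_option backward.isDefEq.respectTransparency.types false
set_option linter.style.haveILetI false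
set_option linter.unusedSectionVars false

universe u

open CategoryTheory CategoryTheory.Limits MonoidalCategory CartesianMonoidalCategory MonObj AlgebraicGeometry

noncomputable section

namespace Groth.Agent.StkCntLib

variable {k : Type u} [Field k] {K : Type u} [Field K] [Algebra k K]
variable {G P P' : Over (Spec (CommRingCat.of k))} [GrpObj G]

/-- An fpqc torsor from an étale one. -/
theorem isTorsorFor_fpqc {a : AlgGrp.Action G P} (h₁ : NonAbH1.IsPseudoTorsorSch a)
    (h₂ : NonAbH1.IsLocallyTrivialFor Scheme.etalePrecoverage P) : NonAbH1.IsTorsorFor Scheme.fpqcPrecoverage a := by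
  obtain ⟨R, hR, hsec⟩ := h₂
  exact ⟨h₁, R, (Scheme.etalePrecoverage_le_proetalePrecoverage.trans
    Scheme.proetalePrecoverage_le_fpqcPrecoverage) _ hR, hsec⟩

section Props

variable {a : AlgGrp.Action G P} (ha : NonAbH1.IsTorsorFor Scheme.fpqcPrecoverage a)
include ha

theorem smooth_hom [Smooth G.hom] : Smooth P.hom := SchTorsor.torsor_property @Smooth ha inferInstance

theorem lft_hom [LocallyOfFiniteType G.hom] : LocallyOfFiniteType P.hom :=
  SchTorsor.torsor_property @LocallyOfFiniteType ha inferInstance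

theorem isAffineHom_hom [IsAffineHom G.hom] : IsAffineHom P.hom := by
  haveI := EtFound.fpqc_isAffineHom.{u}
  exact SchTorsor.torsor_property @IsAffineHom ha inferInstance

theorem exists_point [Smooth G.hom] [IsAlgClosed K] [Algebra.IsAlgebraic k K] : Nonempty (SGA7.Pts K P) := by
  haveI := smooth_hom ha
  haveI := SchTorsor.surjective_hom ha
  haveI : JacobsonSpace P.left := LocallyOfFiniteType.jacobsonSpace P.hom
  obtain ⟨z, -⟩ := P.hom.surjective (IsLocalRing.closedPoint k)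
  obtain ⟨p, -, hp⟩ := nonempty_inter_closedPoints (X := P.left) (Z := Set.univ) ⟨z, trivial⟩ isClosed_univ.isLocallyClosed
  obtain ⟨s, -⟩ := exists_pts (K := K) hp
  exact ⟨s⟩

end Props

section Act

variable (a : AlgGrp.Action G P)

/-- Translation of a point. -/
abbrev pmul {T : Over (Spec (CommRingCat.of k))} (g : T ⟶ G) (p : T ⟶ P) : T ⟶ P := lift g p ≫ a.act

theorem comp_pmul {T T' : Over (Spec (CommRingCat.of k))} (s : T' ⟶ T) (g : T ⟶ G) (p : T ⟶ P) :
    s ≫ pmul a g p = pmul a (s ≫ g) (s ≫ p) := by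
  rw [← Category.assoc, comp_lift]

theorem smul_pmul (σ : K ≃ₐ[k] K) (g : SGA7.Pts K G) (p : SGA7.Pts K P) :
    σ • pmul a g p = pmul a (σ • g) (σ • p) := comp_pmul a _ g p

theorem pmul_mul {T : Over (Spec (CommRingCat.of k))} (g h : T ⟶ G) (p : T ⟶ P) :
    pmul a (g * h) p = pmul a g (pmul a h p) := SchTorsor.act_assoc a g h p

theorem pmul_one {T : Over (Spec (CommRingCat.of k))} (p : T ⟶ P) : pmul a 1 p = p := SchTorsor.one_act_pt a p

theorem pmul_comp {f : P ⟶ P'} {a' : AlgGrp.Action G P'} (hf : a.act ≫ f = (G ◁ f) ≫ a'.act)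
    {T : Over (Spec (CommRingCat.of k))} (g : T ⟶ G) (p : T ⟶ P) : pmul a g p ≫ f = pmul a' g (p ≫ f) := by
  rw [Category.assoc, hf, lift_whiskerLeft_assoc]

variable {a} (ha : NonAbH1.IsPseudoTorsorSch a)
include ha

theorem pmul_left_injective {T : Over (Spec (CommRingCat.of k))} {g h : T ⟶ G} {p : T ⟶ P}
    (e : pmul a g p = pmul a h p) : g = h := SchTorsor.act_free ha e

theorem exists_pmul_eq {T : Over (Spec (CommRingCat.of k))} (x y : T ⟶ P) : ∃ g : T ⟶ G, pmul a g y = x :=
  SchTorsor.exists_div ha x y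

end Act

section Cocycle

variable {a : AlgGrp.Action G P}

theorem smul_mul' {G : Over (Spec (CommRingCat.of k))} [GrpObj G] (σ : K ≃ₐ[k] K) (g h : SGA7.Pts K G) :
    σ • (g * h) = σ • g * σ • h := MulDistribMulAction.smul_mul σ g h

/-- The cocycle of a base point: `z σ` carries its conjugate back to it. -/
theorem exists_cocycle_of_pt [Algebra.IsAlgebraic k K] [LocallyOfFiniteType P.hom]
    (ha : NonAbH1.IsPseudoTorsorSch a) (t : SGA7.Pts K P) :
    ∃ z : GpH1.OneCocycleLC (K ≃ₐ[k] K) (SGA7.Pts K G), ∀ σ, pmul a (z.1 σ) (σ • t) = t := by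
  choose z hz using fun σ : K ≃ₐ[k] K => exists_pmul_eq ha t (σ • t)
  have hc : GpH1.IsOneCocycle z := fun σ τ => pmul_left_injective ha (p := (σ * τ) • t) (by
    rw [hz, mul_smul, pmul_mul, ← smul_pmul, hz, hz])
  refine ⟨⟨⟨z, hc⟩, (IsLocallyConstant.iff_exists_open _).mpr fun σ => ?_⟩, hz⟩
  refine ⟨(fun τ => σ⁻¹ * τ) ⁻¹' {τ | τ • t = t}, (isOpen_stabilizer t).preimage (continuous_const_mul σ⁻¹),
    by simp, fun τ hτ => ?_⟩
  have h1 : τ • t = σ • t := inv_smul_eq_iff.1 (by rw [← mul_smul]; exact hτ)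
  refine pmul_left_injective ha (p := σ • t) ?_
  show pmul a (z τ) (σ • t) = pmul a (z σ) (σ • t)
  rw [hz σ, ← h1, hz τ]

/-- Changing the base point. -/
theorem cocycle_change {t : SGA7.Pts K P} (ha : NonAbH1.IsPseudoTorsorSch a)
    {z z' : (K ≃ₐ[k] K) → SGA7.Pts K G} (hz : ∀ σ, pmul a (z σ) (σ • t) = t) (g : SGA7.Pts K G)
    (hz' : ∀ σ, pmul a (z' σ) (σ • pmul a g t) = pmul a g t) (σ : K ≃ₐ[k] K) :
    z' σ = g * z σ * (σ • g)⁻¹ := by
  rw [eq_mul_inv_iff_mul_eq]
  refine pmul_left_injective ha (p := σ • t) ?_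
  rw [pmul_mul, ← smul_pmul, hz', pmul_mul, hz]

end Cocycle

section Hom

variable [IsAlgClosed K] [IsGalois k K] {a : AlgGrp.Action G P} {a' : AlgGrp.Action G P'}

/-- Equivariant morphisms from a torsor are determined at a base point. -/
theorem equivariant_ext [Smooth G.hom] (ha : NonAbH1.IsTorsorFor Scheme.fpqcPrecoverage a)
    (t : SGA7.Pts K P) {f f' : P ⟶ P'} (hf : a.act ≫ f = (G ◁ f) ≫ a'.act) (hf' : a.act ≫ f' = (G ◁ f') ≫ a'.act)
    (h : t ≫ f = t ≫ f') : f = f' := by
  haveI := smooth_hom ha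
  haveI : IsReduced P.left := isReduced_of_smooth
  refine hom_ext_pts (K := K) _ _ fun y => ?_
  obtain ⟨g, rfl⟩ := exists_pmul_eq ha.1 y t
  rw [pmul_comp a hf, pmul_comp a hf', h]

theorem inclT {F : IntermediateField k K} (σ : K ≃ₐ[k] K) :
    fldHom ((σ : K →ₐ[k] K).comp F.val) = SGA7.specAut σ ≫ fldHom F.val := by
  rw [specAut_eq_fldHom, fldHom_comp]

/-- The cover of a torsor defined by a point over a finite subfield. -/
theorem cover_props [Smooth G.hom] (ha : NonAbH1.IsPseudoTorsorSch a) {F : IntermediateField k K}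
    [FiniteDimensional k F] (tF : SGA7.Pts F P) :
    Etale (pmul a (fst G (SGA7.pt (K := k) F)) (snd G (SGA7.pt (K := k) F) ≫ tF)).left ∧
      Surjective (pmul a (fst G (SGA7.pt (K := k) F)) (snd G (SGA7.pt (K := k) F) ≫ tF)).left ∧
      QuasiCompact (pmul a (fst G (SGA7.pt (K := k) F)) (snd G (SGA7.pt (K := k) F) ≫ tF)).left ∧
      Smooth (G ⊗ SGA7.pt (K := k) F).hom := by
  haveI : Algebra.IsSeparable k F := Algebra.isSeparable_tower_bot_of_isSeparable k F K
  let T := SGA7.pt (K := k) F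
  let e := lift ((G ◁ tF) ≫ a.act) (snd G T)
  haveI : IsIso e := SchTorsor.isIso_of_section ha tF
  haveI : IsIso e.left := (Over.forget _).map_isIso e
  have he : pmul a (fst G T) (snd G T ≫ tF) = e ≫ fst P T := by
    rw [lift_fst]
    show lift _ _ ≫ _ = _
    congr 1
  have h1 : (fst P T).left = pullback.fst P.hom T.hom := rfl
  refine ⟨?_, ?_, ?_, ?_⟩
  · rw [he, Over.comp_left, MorphismProperty.cancel_left_of_respectsIso @Etale, h1]
    exact MorphismProperty.pullback_fst P.hom T.hom (etale_pt F)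
  · rw [he, Over.comp_left, MorphismProperty.cancel_left_of_respectsIso @Surjective, h1]
    exact MorphismProperty.pullback_fst P.hom T.hom (surjective_pt F)
  · rw [he, Over.comp_left, MorphismProperty.cancel_left_of_respectsIso @QuasiCompact, h1]
    exact MorphismProperty.pullback_fst P.hom T.hom (quasiCompact_pt F)
  · haveI := etale_pt (k := k) F
    haveI : Smooth (pullback.snd G.hom T.hom) := MorphismProperty.pullback_snd G.hom T.hom inferInstance
    show Smooth (pullback.fst G.hom T.hom ≫ G.hom)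
    rw [pullback.condition]
    infer_instance

/-- An equivariant morphism with prescribed value at a base point. -/
theorem exists_equivariant [Smooth G.hom] [LocallyOfFiniteType P'.hom]
    (ha : NonAbH1.IsTorsorFor Scheme.fpqcPrecoverage a) (t : SGA7.Pts K P) {z : (K ≃ₐ[k] K) → SGA7.Pts K G}
    (hz : ∀ σ, pmul a (z σ) (σ • t) = t) (t' : SGA7.Pts K P') (ht' : ∀ σ, pmul a' (z σ) (σ • t') = t') :
    ∃ f : P ⟶ P', a.act ≫ f = (G ◁ f) ≫ a'.act ∧ t ≫ f = t' := by
  haveI := smooth_hom ha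
  obtain ⟨F₁, hF₁, h₁⟩ := exists_level t
  obtain ⟨F₂, hF₂, h₂⟩ := exists_level t'
  let F := F₁ ⊔ F₂
  haveI : FiniteDimensional k F := IntermediateField.finiteDimensional_sup F₁ F₂
  obtain ⟨tF, htF⟩ := h₁ F le_sup_left
  obtain ⟨tF', htF'⟩ := h₂ F le_sup_right
  let T := SGA7.pt (K := k) F
  let c : G ⊗ T ⟶ P := pmul a (fst G T) (snd G T ≫ tF)
  let d : G ⊗ T ⟶ P' := pmul a' (fst G T) (snd G T ≫ tF')
  obtain ⟨hc₁, hc₂, hc₃, hc₄⟩ := cover_props ha.1 tF
  haveI : Etale c.left := hc₁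
  haveI : Surjective c.left := hc₂
  haveI : QuasiCompact c.left := hc₃
  haveI := hc₄
  have hpt : ∀ w : SGA7.Pts K (G ⊗ T), ∃ σ : K ≃ₐ[k] K,
      w ≫ c = pmul a (w ≫ fst G T) (σ • t) ∧ w ≫ d = pmul a' (w ≫ fst G T) (σ • t') := fun w => by
    obtain ⟨e, he⟩ := exists_algHom_of_pt (w ≫ snd G T)
    obtain ⟨σ, rfl⟩ : ∃ σ : K ≃ₐ[k] K, (σ : K →ₐ[k] K).comp F.val = e :=
      ⟨AlgEquiv.ofBijective (e.liftNormal K) (AlgHom.normal_bijective k K K _),
        AlgHom.ext fun x => e.liftNormal_commutes K x⟩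
    rw [inclT] at he
    refine ⟨σ, ?_, ?_⟩
    · rw [comp_pmul, ← Category.assoc w, he, GalTw.pts_smul_def, ← htF, Category.assoc]
    · rw [comp_pmul, ← Category.assoc w, he, GalTw.pts_smul_def, ← htF', Category.assoc]
  have key : ∀ w w' : SGA7.Pts K (G ⊗ T), w ≫ c = w' ≫ c → w ≫ d = w' ≫ d := fun w w' h => by
    obtain ⟨σ, e₁, e₂⟩ := hpt w
    obtain ⟨σ', e₁', e₂'⟩ := hpt w'
    have hs : σ • t = pmul a (z σ)⁻¹ t := by conv_rhs => rw [← hz σ, ← pmul_mul, inv_mul_cancel, pmul_one]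
    have hs2 : σ' • t = pmul a (z σ')⁻¹ t := by conv_rhs => rw [← hz σ', ← pmul_mul, inv_mul_cancel, pmul_one]
    have hs' : ∀ σ : K ≃ₐ[k] K, σ • t' = pmul a' (z σ)⁻¹ t' := fun σ => by
      conv_rhs => rw [← ht' σ, ← pmul_mul, inv_mul_cancel, pmul_one]
    rw [e₁, e₁', hs, hs2, ← pmul_mul, ← pmul_mul] at h
    rw [e₂, e₂', hs', hs', ← pmul_mul, ← pmul_mul, pmul_left_injective ha.1 h]
  obtain ⟨f, hf⟩ := exists_desc_pts (K := K) c d key
  have hfy : ∀ g : SGA7.Pts K G, pmul a g t ≫ f = pmul a' g t' := fun g => by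
    have e1 : (lift g (fldHom F.val) : SGA7.Pts K (G ⊗ T)) ≫ c = pmul a g t := by
      rw [comp_pmul, lift_fst, lift_snd_assoc, htF]
    rw [← e1, Category.assoc, hf, comp_pmul, lift_fst, lift_snd_assoc, htF']
  refine ⟨f, ?_, ?_⟩
  · haveI : Smooth (G ⊗ P).hom := by
      haveI : Smooth (pullback.snd G.hom P.hom) := MorphismProperty.pullback_snd G.hom P.hom inferInstance
      show Smooth (pullback.fst G.hom P.hom ≫ G.hom)
      rw [pullback.condition]
      infer_instance
    haveI : IsReduced (G ⊗ P).left := isReduced_of_smooth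
    refine hom_ext_pts (K := K) _ _ fun y => ?_
    obtain ⟨g, hg⟩ := exists_pmul_eq ha.1 (y ≫ snd G P) t
    have hy : y = lift (y ≫ fst G P) (pmul a g t) := by
      rw [hg, ← comp_lift, lift_fst_snd, Category.comp_id]
    rw [hy]
    show pmul a (y ≫ fst G P) (pmul a g t) ≫ f = _
    rw [← pmul_mul, hfy, lift_whiskerLeft_assoc]
    show _ = pmul a' _ (pmul a g t ≫ f)
    rw [hfy, pmul_mul]
  · have := hfy 1
    rwa [pmul_one, pmul_one] at this

end Hom

end Groth.Agent.StkCntLib
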