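import Groth.Agent.StkCntLib.FibreAlg
import Groth.Agent.GalDescX.SchemeQuot
import Groth.Agent.EssDimLib.EquivDescent
import Groth.Prelude.Def_AlgSt5
import Mathlib.FieldTheory.Galois.Profinite

/-!
The torsor over a field attached to a locally constant cocycle.
-/

set_option autoImplicit false
set_option backward.isDefEq.respectTransparency.types false
set_option linter.style.haveILetI false
set_option linter.unusedSectionVars false

universe u

open CategoryTheory CategoryTheory.Limits MonoidalCategory CartesianMonoidalCategory MonObj AlgebraicGeometry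

noncomputable section

namespace Groth.Agent.StkCntLib

variable {k : Type u} [Field k] {K : Type u} [Field K] [Algebra k K]
variable {G : Over (Spec (CommRingCat.of k))} [GrpObj G]

theorem isPullback_left {A B C D : Over (Spec (CommRingCat.of k))} {a : A ⟶ B} {b : A ⟶ C} {c : B ⟶ D} {d : C ⟶ D}
    (h : IsPullback a b c d) : IsPullback a.left b.left c.left d.left :=
  h.map (Over.forget _)

/-- A locally constant cocycle is defined over a finite Galois subextension. -/
theorem exists_level_cocycle [IsGalois k K] [LocallyOfFiniteType G.hom]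
    (z : GpH1.OneCocycleLC (K ≃ₐ[k] K) (SGA7.Pts K G)) :
    ∃ F : IntermediateField k K, FiniteDimensional k F ∧ Normal k F ∧
      (∀ σ, ∃ y : SGA7.Pts F G, fldHom F.val ≫ y = z.1 σ) ∧
      ∀ σ τ, τ ∈ F.fixingSubgroup → z.1 (σ * τ) = z.1 σ := by
  classical
  have h1 : z.1 1 = 1 := GalTw.oneCocycle_one z.1
  obtain ⟨E, hE⟩ := (krullTopology_mem_nhds_one_iff k K _).1
    ((z.2 {1}).mem_nhds (show (1 : K ≃ₐ[k] K) ∈ z.1 ⁻¹' {1} from h1))
  obtain ⟨hEf, hE⟩ := hE
  have hfin := z.2.range_finite
  choose L hL hL' using fun v : SGA7.Pts K G => exists_level v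
  let F₀ : IntermediateField k K := E ⊔ ⨆ v ∈ hfin.toFinset, L v
  haveI : FiniteDimensional k F₀ := by
    haveI : ∀ v : hfin.toFinset, FiniteDimensional k (L v.1) := fun v => hL v.1
    have : (⨆ v ∈ hfin.toFinset, L v) = ⨆ v : hfin.toFinset, L v.1 := by rw [iSup_subtype]
    haveI : FiniteDimensional k (⨆ v ∈ hfin.toFinset, L v : IntermediateField k K) := by
      rw [this]; infer_instance
    exact IntermediateField.finiteDimensional_sup E _
  let F := IntermediateField.normalClosure k F₀ K
  have hEF : E ≤ F := le_trans le_sup_left (IntermediateField.le_normalClosure F₀)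
  refine ⟨F, inferInstance, inferInstance, fun σ => ?_, fun σ τ hτ => ?_⟩
  · refine hL' _ F (le_trans ?_ (IntermediateField.le_normalClosure F₀))
    exact le_trans (le_iSup₂ (f := fun v (_ : v ∈ hfin.toFinset) => L v) (z.1 σ)
      (hfin.mem_toFinset.2 ⟨σ, rfl⟩)) le_sup_right
  · rw [z.1.2 σ τ, show z.1 τ = 1 from hE (IntermediateField.fixingSubgroup_le hEF hτ), smul_one, _root_.mul_one]

/-- The embeddings of a normal subfield differ by its automorphisms. -/
theorem exists_restrict [IsAlgClosed K] [IsGalois k K] (F : IntermediateField k K) [Normal k F]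
    (e : F →ₐ[k] K) : ∃ τ : F ≃ₐ[k] F, e = F.val.comp (τ : F →ₐ[k] F) := by
  refine ⟨(AlgEquiv.ofBijective (e.liftNormal K) (AlgHom.normal_bijective k K K _)).restrictNormal F,
    AlgHom.ext fun x => ?_⟩
  exact (e.liftNormal_commutes K x).symm.trans
    (AlgEquiv.restrictNormal_commutes (AlgEquiv.ofBijective (e.liftNormal K) _) F x).symm

theorem smul_incl (F : IntermediateField k K) [Normal k F] (σ : K ≃ₐ[k] K) :
    SGA7.specAut σ ≫ fldHom F.val = fldHom F.val ≫ fldHom ((σ.restrictNormal F : F ≃ₐ[k] F) : F →ₐ[k] F) := by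
  rw [specAut_eq_fldHom, fldHom_comp, fldHom_comp]
  exact congrArg fldHom (AlgHom.ext fun x => (AlgEquiv.restrictNormal_commutes σ F x).symm)

section Twist

variable {F : Type u} [Field F] [Algebra k F]

/-- The twisted translation of the trivial torsor over an extension. -/
def twTrans (g : SGA7.Pts F G) (τ : F ≃ₐ[k] F) : G ⊗ SGA7.pt (K := k) F ⟶ G ⊗ SGA7.pt (K := k) F :=
  lift (fst G _ * (snd G _ ≫ g)) (snd G _ ≫ fldHom (τ : F →ₐ[k] F))

theorem twTrans_comp (g h : SGA7.Pts F G) (σ τ : F ≃ₐ[k] F) :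
    twTrans g σ ≫ twTrans h τ = twTrans (g * (fldHom (σ : F →ₐ[k] F) ≫ h)) (σ * τ) := by
  apply CartesianMonoidalCategory.hom_ext
  · simp [twTrans, MonObj.comp_mul, _root_.mul_assoc]
  · simp only [twTrans, Category.assoc, lift_snd, lift_snd_assoc, fldHom_comp]
    rfl

theorem twTrans_equivariant (g : SGA7.Pts F G) (τ : F ≃ₐ[k] F) :
    (AlgSt.leftMul G _).act ≫ twTrans g τ = (G ◁ twTrans g τ) ≫ (AlgSt.leftMul G _).act := by
  apply CartesianMonoidalCategory.hom_ext <;>
    simp [twTrans, AlgSt.leftMul, MonObj.comp_mul, _root_.mul_assoc]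

theorem comp_unit_sec {T U : Over (Spec (CommRingCat.of k))} (f : U ⟶ T) :
    f ≫ lift (1 : T ⟶ G) (𝟙 T) = lift 1 f := by
  rw [comp_lift, MonObj.comp_one, Category.comp_id]

theorem lift_unit_act {T U : Over (Spec (CommRingCat.of k))} (g : U ⟶ G) (f : U ⟶ T) :
    lift g (lift 1 f) ≫ (AlgSt.leftMul G T).act = lift g f := by
  rw [leftMul_pt, lift_fst, lift_snd, _root_.mul_one]

theorem unit_twTrans {U : Over (Spec (CommRingCat.of k))} (f : U ⟶ SGA7.pt (K := k) F) (g : SGA7.Pts F G)
    (τ : F ≃ₐ[k] F) : lift 1 f ≫ twTrans g τ = lift (f ≫ g) (f ≫ fldHom (τ : F →ₐ[k] F)) := by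
  simp [twTrans, MonObj.comp_mul]

set_option maxHeartbeats 2000000 in
/-- The descended torsor of a cocycle over a finite Galois extension. -/
theorem exists_twist_finite [IsAlgClosed K] [IsGalois k K] [Smooth G.hom] [IsAffineHom G.hom]
    (F : IntermediateField k K) [FiniteDimensional k F] [Normal k F] (ζ : (F ≃ₐ[k] F) → SGA7.Pts F G)
    (hζ : ∀ σ τ : F ≃ₐ[k] F, ζ (σ * τ) = ζ σ * (fldHom (σ : F →ₐ[k] F) ≫ ζ τ)) :
    ∃ (P : Over (Spec (CommRingCat.of k))) (a : AlgGrp.Action G P) (t : SGA7.Pts K P),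
      NonAbH1.IsPseudoTorsorSch a ∧ NonAbH1.IsLocallyTrivialFor Scheme.etalePrecoverage P ∧
      ∀ σ : K ≃ₐ[k] K, pmul a (fldHom F.val ≫ ζ (σ.restrictNormal F)) (σ • t) = t := by
  haveI : IsGalois k F := {}
  let T := SGA7.pt (K := k) F
  let W := G ⊗ T
  let R : (F ≃ₐ[k] F) → (W ⟶ W) := fun τ => twTrans (ζ τ) τ
  have hR : ∀ σ τ, R σ ≫ R τ = R (σ * τ) := fun σ τ => by simp only [R, twTrans_comp, ← hζ]
  have hζ1 : ζ 1 = 1 := by
    have h := hζ 1 1
    rw [_root_.one_mul] at h
    have e : fldHom ((1 : F ≃ₐ[k] F) : F →ₐ[k] F) = 𝟙 T :=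
      Over.OverMorphism.ext (Spec.map_id (CommRingCat.of F))
    rw [e, Category.id_comp] at h
    exact left_eq_mul.mp h
  have hR1 : R 1 = 𝟙 W := by
    have e : fldHom ((1 : F ≃ₐ[k] F) : F →ₐ[k] F) = 𝟙 T :=
      Over.OverMorphism.ext (Spec.map_id (CommRingCat.of F))
    apply CartesianMonoidalCategory.hom_ext
    · simp [R, twTrans, hζ1, MonObj.comp_one]
      exact lift_fst _ _
    · simp only [R, twTrans, lift_snd, e, Category.comp_id, Category.id_comp]
      exact Category.comp_id _
  let ρ : (F ≃ₐ[k] F) →* Aut W.left :=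
    MonoidHom.mk' (fun τ =>
      { hom := (R τ⁻¹).left
        inv := (R τ).left
        hom_inv_id := by rw [← Over.comp_left, hR, inv_mul_cancel, hR1]; rfl
        inv_hom_id := by rw [← Over.comp_left, hR, mul_inv_cancel, hR1]; rfl })
      fun σ τ => Iso.ext (by
        show (R (σ * τ)⁻¹).left = (R τ⁻¹).left ≫ (R σ⁻¹).left
        rw [← Over.comp_left, hR, mul_inv_rev])
  let s : W.left ⟶ Spec (CommRingCat.of F) := (snd G T).left
  have hs : ∀ σ, (ρ σ).hom ≫ s = s ≫ GalTw.specMap F σ⁻¹ := fun σ => by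
    show (R σ⁻¹).left ≫ (snd G T).left = (snd G T).left ≫ _
    rw [← Over.comp_left]
    simp only [R, twTrans, lift_snd]
    rfl
  haveI : IsAffineHom s := MorphismProperty.pullback_snd (P := @IsAffineHom) G.hom T.hom inferInstance
  haveI : IsAffine W.left := isAffine_of_isAffineHom s
  obtain ⟨Y, p, q, hp, hpb⟩ := GalDescX.exists_descent ρ s hs fun _ =>
    ⟨⊤, isAffineOpen_top _, fun _ => trivial⟩
  let P : Over (Spec (CommRingCat.of k)) := Over.mk q
  let c : W ⟶ P := Over.homMk p (show p ≫ q = W.hom from hpb.w.trans (Over.w (snd G T)))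
  have hcet : Etale c.left := MorphismProperty.of_isPullback hpb.flip (etale_pt F)
  have hcsurj : Surjective c.left := MorphismProperty.of_isPullback hpb.flip (surjective_pt F)
  have hcqc : QuasiCompact c.left := MorphismProperty.of_isPullback hpb.flip (quasiCompact_pt F)
  haveI : Etale c.left := hcet
  haveI : Surjective c.left := hcsurj
  haveI : QuasiCompact c.left := hcqc
  have hinv : ∀ τ, R τ ≫ c = c := fun τ => Over.OverMorphism.ext (by
    rw [← inv_inv τ]
    exact hp.inv τ⁻¹)
  -- the action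
  have hG : IsPullback (G ◁ c).left (snd G W).left (snd G P).left c.left :=
    isPullback_left (AlgSt.isPullback_whiskerLeft c)
  haveI : Etale (G ◁ c).left := MorphismProperty.of_isPullback hG.flip hcet
  haveI : Surjective (G ◁ c).left := MorphismProperty.of_isPullback hG.flip hcsurj
  haveI : QuasiCompact (G ◁ c).left := MorphismProperty.of_isPullback hG.flip hcqc
  haveI : Smooth W.hom := by
    haveI : Smooth (pullback.snd G.hom T.hom) := MorphismProperty.pullback_snd G.hom T.hom inferInstance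
    haveI := etale_pt (k := k) F
    show Smooth (pullback.fst G.hom T.hom ≫ G.hom)
    rw [pullback.condition]
    infer_instance
  haveI : Smooth (G ⊗ W).hom := by
    haveI : Smooth (pullback.snd G.hom W.hom) := MorphismProperty.pullback_snd G.hom W.hom inferInstance
    show Smooth (pullback.fst G.hom W.hom ≫ G.hom)
    rw [pullback.condition]
    infer_instance
  have horb : ∀ w w' : SGA7.Pts K W, w ≫ c = w' ≫ c → ∃ τ, w ≫ R τ = w' := fun w w' h => by
    obtain ⟨e, he⟩ := exists_algHom_of_pt (w ≫ snd G T)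
    obtain ⟨e', he'⟩ := exists_algHom_of_pt (w' ≫ snd G T)
    obtain ⟨α, rfl⟩ := exists_restrict F e
    obtain ⟨β, rfl⟩ := exists_restrict F e'
    refine ⟨α⁻¹ * β, Over.OverMorphism.ext (hpb.hom_ext ?_ ?_)⟩
    · show (w ≫ R _).left ≫ c.left = w'.left ≫ c.left
      rw [← Over.comp_left, ← Over.comp_left, Category.assoc, hinv, h]
    · show (w ≫ R _).left ≫ (snd G T).left = w'.left ≫ (snd G T).left
      rw [← Over.comp_left, ← Over.comp_left, he', Category.assoc]
      simp only [R, twTrans, lift_snd]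
      rw [← Category.assoc, he, fldHom_comp]
      refine congrArg (fun f => (fldHom f).left) (AlgHom.ext fun x => ?_)
      show F.val (α ((α⁻¹ * β) x)) = F.val (β x)
      rw [← AlgEquiv.mul_apply, mul_inv_cancel_left]
  obtain ⟨act, hact⟩ := exists_desc_pts (K := K) (G ◁ c) ((AlgSt.leftMul G T).act ≫ c) fun y y' h => by
    have h1 : y ≫ fst G W = y' ≫ fst G W := by
      have := congrArg (· ≫ fst G P) h
      simpa using this
    have h2 : (y ≫ snd G W) ≫ c = (y' ≫ snd G W) ≫ c := by
      have := congrArg (· ≫ snd G P) h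
      simpa using this
    obtain ⟨τ, hτ⟩ := horb _ _ h2
    have e : y ≫ (G ◁ R τ) = y' := by
      apply CartesianMonoidalCategory.hom_ext
      · simp [h1]
      · simp [← hτ]
    rw [← e, Category.assoc, ← Category.assoc (G ◁ R τ)]
    simp only [R]
    rw [← twTrans_equivariant, Category.assoc]
    exact congrArg (fun f => y ≫ (AlgSt.leftMul G T).act ≫ f) (hinv τ).symm
  have hepi : ∀ X : Over (Spec (CommRingCat.of k)), Epi (X ◁ c) := fun X => by
    exact EssDimLib.epi_of_fqs (EssDimLib.fqs_of_isPullback (AlgSt.isPullback_whiskerLeft c)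
      ⟨⟨inferInstanceAs (Flat c.left), hcqc⟩, hcsurj⟩)
  let a : AlgGrp.Action G P :=
    { act := act
      one_act := by
        haveI := hepi (𝟙_ _)
        rw [← cancel_epi ((𝟙_ _) ◁ c), ← Category.assoc, whisker_exchange, Category.assoc, hact, ← Category.assoc,
          (AlgSt.leftMul G T).one_act]
        exact (leftUnitor_naturality c).symm
      mul_act := by
        haveI := hepi (G ⊗ G)
        rw [← cancel_epi ((G ⊗ G) ◁ c), ← Category.assoc, whisker_exchange, Category.assoc, hact, ← Category.assoc,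
          (AlgSt.leftMul G T).mul_act, Category.assoc, Category.assoc]
        rw [associator_naturality_right_assoc, ← MonoidalCategory.whiskerLeft_comp_assoc, hact,
          MonoidalCategory.whiskerLeft_comp_assoc, hact] }
  let tF : T ⟶ P := lift 1 (𝟙 T) ≫ c
  have hpm : ∀ {U : Over (Spec (CommRingCat.of k))} (g : U ⟶ G) (w : U ⟶ W),
      pmul a g (w ≫ c) = (lift g w ≫ (AlgSt.leftMul G T).act) ≫ c := fun g w => by
    show lift g (w ≫ c) ≫ act = _
    rw [← lift_whiskerLeft_assoc, hact, Category.assoc]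
  have htriv : (G ◁ tF) ≫ a.act = c := by
    have e : G ◁ tF = lift (fst G T) (lift 1 (snd G T) ≫ c) := by
      apply CartesianMonoidalCategory.hom_ext
      · simp
      · rw [whiskerLeft_snd, lift_snd, ← comp_unit_sec (snd G T), Category.assoc]
    rw [e]
    refine (hpm _ _).trans ?_
    rw [lift_unit_act, lift_fst_snd, Category.id_comp]
  have hsing : Presieve.singleton T.hom ∈ Scheme.etalePrecoverage (Spec (CommRingCat.of k)) := by
    exact (Scheme.singleton_mem_precoverage_iff (P := @Etale) T.hom).2 ⟨(surjective_pt F).surj, etale_pt F⟩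
  have hps : NonAbH1.IsPseudoTorsorSch a := by
    refine SchTorsor.isPseudoTorsor_of_local _ ((Scheme.etalePrecoverage_le_proetalePrecoverage.trans
      Scheme.proetalePrecoverage_le_fpqcPrecoverage) _ hsing) ?_
    rintro S' f ⟨⟩
    refine ⟨tF, ?_⟩
    show IsIso (lift ((G ◁ tF) ≫ a.act) (snd G T))
    rw [htriv]
    haveI : IsIso (lift c (snd G T)).left := by
      have h : (lift c (snd G T)).left = hpb.isoPullback.hom := by
        apply pullback.hom_ext
        · refine Eq.trans ?_ hpb.isoPullback_hom_fst.symm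
          exact congrArg CommaMorphism.left (lift_fst c (snd G T))
        · refine Eq.trans ?_ hpb.isoPullback_hom_snd.symm
          exact congrArg CommaMorphism.left (lift_snd c (snd G T))
      rw [h]
      infer_instance
    haveI : IsIso ((Over.forget _).map (lift c (snd G T))) := this
    exact isIso_of_reflects_iso _ (Over.forget _)
  refine ⟨P, a, fldHom F.val ≫ tF, hps, ⟨_, hsing, ?_⟩, fun σ => ?_⟩
  · rintro S' f ⟨⟩
    exact ⟨tF.left, Over.w tF⟩
  · have h1 : σ • (fldHom F.val ≫ tF) =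
        lift 1 (fldHom F.val ≫ fldHom ((σ.restrictNormal F : F ≃ₐ[k] F) : F →ₐ[k] F)) ≫ c := by
      rw [GalTw.pts_smul_def, ← Category.assoc, smul_incl]
      simp only [tF, ← Category.assoc]
      exact congrArg (· ≫ c) (comp_unit_sec _)
    rw [h1, hpm, lift_unit_act]
    show _ = fldHom F.val ≫ lift 1 (𝟙 T) ≫ c
    conv_rhs => rw [← hinv (σ.restrictNormal F), ← Category.assoc (fldHom F.val), comp_unit_sec]
    simp only [R, ← Category.assoc]
    rw [← unit_twTrans]

end Twist

/-- The torsor of a locally constant cocycle. -/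
theorem exists_twist [IsAlgClosed K] [IsGalois k K] [Smooth G.hom] [IsAffineHom G.hom]
    (z : GpH1.OneCocycleLC (K ≃ₐ[k] K) (SGA7.Pts K G)) :
    ∃ (P : Over (Spec (CommRingCat.of k))) (a : AlgGrp.Action G P) (t : SGA7.Pts K P),
      NonAbH1.IsPseudoTorsorSch a ∧ NonAbH1.IsLocallyTrivialFor Scheme.etalePrecoverage P ∧
      ∀ σ, pmul a (z.1 σ) (σ • t) = t := by
  obtain ⟨F, hF, hFn, hval, hcoset⟩ := exists_level_cocycle z
  choose y hy using hval
  let ζ : (F ≃ₐ[k] F) → SGA7.Pts F G := fun τ => y (τ.liftNormal K)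
  have hres : ∀ σ : K ≃ₐ[k] K, fldHom F.val ≫ ζ (σ.restrictNormal F) = z.1 σ := fun σ => by
    show _ ≫ y _ = _
    rw [hy, ← hcoset σ (σ⁻¹ * (σ.restrictNormal F).liftNormal K) ?_, mul_inv_cancel_left]
    rw [IntermediateField.mem_fixingSubgroup_iff]
    intro x hx
    rw [AlgEquiv.mul_apply]
    have h1 := AlgEquiv.liftNormal_commutes (σ.restrictNormal F) K ⟨x, hx⟩
    have h2 := AlgEquiv.restrictNormal_commutes σ F ⟨x, hx⟩
    show σ.symm _ = x
    rw [AlgEquiv.symm_apply_eq]
    exact h1.trans h2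
  have hζ : ∀ σ τ, ζ (σ * τ) = ζ σ * (fldHom (σ : F →ₐ[k] F) ≫ ζ τ) := fun σ τ => by
    refine fldHom_comp_injective F.val ?_
    show fldHom F.val ≫ _ = fldHom F.val ≫ _
    obtain ⟨σ, rfl⟩ := AlgEquiv.restrictNormalHom_surjective K σ
    obtain ⟨τ, rfl⟩ := AlgEquiv.restrictNormalHom_surjective K τ
    rw [MonObj.comp_mul, ← map_mul]
    show fldHom F.val ≫ ζ ((σ * τ).restrictNormal F) = fldHom F.val ≫ ζ (σ.restrictNormal F) *
      fldHom F.val ≫ fldHom ((σ.restrictNormal F : F ≃ₐ[k] F) : F →ₐ[k] F) ≫ ζ (τ.restrictNormal F)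
    rw [hres, hres, ← Category.assoc, ← smul_incl, Category.assoc, hres, z.1.2 σ τ]
    rfl
  obtain ⟨P, a, t, h1, h2, h3⟩ := exists_twist_finite F ζ hζ
  exact ⟨P, a, t, h1, h2, fun σ => by rw [← hres σ]; exact h3 σ⟩

end Groth.Agent.StkCntLib
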