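import Groth.Agent.StkCntLib.Mass
import Mathlib.FieldTheory.Finite.Basic
import Mathlib.FieldTheory.Finite.GaloisField
import Mathlib.FieldTheory.IsAlgClosed.Basic
import Mathlib.GroupTheory.Coset.Card

/-!
The mass of twisted conjugation on a group filtered by additive functions: the fixed points of a Frobenius.
-/

set_option autoImplicit false
set_option linter.unusedSectionVars false
set_option linter.style.haveILetI false

universe u v w

open MulAction

noncomputable section

namespace Groth.Agent.StkCntLib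

/-- The kernel of a homomorphism onto a finite group has proportional mass. -/
theorem mass_ker {Γ : Type u} [Group Γ] {D : Type v} [MulAction Γ D] {Q : Type w} [Group Q] [Finite Q]
    (f : Γ →* Q) (hf : Function.Surjective f) (hstab : ∀ d : D, Finite (stabilizer Γ d))
    (hfin : Finite (orbitRel.Quotient f.ker D)) :
    Finite (orbitRel.Quotient Γ D) ∧ mass Γ D = mass f.ker D / (Nat.card Q : ℚ) := by
  classical
  letI : MulAction Γ Q := MulAction.compHom Q f
  have hsmul : ∀ (g : Γ) (x : Q), g • x = f g * x := fun _ _ => rfl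
  haveI hfinΓ : Finite (orbitRel.Quotient Γ D) := by
    refine Finite.of_surjective (Quotient.map' id fun a b h => ?_ : orbitRel.Quotient f.ker D → orbitRel.Quotient Γ D)
      fun q => Quotient.inductionOn q fun d => ⟨Quotient.mk _ d, rfl⟩
    obtain ⟨g, hg⟩ := h
    exact ⟨(g : Γ), hg⟩
  refine ⟨hfinΓ, ?_⟩
  let pQ : D × Q →[Γ] Q := ⟨Prod.snd, fun _ _ => rfl⟩
  let pD : D × Q →[Γ] D := ⟨Prod.fst, fun _ _ => rfl⟩
  have hstabQ : stabilizer Γ (1 : Q) = f.ker := by
    ext g
    rw [MulAction.mem_stabilizer_iff, hsmul, _root_.mul_one, MonoidHom.mem_ker]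
  let e : stabilizer Γ (1 : Q) ≃* f.ker := MulEquiv.subgroupCongr hstabQ
  let eF : Fib pQ (1 : Q) ≃ D :=
    { toFun := fun x => x.1.1
      invFun := fun d => ⟨(d, 1), rfl⟩
      left_inv := fun x => Subtype.ext (Prod.ext rfl x.2.symm)
      right_inv := fun _ => rfl }
  have hc := mass_congr e eF fun g x => rfl
  haveI hfQ : ∀ _ : Unit, Finite (orbitRel.Quotient (stabilizer Γ (1 : Q)) (Fib pQ (1 : Q))) := fun _ => hc.1 hfin
  have h1 : mass Γ (D × Q) = mass f.ker D := by
    rw [@mass_eq_sum_fib Γ _ (D × Q) _ Q _ pQ Unit _ (fun _ => (1 : Q)) (fun x => ?_) (fun _ _ _ => rfl) hfQ, Finset.univ_unique,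
      Finset.sum_singleton, hc.2]
    obtain ⟨g, hg⟩ := hf x.2
    exact ⟨(), g, (hsmul g 1).trans (by rw [_root_.mul_one]; exact hg)⟩
  haveI := Fintype.ofFinite (orbitRel.Quotient Γ D)
  let eQ : ∀ q : orbitRel.Quotient Γ D, Fib pD q.out ≃ Q := fun q =>
    { toFun := fun x => x.1.2
      invFun := fun x => ⟨(q.out, x), rfl⟩
      left_inv := fun x => Subtype.ext (Prod.ext x.2.symm rfl)
      right_inv := fun _ => rfl }
  haveI : ∀ q : orbitRel.Quotient Γ D, Finite (Fib pD q.out) := fun q => Finite.of_equiv Q (eQ q).symm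
  haveI : ∀ q : orbitRel.Quotient Γ D, Finite (stabilizer Γ q.out) := fun q => hstab _
  have h2 : mass Γ (D × Q) = (Nat.card Q : ℚ) * mass Γ D := by
    rw [mass_eq_sum_fib pD (fun q : orbitRel.Quotient Γ D => q.out)
      (fun x => ⟨Quotient.mk _ x.1, by
        exact (orbitRel Γ D).symm' (Quotient.mk_out (s := orbitRel Γ D) x.1)⟩)
      fun q q' h => by rw [← Quotient.out_eq q, ← Quotient.out_eq q']; exact Quotient.sound h]
    rw [mass, finsum_eq_sum_of_fintype, Finset.mul_sum]
    exact Finset.sum_congr rfl fun q _ => by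
      rw [mass_eq_div, Nat.card_congr (eQ q), div_eq_mul_inv]
  rw [← h1, h2, mul_div_cancel_left₀]
  exact Nat.cast_ne_zero.2 Nat.card_pos.ne'

variable (Γ : Type u) [Group Γ] (F : Type v) [Field F]

/-- A filtration of a group by normal subgroups cut out by additive functions. -/
structure AddFilt where
  /-- the subgroups -/
  sub : ℕ → Subgroup Γ
  /-- the functions -/
  fn : ℕ → Γ → F
  /-- the length -/
  len : ℕ
  sub_zero : sub 0 = ⊤
  sub_len : sub len = ⊥
  conj_mem : ∀ j (c : Γ), ∀ w ∈ sub j, c * w * c⁻¹ ∈ sub j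
  fn_mul : ∀ j, ∀ x ∈ sub j, ∀ y ∈ sub j, fn j (x * y) = fn j x + fn j y
  mem_succ : ∀ j < len, ∀ x, x ∈ sub (j + 1) ↔ x ∈ sub j ∧ fn j x = 0
  fn_conj : ∀ j (c : Γ), ∀ w ∈ sub j, fn j (c * w * c⁻¹) = fn j w
  image_cases : ∀ j < len, (fn j '' (sub j : Set Γ)).Finite ∨ fn j '' (sub j : Set Γ) = Set.univ

variable {Γ F}

namespace AddFilt

variable (T : AddFilt Γ F)

/-- An automorphism acts on the filtration as the `q`-th power. -/
structure IsFrob (σ : Γ →* Γ) (q : ℕ) : Prop where
  mem : ∀ j, ∀ x ∈ T.sub j, σ x ∈ T.sub j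
  fn_eq : ∀ j, ∀ x ∈ T.sub j, T.fn j (σ x) = T.fn j x ^ q

theorem IsFrob.iterate {σ : Γ →* Γ} {q : ℕ} (h : T.IsFrob σ q) :
    ∀ (n : ℕ) (τ : Γ →* Γ), (∀ x, τ x = σ^[n] x) → T.IsFrob τ (q ^ n)
  | 0, τ, hτ => ⟨fun j x hx => by rw [hτ]; exact hx, fun j x hx => by rw [hτ, pow_zero, pow_one]; rfl⟩
  | n + 1, τ, hτ => by
    let τ' : Γ →* Γ := MonoidHom.mk' (σ^[n]) fun a b => by
      clear h hτ τ
      induction n with
      | zero => rfl
      | succ m ih => simp only [Function.iterate_succ_apply', ih, map_mul]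
    have h' := IsFrob.iterate h n τ' fun _ => rfl
    refine ⟨fun j x hx => ?_, fun j x hx => ?_⟩
    · rw [hτ, Function.iterate_succ_apply']
      exact h.mem j _ (h'.mem j x hx)
    · rw [hτ, Function.iterate_succ_apply', show σ^[n] x = τ' x from rfl, h.fn_eq j _ (h'.mem j x hx),
        h'.fn_eq j x hx, ← pow_mul, pow_succ]

theorem fn_one (j : ℕ) : T.fn j 1 = 0 := by
  have h := T.fn_mul j 1 (one_mem _) 1 (one_mem _)
  rw [_root_.one_mul] at h
  exact left_eq_add.1 h

/-- The function of a step as a homomorphism. -/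
def hom (j : ℕ) : T.sub j →* Multiplicative F :=
  MonoidHom.mk' (fun w => Multiplicative.ofAdd (T.fn j w)) fun a b => T.fn_mul j a a.2 b b.2

open Classical in
/-- The number of steps with infinite image. -/
def expo : ℕ → ℕ
  | 0 => 0
  | j + 1 => expo j + if (T.fn j '' (T.sub j : Set Γ)).Finite then 0 else 1

theorem expo_mono : Monotone T.expo :=
  monotone_nat_of_le_succ fun j => Nat.le_add_right _ _

open Classical in
/-- The bound of the finite steps. -/
def bound : ℕ → ℕ
  | 0 => 1
  | j + 1 => bound j * if (T.fn j '' (T.sub j : Set Γ)).Finite then Nat.card (T.fn j '' (T.sub j : Set Γ)) else 1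

section Frob

variable {σ : Γ →* Γ} {q : ℕ}

/-- Twisted conjugation. -/
@[ext]
structure Tw (σ : Γ →* Γ) where
  /-- the element -/
  val : Γ

instance : MulAction Γ (Tw σ) where
  smul w y := ⟨w * y.val * (σ w)⁻¹⟩
  one_smul y := Tw.ext (show 1 * y.val * (σ 1)⁻¹ = y.val by simp)
  mul_smul g h y := Tw.ext (show g * h * y.val * (σ (g * h))⁻¹ = g * (h * y.val * (σ h)⁻¹) * (σ g)⁻¹ by
    rw [map_mul, mul_inv_rev]; group)

theorem Tw.smul_val (w : Γ) (y : Tw σ) : (w • y).val = w * y.val * (σ w)⁻¹ := rfl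

theorem Tw.mem_stabilizer_iff (g : Γ) (y : Tw σ) : g ∈ stabilizer Γ y ↔ g * y.val = y.val * σ g := by
  rw [MulAction.mem_stabilizer_iff, Tw.ext_iff, Tw.smul_val, mul_inv_eq_iff_eq_mul]

theorem coset_smul_mem {j : ℕ} (hσ : T.IsFrob σ q) (c : Γ) {w : Γ} (hw : w ∈ T.sub j) {y : Γ}
    (hy : c⁻¹ * y ∈ T.sub j) : c⁻¹ * (w * y * (σ w)⁻¹) ∈ T.sub j := by
  have h : c⁻¹ * (w * y * (σ w)⁻¹) = c⁻¹ * w * c * (c⁻¹ * y) * (σ w)⁻¹ := by group
  rw [h]
  refine mul_mem (mul_mem ?_ hy) (inv_mem (hσ.mem j w hw))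
  have := T.conj_mem j c⁻¹ w hw
  rwa [inv_inv] at this

/-- A coset of a step with twisted conjugation. -/
def coset (hσ : T.IsFrob σ q) (j : ℕ) (c : Γ) : SubMulAction (T.sub j) (Tw σ) where
  carrier := {y | c⁻¹ * y.val ∈ T.sub j}
  smul_mem' w _ hy := T.coset_smul_mem hσ c w.2 hy

variable (p : ℕ) [Fact p.Prime] [CharP F p] {s : ℕ}

/-- The map `t ↦ t - t ^ q` on functions. -/
def psi (hq : q = p ^ s) (j : ℕ) : T.sub j →* Multiplicative F :=
  MonoidHom.mk' (fun w => Multiplicative.ofAdd (T.fn j w - T.fn j w ^ q)) fun a b => by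
    rw [← ofAdd_add]
    congr 1
    rw [Subgroup.coe_mul, T.fn_mul j a a.2 b b.2, hq, add_pow_char_pow]
    ring

variable [IsAlgClosed F]

theorem exists_sub_pow_eq (hq : 1 < q) (t : F) : ∃ v : F, v - v ^ q = t := by
  obtain ⟨v, hv⟩ := IsAlgClosed.exists_root (Polynomial.X ^ q - Polynomial.X + Polynomial.C t : Polynomial F) (by
    have h : (Polynomial.X ^ q - Polynomial.X + Polynomial.C t : Polynomial F).degree = (q : WithBot ℕ) := by
      compute_degree!
      · rw [if_neg (by omega), if_neg (by omega)]; simp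
      · exact max_eq_left (WithBot.coe_le_coe.2 hq.le)
    rw [h]
    exact_mod_cast (show q ≠ 0 by omega))
  refine ⟨v, ?_⟩
  simp [Polynomial.IsRoot] at hv
  linear_combination -hv

theorem finite_fixed_field (hq : 1 < q) : {v : F | v ^ q = v}.Finite := by
  classical
  refine ((Polynomial.X ^ q - Polynomial.X : Polynomial F).roots.toFinset.finite_toSet).subset fun v hv => ?_
  rw [Finset.mem_coe, Multiset.mem_toFinset, Polynomial.mem_roots (FiniteField.X_pow_card_sub_X_ne_zero _ hq)]
  simp [show v ^ q = v from hv]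

theorem card_fixed_pow (hq : q = p ^ s) (hs : 1 ≤ s) : Nat.card {v : F | v ^ q = v} = q := by
  classical
  have hq1 : 1 < q := hq ▸ Nat.one_lt_pow (by omega) (Fact.out : p.Prime).one_lt
  have hne : (Polynomial.X ^ q - Polynomial.X : Polynomial F) ≠ 0 := FiniteField.X_pow_card_sub_X_ne_zero _ hq1
  have hsep := galois_poly_separable (K := F) p q (hq ▸ dvd_pow_self p (by omega))
  have h := Polynomial.card_rootSet_eq_natDegree (K := F) hsep (IsAlgClosed.splits _)
  rw [FiniteField.X_pow_card_sub_X_natDegree_eq _ hq1] at h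
  have hset : {v : F | v ^ q = v} = (Polynomial.X ^ q - Polynomial.X : Polynomial F).rootSet F := by
    ext v
    simp [Polynomial.mem_rootSet, hne, sub_eq_zero]
  rw [hset, Nat.card_eq_fintype_card, h]

set_option maxHeartbeats 1000000 in
/-- The mass of twisted conjugation of a step on each of its cosets. -/
theorem mass_coset (hσ : T.IsFrob σ q) (hq : q = p ^ s) (hs : 1 ≤ s)
    (hfix : ∀ c : Γ, Finite {w : Γ // w * c = c * σ w}) :
    ∀ (i j : ℕ), i + j = T.len → ∀ c : Γ,
      Finite (orbitRel.Quotient (T.sub j) (T.coset hσ j c)) ∧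
        mass (T.sub j) (T.coset hσ j c) = ((q : ℚ) ^ (T.expo T.len - T.expo j))⁻¹ := by
  have hq1 : 1 < q := hq ▸ Nat.one_lt_pow (by omega) (Fact.out : p.Prime).one_lt
  intro i
  induction i with
  | zero =>
    intro j hj c
    obtain rfl : j = T.len := by omega
    haveI : Subsingleton (T.sub T.len) := ⟨fun a b => Subtype.ext (by
      have ha := (T.sub_len.le a.2 : (a : Γ) ∈ (⊥ : Subgroup Γ))
      have hb := (T.sub_len.le b.2 : (b : Γ) ∈ (⊥ : Subgroup Γ))
      rw [Subgroup.mem_bot] at ha hb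
      rw [ha, hb])⟩
    let E : T.coset hσ T.len c ≃ Unit :=
      { toFun := fun _ => ()
        invFun := fun _ => ⟨⟨c⟩, show c⁻¹ * c ∈ T.sub T.len by rw [inv_mul_cancel]; exact one_mem _⟩
        left_inv := fun y => Subtype.ext (Tw.ext (by
          have h := (T.sub_len.le y.2 : c⁻¹ * y.1.val ∈ (⊥ : Subgroup Γ))
          rw [Subgroup.mem_bot, inv_mul_eq_one] at h
          exact h))
        right_inv := fun _ => rfl }
    haveI : Finite (T.coset hσ T.len c) := Finite.of_equiv _ E.symm
    refine ⟨inferInstance, ?_⟩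
    rw [mass_eq_div, Nat.card_congr E, Nat.card_unique, Nat.sub_self, pow_zero, Nat.card_unique]
    norm_num
  | succ i ih =>
    intro j hj c
    have hjlt : j < T.len := by omega
    letI actF : MulAction (T.sub j) (Multiplicative F) := MulAction.compHom _ (T.psi p hq j)
    have hact : ∀ (w : T.sub j) (t : Multiplicative F), w • t = T.psi p hq j w * t := fun _ _ => rfl
    let P : T.coset hσ j c →[T.sub j] Multiplicative F :=
      { toFun := fun y => Multiplicative.ofAdd (T.fn j (c⁻¹ * y.1.val))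
        map_smul' := fun w y => by
          show Multiplicative.ofAdd (T.fn j (c⁻¹ * ((w : Γ) * y.1.val * (σ w)⁻¹))) =
            Multiplicative.ofAdd (T.fn j w - T.fn j w ^ q) * Multiplicative.ofAdd (T.fn j (c⁻¹ * y.1.val))
          have hc' : c⁻¹ * (w : Γ) * c ∈ T.sub j := by
            have := T.conj_mem j c⁻¹ w w.2
            rwa [inv_inv] at this
          have hconj : T.fn j (c⁻¹ * (w : Γ) * c) = T.fn j w := by
            have := T.fn_conj j c⁻¹ w w.2
            rwa [inv_inv] at this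
          have hy : c⁻¹ * y.1.val ∈ T.sub j := y.2
          have hs' := hσ.mem j w w.2
          have hinv : T.fn j (σ w)⁻¹ = -(T.fn j w ^ q) := by
            have h1 := T.fn_mul j (σ w) hs' _ (inv_mem hs')
            rw [mul_inv_cancel, T.fn_one, hσ.fn_eq j w w.2] at h1
            exact eq_neg_of_add_eq_zero_right h1.symm
          rw [← ofAdd_add, show c⁻¹ * ((w : Γ) * y.1.val * (σ w)⁻¹) = c⁻¹ * (w : Γ) * c * (c⁻¹ * y.1.val) * (σ w)⁻¹
            by group, T.fn_mul j _ (mul_mem hc' hy) _ (inv_mem hs'), T.fn_mul j _ hc' _ hy, hconj, hinv]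
          congr 1
          ring }
    -- the image of the step and the fixed elements in it
    let I : Subgroup (Multiplicative F) := (T.hom j).range
    have hI : ∀ t : Multiplicative F, t ∈ I ↔ Multiplicative.toAdd t ∈ T.fn j '' (T.sub j : Set Γ) := fun t =>
      ⟨fun ⟨w, hw⟩ => ⟨w, w.2, congrArg Multiplicative.toAdd hw⟩, fun ⟨x, hx, hxt⟩ => ⟨⟨x, hx⟩, by
        show Multiplicative.ofAdd (T.fn j x) = t
        rw [hxt]; rfl⟩⟩
    let R : Subgroup (T.sub j) := (T.psi p hq j).ker
    let f : R →* Multiplicative F := (T.hom j).comp R.subtype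
    let J : Subgroup (Multiplicative F) := f.range
    have hJsub : (J : Set (Multiplicative F)) ⊆ Multiplicative.ofAdd '' {v : F | v ^ q = v} := by
      rintro _ ⟨w, rfl⟩
      refine ⟨T.fn j (w.1 : Γ), ?_, rfl⟩
      have h : T.fn j (w.1 : Γ) - T.fn j (w.1 : Γ) ^ q = 0 := congrArg Multiplicative.toAdd (MonoidHom.mem_ker.1 w.2)
      exact (sub_eq_zero.1 h).symm
    haveI : Finite J := (((finite_fixed_field hq1).image _).subset hJsub).to_subtype
    have hfib : ∀ t ∈ I, Finite (orbitRel.Quotient (stabilizer (T.sub j) t) (Fib P t)) ∧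
        mass (stabilizer (T.sub j) t) (Fib P t) =
          ((q : ℚ) ^ (T.expo T.len - T.expo (j + 1)))⁻¹ / (Nat.card J : ℚ) := by
      intro t ht
      obtain ⟨x, hx⟩ := ht
      subst hx
      have hstab : stabilizer (T.sub j) (T.hom j x) = R := by
        ext w
        rw [MulAction.mem_stabilizer_iff, hact, mul_eq_right]
        rfl
      obtain ⟨hih1, hih2⟩ := ih (j + 1) (by omega) (c * x)
      let f' : stabilizer (T.sub j) (T.hom j x) →* J :=
        f.rangeRestrict.comp (MulEquiv.subgroupCongr hstab).toMonoidHom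
      have hf' : Function.Surjective f' := fun y => by
        obtain ⟨w, hw⟩ := f.rangeRestrict_surjective y
        exact ⟨(MulEquiv.subgroupCongr hstab).symm w, by simpa [f'] using hw⟩
      have hker : ∀ w : stabilizer (T.sub j) (T.hom j x), w ∈ f'.ker ↔ T.fn j (w.1 : Γ) = 0 := fun w => by
        rw [MonoidHom.mem_ker, Subtype.ext_iff]
        exact ⟨fun h => congrArg Multiplicative.toAdd h, fun h => congrArg Multiplicative.ofAdd h⟩
      let e : f'.ker ≃* T.sub (j + 1) :=
        { toFun := fun w => ⟨(w.1.1 : Γ), (T.mem_succ j hjlt _).2 ⟨w.1.1.2, (hker w.1).1 w.2⟩⟩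
          invFun := fun w => ⟨⟨⟨(w : Γ), ((T.mem_succ j hjlt _).1 w.2).1⟩, hstab.symm.le (MonoidHom.mem_ker.2 (by
            show Multiplicative.ofAdd (T.fn j (w : Γ) - T.fn j (w : Γ) ^ q) = 1
            rw [((T.mem_succ j hjlt _).1 w.2).2, zero_pow (by omega), sub_self]; rfl))⟩,
            (hker _).2 ((T.mem_succ j hjlt _).1 w.2).2⟩
          left_inv := fun _ => rfl
          right_inv := fun _ => rfl
          map_mul' := fun _ _ => rfl }
      have hmem : ∀ y : Γ, c⁻¹ * y ∈ T.sub j →
          ((c * (x : Γ))⁻¹ * y ∈ T.sub (j + 1) ↔ T.fn j (c⁻¹ * y) = T.fn j x) := fun y hy => by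
        rw [show (c * (x : Γ))⁻¹ * y = (x : Γ)⁻¹ * (c⁻¹ * y) by group, T.mem_succ j hjlt]
        have h1 := T.fn_mul j _ (inv_mem x.2) _ hy
        have h2 := T.fn_mul j _ x.2 _ (inv_mem x.2)
        rw [mul_inv_cancel, T.fn_one] at h2
        rw [h1]
        exact ⟨fun h => by linear_combination h.2 + h2, fun h => ⟨mul_mem (inv_mem x.2) hy, by linear_combination h - h2⟩⟩
      have hmem' : ∀ y : Γ, (c * (x : Γ))⁻¹ * y ∈ T.sub (j + 1) → c⁻¹ * y ∈ T.sub j := fun y hy => by
        rw [show c⁻¹ * y = (x : Γ) * ((c * (x : Γ))⁻¹ * y) by group]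
        exact mul_mem x.2 ((T.mem_succ j hjlt _).1 hy).1
      let E : Fib P (T.hom j x) ≃ T.coset hσ (j + 1) (c * (x : Γ)) :=
        { toFun := fun y => ⟨y.1.1, (hmem _ y.1.2).2 (congrArg Multiplicative.toAdd y.2)⟩
          invFun := fun y => ⟨⟨y.1, hmem' _ y.2⟩,
            congrArg Multiplicative.ofAdd ((hmem _ (hmem' _ y.2)).1 y.2)⟩
          left_inv := fun _ => rfl
          right_inv := fun _ => rfl }
      have hc := mass_congr e E fun _ _ => rfl
      obtain ⟨h1, h2⟩ := mass_ker f' hf' (fun y => by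
        haveI := hfix y.1.1.val
        exact Finite.of_injective (fun g : stabilizer (stabilizer (T.sub j) (T.hom j x)) y =>
          (⟨(g.1.1 : Γ), (Tw.mem_stabilizer_iff _ _).1
            (congrArg (fun z : Fib P (T.hom j x) => z.1.1) g.2)⟩ :
              {w : Γ // w * y.1.1.val = y.1.1.val * σ w}))
          fun a b h => Subtype.ext (Subtype.ext (Subtype.ext
            (congrArg (fun g : {w : Γ // w * y.1.1.val = y.1.1.val * σ w} => g.1) h)))) (hc.1 hih1)
      exact ⟨h1, by rw [h2, hc.2, hih2]⟩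
    -- representatives of the orbits in the image
    have hImem : ∀ y : T.coset hσ j c, P y ∈ I := fun y => ⟨⟨_, y.2⟩, rfl⟩
    rcases T.image_cases j hjlt with hfinI | huniv
    · haveI : Finite I := ((hfinI.image Multiplicative.ofAdd).subset fun t ht => ⟨_, (hI t).1 ht, rfl⟩).to_subtype
      have hr : ∀ w : T.sub j, T.psi p hq j w ∈ I := fun w => by
        refine ⟨w * (⟨σ w, hσ.mem j w w.2⟩ : T.sub j)⁻¹, ?_⟩
        show _ = Multiplicative.ofAdd (T.fn j w - T.fn j w ^ q)
        rw [map_mul, map_inv, ← hσ.fn_eq j w w.2, ofAdd_sub, div_eq_mul_inv]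
        rfl
      let ψ' : T.sub j →* I := (T.psi p hq j).codRestrict I hr
      let ι := I ⧸ ψ'.range
      haveI : Finite ι := Finite.of_surjective (QuotientGroup.mk : I → I ⧸ ψ'.range) QuotientGroup.mk_surjective
      haveI := Fintype.ofFinite ι
      haveI := fun i : ι => (hfib _ (i.out : I).2).1
      have ha : ∀ y : T.coset hσ j c, ∃ i : ι, P y ∈ orbit (T.sub j) ((i.out : I) : Multiplicative F) := fun y => by
        refine ⟨QuotientGroup.mk ⟨P y, hImem y⟩, ?_⟩
        obtain ⟨⟨_, w, rfl⟩, hw⟩ := QuotientGroup.mk_out_eq_mul ψ'.range ⟨P y, hImem y⟩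
        refine ⟨w⁻¹, ?_⟩
        show T.psi p hq j w⁻¹ * ((_ : I) : Multiplicative F) = P y
        rw [hw, map_inv]
        show (T.psi p hq j w)⁻¹ * (P y * T.psi p hq j w) = P y
        rw [_root_.mul_comm (P y), inv_mul_cancel_left]
      haveI := finite_quotient_of_fib P (fun i : ι => ((i.out : I) : Multiplicative F)) ha
      refine ⟨inferInstance, ?_⟩
      rw [mass_eq_sum_fib P (fun i : ι => ((i.out : I) : Multiplicative F)) ha fun i i' h => ?_,
        Finset.sum_congr rfl fun i _ => (hfib _ (i.out : I).2).2, Finset.sum_const, Finset.card_univ, nsmul_eq_mul,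
        ← Nat.card_eq_fintype_card]
      · have hexp : T.expo (j + 1) = T.expo j := by simp [expo, hfinI]
        have hn : Nat.card ι = Nat.card J := by
          have h1 := Subgroup.card_eq_card_quotient_mul_card_subgroup ψ'.range
          let φI : T.sub j →* I := (T.hom j).rangeRestrict
          let Ψ : I →* I := MonoidHom.mk' (fun t => ⟨Multiplicative.ofAdd (Multiplicative.toAdd t.1 - Multiplicative.toAdd t.1 ^ q), by
              obtain ⟨w, hw⟩ := t.2
              rw [← hw]
              exact hr w⟩) fun a b => Subtype.ext (by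
            show Multiplicative.ofAdd _ = Multiplicative.ofAdd _ * Multiplicative.ofAdd _
            rw [← ofAdd_add, Subgroup.coe_mul, toAdd_mul, hq, add_pow_char_pow]
            congr 1
            ring)
          have hrange : Ψ.range = ψ'.range := by
            ext t
            refine ⟨fun ⟨⟨_, w, rfl⟩, hs'⟩ => ⟨w, ?_⟩, fun ⟨w, hw⟩ => ⟨⟨_, w, rfl⟩, ?_⟩⟩
            · rw [← hs']; rfl
            · rw [← hw]; rfl
          have h2 := Subgroup.card_eq_card_quotient_mul_card_subgroup Ψ.ker
          rw [Nat.card_congr (QuotientGroup.quotientKerEquivRange Ψ).toEquiv, hrange] at h2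
          have hk : Nat.card Ψ.ker = Nat.card J := by
            refine Nat.card_congr
              { toFun := fun t => ⟨t.1.1, ?_⟩
                invFun := fun t => ⟨⟨t.1, ?_⟩, ?_⟩
                left_inv := fun _ => rfl
                right_inv := fun _ => rfl }
            · obtain ⟨w, hw⟩ := t.1.2
              refine ⟨⟨w, MonoidHom.mem_ker.2 ?_⟩, hw⟩
              have h := congrArg Subtype.val (MonoidHom.mem_ker.1 t.2)
              show Multiplicative.ofAdd (T.fn j w - T.fn j w ^ q) = 1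
              refine Eq.trans ?_ h
              show _ = Multiplicative.ofAdd (Multiplicative.toAdd t.1.1 - Multiplicative.toAdd t.1.1 ^ q)
              rw [← hw]
              rfl
            · obtain ⟨w, hw⟩ := t.2
              exact ⟨w.1, hw⟩
            · obtain ⟨w, hw⟩ := t.2
              refine MonoidHom.mem_ker.2 (Subtype.ext ?_)
              show Multiplicative.ofAdd (Multiplicative.toAdd t.1 - Multiplicative.toAdd t.1 ^ q) = 1
              rw [← hw]
              exact MonoidHom.mem_ker.1 w.2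
          rw [hk] at h2
          have hpos : 0 < Nat.card ψ'.range := Nat.card_pos
          exact Nat.eq_of_mul_eq_mul_right hpos (by rw [← h1, h2, _root_.mul_comm])
        rw [hn, hexp]
        have : (Nat.card J : ℚ) ≠ 0 := Nat.cast_ne_zero.2 Nat.card_pos.ne'
        field_simp
      · obtain ⟨w, hw⟩ := h
        rw [← QuotientGroup.out_eq' i, ← QuotientGroup.out_eq' i', QuotientGroup.eq]
        refine ⟨w⁻¹, Subtype.ext ?_⟩
        show T.psi p hq j w⁻¹ = (i.out.1)⁻¹ * i'.out.1
        rw [← show T.psi p hq j w * i'.out.1 = i.out.1 from hw, map_inv, mul_inv_rev,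
          mul_comm (i'.out.1)⁻¹, mul_assoc, inv_mul_cancel, mul_one]
    · have h1I : (1 : Multiplicative F) ∈ I := one_mem _
      obtain ⟨hf1, hf2⟩ := hfib 1 h1I
      haveI : ∀ _ : Unit, Finite (orbitRel.Quotient (stabilizer (T.sub j) (1 : Multiplicative F))
        (Fib P (1 : Multiplicative F))) := fun _ => hf1
      have ha : ∀ y : T.coset hσ j c, ∃ _ : Unit, P y ∈ orbit (T.sub j) (1 : Multiplicative F) := fun y => by
        obtain ⟨v, hv⟩ := exists_sub_pow_eq hq1 (Multiplicative.toAdd (P y))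
        obtain ⟨w, hw, hwv⟩ : v ∈ T.fn j '' (T.sub j : Set Γ) := huniv ▸ Set.mem_univ v
        refine ⟨(), ⟨w, hw⟩, ?_⟩
        show T.psi p hq j ⟨w, hw⟩ * 1 = P y
        rw [_root_.mul_one]
        show Multiplicative.ofAdd (T.fn j w - T.fn j w ^ q) = P y
        rw [hwv, hv]; rfl
      haveI := finite_quotient_of_fib P (fun _ : Unit => (1 : Multiplicative F)) ha
      refine ⟨inferInstance, ?_⟩
      rw [mass_eq_sum_fib P (fun _ : Unit => (1 : Multiplicative F)) ha fun _ _ _ => rfl, Finset.univ_unique,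
        Finset.sum_singleton, hf2]
      have hexp : T.expo (j + 1) = T.expo j + 1 := by
        have : ¬ (T.fn j '' (T.sub j : Set Γ)).Finite := by
          rw [huniv]; exact Set.infinite_univ
        simp [expo, this]
      have hle : T.expo (j + 1) ≤ T.expo T.len := T.expo_mono hjlt
      have hJ : Nat.card J = q := by
        have hset : (J : Set (Multiplicative F)) = Multiplicative.ofAdd '' {v : F | v ^ q = v} := by
          refine hJsub.antisymm ?_
          rintro _ ⟨v, hv, rfl⟩
          obtain ⟨w, hw, hwv⟩ : v ∈ T.fn j '' (T.sub j : Set Γ) := huniv ▸ Set.mem_univ v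
          refine ⟨⟨⟨w, hw⟩, MonoidHom.mem_ker.2 ?_⟩, congrArg Multiplicative.ofAdd hwv⟩
          show Multiplicative.ofAdd (T.fn j w - T.fn j w ^ q) = 1
          rw [hwv, show v ^ q = v from hv, sub_self]; rfl
        show Nat.card (J : Set (Multiplicative F)) = q
        rw [hset, Nat.card_image_of_injective Multiplicative.ofAdd.injective, card_fixed_pow p hq hs]
      rw [hJ, show T.expo T.len - T.expo j = T.expo T.len - T.expo (j + 1) + 1 by omega, pow_succ, mul_inv, div_eq_mul_inv]

variable {c : Γ}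

/-- Twisted conjugation on everything. -/
theorem mass_tw (hσ : T.IsFrob σ q) (hq : q = p ^ s) (hs : 1 ≤ s)
    (hfix : ∀ c : Γ, Finite {w : Γ // w * c = c * σ w}) :
    Finite (orbitRel.Quotient Γ (Tw σ)) ∧ mass Γ (Tw σ) = ((q : ℚ) ^ T.expo T.len)⁻¹ := by
  obtain ⟨h1, h2⟩ := T.mass_coset p hσ hq hs hfix T.len 0 (Nat.add_zero _) 1
  let e : Γ ≃* T.sub 0 := Subgroup.topEquiv.symm.trans (MulEquiv.subgroupCongr T.sub_zero.symm)
  let E : Tw σ ≃ T.coset hσ 0 1 :=
    { toFun := fun y => ⟨y, show (1 : Γ)⁻¹ * y.val ∈ T.sub 0 by rw [T.sub_zero]; exact Subgroup.mem_top _⟩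
      invFun := fun y => y.1
      left_inv := fun _ => rfl
      right_inv := fun _ => rfl }
  have hc := mass_congr e E fun g d => rfl
  exact ⟨hc.1 h1, by rw [hc.2, h2]; simp [expo]⟩

/-- Lower bound for the fixed points of every twist. -/
theorem pow_le_card_fixed (hσ : T.IsFrob σ q) (hq : q = p ^ s) (hs : 1 ≤ s)
    (hfix : ∀ c : Γ, Finite {w : Γ // w * c = c * σ w}) (c : Γ) :
    q ^ T.expo T.len ≤ Nat.card {w : Γ // w * c = c * σ w} := by
  obtain ⟨h1, h2⟩ := T.mass_tw p hσ hq hs hfix
  haveI := hfix c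
  haveI := Fintype.ofFinite (orbitRel.Quotient Γ (Tw σ))
  have hq0 : 0 < q := by rw [hq]; exact pow_pos (Fact.out : p.Prime).pos _
  haveI : Nonempty {w : Γ // w * c = c * σ w} := ⟨⟨1, by simp⟩⟩
  have hle : ((Nat.card {w : Γ // w * c = c * σ w} : ℕ) : ℚ)⁻¹ ≤ ((q : ℚ) ^ T.expo T.len)⁻¹ := by
    rw [← h2, mass, finsum_eq_sum_of_fintype]
    refine le_trans (le_of_eq ?_) (Finset.single_le_sum (fun x _ => by positivity)
      (Finset.mem_univ (Quotient.mk (orbitRel Γ (Tw σ)) (⟨c⟩ : Tw σ))))
    rw [card_stabilizer_out]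
    congr 2
    exact Nat.card_congr (Equiv.subtypeEquivRight fun g => (Tw.mem_stabilizer_iff g ⟨c⟩).symm)
  rw [inv_le_inv₀ (by exact_mod_cast Nat.card_pos) (by positivity)] at hle
  exact_mod_cast hle

/-- The fixed points when twisted conjugation is transitive. -/
theorem card_fixed_of_transitive (hσ : T.IsFrob σ q) (hq : q = p ^ s) (hs : 1 ≤ s)
    (hfix : ∀ c : Γ, Finite {w : Γ // w * c = c * σ w}) (htr : ∀ b : Γ, ∃ w : Γ, w * (σ w)⁻¹ = b) :
    Nat.card {w : Γ // σ w = w} = q ^ T.expo T.len := by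
  have hq0 : 0 < q := by rw [hq]; exact pow_pos (Fact.out : p.Prime).pos _
  obtain ⟨h1, h2⟩ := T.mass_tw p hσ hq hs hfix
  rw [mass_eq_sum_reps (fun _ : Unit => (⟨1⟩ : Tw σ)) fun d => ?_, Finset.univ_unique, Finset.sum_singleton] at h2
  · have h3 : Nat.card {w : Γ // σ w = w} = Nat.card (stabilizer Γ (⟨1⟩ : Tw σ)) :=
      Nat.card_congr (Equiv.subtypeEquivRight fun g => by
        rw [Tw.mem_stabilizer_iff, _root_.mul_one, _root_.one_mul]
        exact eq_comm)
    rw [h3]
    exact_mod_cast inv_injective h2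
  · obtain ⟨w, hw⟩ := htr d.val
    exact ⟨(), ⟨w, Tw.ext (show w * 1 * (σ w)⁻¹ = d.val by rw [_root_.mul_one, hw])⟩, fun _ _ => rfl⟩

/-- Upper bound for the fixed points. -/
theorem card_fixed_le (hσ : T.IsFrob σ q) (hq : q = p ^ s) (hs : 1 ≤ s)
    (hfin : Finite {w : Γ // σ w = w}) :
    Nat.card {w : Γ // σ w = w} ≤ T.bound T.len * q ^ T.expo T.len := by
  classical
  have hq1 : 1 < q := hq ▸ Nat.one_lt_pow (by omega) (Fact.out : p.Prime).one_lt
  let P : ℕ → Subgroup Γ := fun j => T.sub j ⊓ σ.eqLocus (MonoidHom.id Γ)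
  haveI : ∀ j, Finite (P j) := fun j => Finite.of_injective
    (fun g : P j => (⟨g.1, g.2.2⟩ : {w : Γ // σ w = w}))
    fun a b h => Subtype.ext (congrArg (fun g : {w : Γ // σ w = w} => g.1) h)
  have key : ∀ i j, i + j = T.len → Nat.card (P j) * T.bound j * q ^ T.expo j ≤ T.bound T.len * q ^ T.expo T.len := by
    intro i
    induction i with
    | zero =>
      intro j hj
      obtain rfl : j = T.len := by omega
      have h1 : Nat.card (P T.len) = 1 := by
        show Nat.card (T.sub T.len ⊓ σ.eqLocus (MonoidHom.id Γ) : Subgroup Γ) = 1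
        rw [T.sub_len, bot_inf_eq, Subgroup.card_bot]
      rw [h1, _root_.one_mul]
    | succ i ih =>
      intro j hj
      have hjlt : j < T.len := by omega
      refine le_trans ?_ (ih (j + 1) (by omega))
      let f : P j →* Multiplicative F := (T.hom j).comp (Subgroup.inclusion inf_le_left)
      have hker : Nat.card f.ker = Nat.card (P (j + 1)) := Nat.card_congr
        { toFun := fun g => ⟨g.1.1, ⟨(T.mem_succ j hjlt _).2 ⟨g.1.2.1,
            congrArg Multiplicative.toAdd (MonoidHom.mem_ker.1 g.2)⟩, g.1.2.2⟩⟩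
          invFun := fun g => ⟨⟨g.1, ⟨((T.mem_succ j hjlt _).1 g.2.1).1, g.2.2⟩⟩,
            MonoidHom.mem_ker.2 (congrArg Multiplicative.ofAdd ((T.mem_succ j hjlt _).1 g.2.1).2)⟩
          left_inv := fun _ => rfl
          right_inv := fun _ => rfl }
      have hmul : Nat.card (P j) = Nat.card f.range * Nat.card (P (j + 1)) := by
        rw [Subgroup.card_eq_card_quotient_mul_card_subgroup f.ker,
          Nat.card_congr (QuotientGroup.quotientKerEquivRange f).toEquiv, hker]
      rw [hmul, bound, expo]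
      split_ifs with hI
      · have hr : Nat.card f.range ≤ Nat.card (T.fn j '' (T.sub j : Set Γ)) := by
          haveI := hI.to_subtype
          refine Nat.card_le_card_of_injective (fun t => ⟨Multiplicative.toAdd t.1, ?_⟩) fun a b h =>
            Subtype.ext (congrArg (fun v : (T.fn j '' (T.sub j : Set Γ)) => Multiplicative.ofAdd v.1) h)
          obtain ⟨g, hg⟩ := t.2
          exact ⟨g.1, g.2.1, congrArg Multiplicative.toAdd hg⟩
        rw [Nat.add_zero]
        calc Nat.card f.range * Nat.card (P (j + 1)) * T.bound j * q ^ T.expo j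
            = Nat.card (P (j + 1)) * (T.bound j * Nat.card f.range) * q ^ T.expo j := by ring
          _ ≤ _ := Nat.mul_le_mul (Nat.mul_le_mul le_rfl (Nat.mul_le_mul le_rfl hr)) le_rfl
      · have hr : Nat.card f.range ≤ q := by
          rw [← card_fixed_pow (F := F) p hq hs]
          haveI := (finite_fixed_field (F := F) hq1).to_subtype
          refine Nat.card_le_card_of_injective (fun t => ⟨Multiplicative.toAdd t.1, ?_⟩) fun a b h =>
            Subtype.ext (congrArg (fun v : {v : F | v ^ q = v} => Multiplicative.ofAdd v.1) h)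
          obtain ⟨g, hg⟩ := t.2
          show Multiplicative.toAdd t.1 ^ q = Multiplicative.toAdd t.1
          rw [← hg]
          show T.fn j g.1 ^ q = T.fn j g.1
          rw [← hσ.fn_eq j g.1 g.2.1, show σ g.1 = g.1 from g.2.2]
        rw [_root_.mul_one, pow_succ]
        calc Nat.card f.range * Nat.card (P (j + 1)) * T.bound j * q ^ T.expo j
            ≤ q * Nat.card (P (j + 1)) * T.bound j * q ^ T.expo j := by gcongr
          _ = _ := by ring
  have h0 := key T.len 0 (Nat.add_zero _)
  rw [bound, expo, pow_zero, _root_.mul_one, _root_.mul_one] at h0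
  refine le_trans (le_of_eq (Nat.card_congr ?_)) h0
  exact (Equiv.subtypeEquivRight fun g => by
    show σ g = g ↔ g ∈ T.sub 0 ⊓ σ.eqLocus (MonoidHom.id Γ)
    rw [T.sub_zero, top_inf_eq]
    rfl)

end Frob

end AddFilt

end Groth.Agent.StkCntLib
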