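import Groth.Agent.StkCntLib.TwistMass
import Mathlib.Data.Matrix.Mul
import Mathlib.Algebra.CharP.Defs
import Mathlib.LinearAlgebra.Matrix.ToLin

/-!
The filtration of a group of unitriangular matrices by its entries.
-/

set_option autoImplicit false
set_option linter.unusedSectionVars false
set_option linter.style.haveILetI false

universe u v

noncomputable section

namespace Groth.Agent.StkCntLib.UniTri

variable {Γ : Type u} [Group Γ] {F : Type v} [Field F] {N : ℕ} (M : Γ →* Matrix (Fin N) (Fin N) F)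

/-- The place of an entry in the order of the filtration. -/
def key (a b : Fin N) : ℕ := ((b : ℕ) - a) * N + b

theorem key_lt_left {a c b : Fin N} (h1 : a < c) (h2 : c < b) : key a c < key a b := by
  have h1' : (a : ℕ) < c := h1
  have h2' : (c : ℕ) < b := h2
  have h : ((c : ℕ) - a) * N ≤ ((b : ℕ) - a) * N := Nat.mul_le_mul_right _ (by omega)
  simp only [key]
  omega

theorem key_lt_right {a c b : Fin N} (h1 : a < c) (h2 : c < b) : key c b < key a b := by
  have h1' : (a : ℕ) < c := h1
  have h2' : (c : ℕ) < b := h2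
  have h : (((b : ℕ) - c) + 1) * N ≤ ((b : ℕ) - a) * N := Nat.mul_le_mul_right _ (by omega)
  have hN := b.2
  simp only [key]
  rw [Nat.succ_mul] at h
  omega

theorem key_injective {a b a' b' : Fin N} (h1 : a < b) (h2 : a' < b') (h : key a b = key a' b') : a = a' ∧ b = b' := by
  have h1' : (a : ℕ) < b := h1
  have h2' : (a' : ℕ) < b' := h2
  have hmod : (b : ℕ) = b' := by
    have := congrArg (· % N) h
    simpa [key, Nat.mul_add_mod', Nat.mod_eq_of_lt b.2, Nat.mod_eq_of_lt b'.2] using this
  have hN : 0 < N := b.pos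
  have hd : ((b : ℕ) - a) * N = ((b' : ℕ) - a') * N := by simp only [key] at h; omega
  have := Nat.eq_of_mul_eq_mul_right hN hd
  exact ⟨Fin.ext (by omega), Fin.ext hmod⟩

/-- The matrices are upper unitriangular. -/
structure IsUniTri : Prop where
  diag : ∀ g a, M g a a = 1
  low : ∀ g a b, b < a → M g a b = 0

/-- All entries before a place vanish. -/
def Van (j : ℕ) (g : Γ) : Prop := ∀ a b : Fin N, a < b → key a b < j → M g a b = 0

variable {M}

theorem mul_apply_eq (h : IsUniTri M) {g g' : Γ} {a b : Fin N} (hab : a < b)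
    (hv : ∀ c, a < c → c < b → M g a c = 0 ∨ M g' c b = 0) : M (g * g') a b = M g a b + M g' a b := by
  classical
  rw [map_mul, Matrix.mul_apply, Finset.sum_eq_add_of_mem a b (Finset.mem_univ _) (Finset.mem_univ _) hab.ne,
    h.diag, h.diag, _root_.one_mul, _root_.mul_one, add_comm]
  intro c _ hc
  rcases lt_trichotomy c a with hca | hca | hca
  · rw [h.low _ _ _ hca, zero_mul]
  · exact absurd hca hc.1
  · rcases lt_trichotomy c b with hcb | hcb | hcb
    · rcases hv c hca hcb with h0 | h0 <;> simp [h0]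
    · exact absurd hcb hc.2
    · rw [h.low _ _ _ hcb, mul_zero]

theorem mul_apply_left (h : IsUniTri M) {j : ℕ} {g : Γ} (hg : Van M j g) (g' : Γ) {a b : Fin N} (hab : a < b)
    (hk : key a b ≤ j) : M (g * g') a b = M g a b + M g' a b :=
  mul_apply_eq h hab fun c h1 h2 => Or.inl (hg a c h1 (lt_of_lt_of_le (key_lt_left h1 h2) hk))

theorem mul_apply_right (h : IsUniTri M) {j : ℕ} (g : Γ) {g' : Γ} (hg : Van M j g') {a b : Fin N} (hab : a < b)
    (hk : key a b ≤ j) : M (g * g') a b = M g a b + M g' a b :=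
  mul_apply_eq h hab fun c h1 h2 => Or.inr (hg c b h2 (lt_of_lt_of_le (key_lt_right h1 h2) hk))

/-- The subgroup where the entries before a place vanish. -/
def sub (h : IsUniTri M) (j : ℕ) : Subgroup Γ where
  carrier := {g | Van M j g}
  one_mem' := fun a b hab _ => by rw [map_one, Matrix.one_apply_ne hab.ne]
  mul_mem' := fun {g g'} hg hg' a b hab hk => by
    rw [mul_apply_left h hg g' hab hk.le, hg a b hab hk, hg' a b hab hk, add_zero]
  inv_mem' := fun {g} hg a b hab hk => by
    have h1 := mul_apply_left h hg g⁻¹ hab hk.le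
    rw [mul_inv_cancel, map_one, Matrix.one_apply_ne hab.ne, hg a b hab hk, zero_add] at h1
    exact h1.symm

theorem conj_apply (h : IsUniTri M) {j : ℕ} (c : Γ) {w : Γ} (hw : Van M j w) :
    ∀ (n : ℕ) (a b : Fin N), a < b → key a b = n → n ≤ j → M (c * w * c⁻¹) a b = M w a b := by
  intro n
  induction n using Nat.strong_induction_on with
  | _ n ih =>
    intro a b hab hn hnj
    have hX : Van M n (c * w * c⁻¹) := fun a' b' hab' hk => by
      rw [ih _ hk a' b' hab' rfl (hk.le.trans hnj), hw a' b' hab' (lt_of_lt_of_le hk hnj)]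
    have h1 := mul_apply_left h hX c hab hn.le
    rw [inv_mul_cancel_right, mul_apply_right h c hw hab (hn ▸ hnj)] at h1
    linear_combination -h1

open Classical in
/-- The entry at a place. -/
def fn (M : Γ →* Matrix (Fin N) (Fin N) F) (j : ℕ) (g : Γ) : F :=
  if h : ∃ p : Fin N × Fin N, p.1 < p.2 ∧ key p.1 p.2 = j then M g h.choose.1 h.choose.2 else 0

theorem fn_key (g : Γ) {a b : Fin N} (hab : a < b) : fn M (key a b) g = M g a b := by
  classical
  have h : ∃ p : Fin N × Fin N, p.1 < p.2 ∧ key p.1 p.2 = key a b := ⟨(a, b), hab, rfl⟩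
  rw [fn, dif_pos h]
  obtain ⟨e1, e2⟩ := key_injective h.choose_spec.1 hab h.choose_spec.2
  rw [e1, e2]

theorem fn_none (g : Γ) {j : ℕ} (h : ¬ ∃ p : Fin N × Fin N, p.1 < p.2 ∧ key p.1 p.2 = j) : fn M j g = 0 := by
  rw [fn, dif_neg h]

/-- A subgroup whose complement in the field is finite is everything. -/
theorem eq_univ_of_cofinite [Infinite F] {S : Set F} (hadd : ∀ x ∈ S, ∀ y ∈ S, x + y ∈ S) (hc : Sᶜ.Finite) :
    S = Set.univ := by
  refine Set.eq_univ_of_forall fun x => ?_
  obtain ⟨y, hy⟩ := (hc.union (hc.image fun z => x - z)).exists_notMem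
  simp only [Set.mem_union, Set.mem_compl_iff, not_or, not_not, Set.mem_image, not_exists, not_and] at hy
  have h2 : x - y ∈ S := by
    by_contra hS
    exact hy.2 _ hS (sub_sub_self x y)
  simpa using hadd _ hy.1 _ h2

/-- The filtration by the entries. -/
def addFilt [Infinite F] (h : IsUniTri M) (hinj : Function.Injective M)
    (himg : ∀ (S : Finset (Fin N × Fin N)) (p : Fin N × Fin N),
      ((fun g => M g p.1 p.2) '' {g | ∀ r ∈ S, M g r.1 r.2 = 0}).Finite ∨
        ((fun g => M g p.1 p.2) '' {g | ∀ r ∈ S, M g r.1 r.2 = 0})ᶜ.Finite) : AddFilt Γ F where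
  sub := sub h
  fn := fn M
  len := N * N + N
  sub_zero := eq_top_iff.2 fun g _ a b _ hk => absurd hk (Nat.not_lt_zero _)
  sub_len := eq_bot_iff.2 fun g hg => by
    refine Subgroup.mem_bot.2 (hinj ?_)
    rw [map_one]
    ext a b
    rcases lt_trichotomy a b with hab | hab | hab
    · rw [Matrix.one_apply_ne hab.ne]
      refine hg a b hab ?_
      have h1 : ((b : ℕ) - a) * N ≤ N * N := Nat.mul_le_mul_right _ (by omega)
      have h2 := b.2
      simp only [key]
      omega
    · subst hab; rw [Matrix.one_apply_eq, h.diag]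
    · rw [Matrix.one_apply_ne hab.ne', h.low _ _ _ hab]
  conj_mem := fun j c w hw a b hab hk => by rw [conj_apply h c hw _ a b hab rfl hk.le]; exact hw a b hab hk
  fn_mul := fun j x hx y hy => by
    by_cases hp : ∃ p : Fin N × Fin N, p.1 < p.2 ∧ key p.1 p.2 = j
    · obtain ⟨⟨a, b⟩, hab, rfl⟩ := hp
      rw [fn_key _ hab, fn_key _ hab, fn_key _ hab]
      exact mul_apply_left h hx y hab le_rfl
    · rw [fn_none _ hp, fn_none _ hp, fn_none _ hp, add_zero]
  mem_succ := fun j _ x => by
    constructor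
    · intro hx
      refine ⟨fun a b hab hk => hx a b hab (Nat.lt_succ_of_lt hk), ?_⟩
      by_cases hp : ∃ p : Fin N × Fin N, p.1 < p.2 ∧ key p.1 p.2 = j
      · obtain ⟨⟨a, b⟩, hab, rfl⟩ := hp
        rw [fn_key _ hab]
        exact hx a b hab (Nat.lt_succ_self _)
      · exact fn_none _ hp
    · rintro ⟨hx, h0⟩ a b hab hk
      rcases Nat.lt_succ_iff_lt_or_eq.1 hk with hk' | hk'
      · exact hx a b hab hk'
      · rw [← fn_key x hab, hk']; exact h0
  fn_conj := fun j c w hw => by
    by_cases hp : ∃ p : Fin N × Fin N, p.1 < p.2 ∧ key p.1 p.2 = j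
    · obtain ⟨⟨a, b⟩, hab, rfl⟩ := hp
      rw [fn_key _ hab, fn_key _ hab]
      exact conj_apply h c hw _ a b hab rfl le_rfl
    · rw [fn_none _ hp, fn_none _ hp]
  image_cases := fun j _ => by
    classical
    by_cases hp : ∃ p : Fin N × Fin N, p.1 < p.2 ∧ key p.1 p.2 = j
    · obtain ⟨⟨a, b⟩, hab, rfl⟩ := hp
      let S : Finset (Fin N × Fin N) := Finset.univ.filter fun r => r.1 < r.2 ∧ key r.1 r.2 < key a b
      have he : fn M (key a b) '' (sub h (key a b) : Set Γ) =
          (fun g => M g a b) '' {g | ∀ r ∈ S, M g r.1 r.2 = 0} := by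
        have hs : (sub h (key a b) : Set Γ) = {g | ∀ r ∈ S, M g r.1 r.2 = 0} := by
          ext g
          exact ⟨fun hg r hr => hg r.1 r.2 (Finset.mem_filter.1 hr).2.1 (Finset.mem_filter.1 hr).2.2,
            fun hg a' b' h1 h2 => hg (a', b') (Finset.mem_filter.2 ⟨Finset.mem_univ _, h1, h2⟩)⟩
        rw [hs]
        exact Set.image_congr fun g _ => fn_key g hab
      rcases himg S (a, b) with h1 | h1
      · exact Or.inl (he ▸ h1)
      · refine Or.inr (eq_univ_of_cofinite ?_ (he ▸ h1))
        rintro _ ⟨g, hg, rfl⟩ _ ⟨g', hg', rfl⟩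
        refine ⟨g * g', (sub h _).mul_mem hg hg', ?_⟩
        rw [fn_key _ hab, fn_key _ hab, fn_key _ hab]
        exact mul_apply_left h hg g' hab le_rfl
    · refine Or.inl ((Set.finite_singleton (0 : F)).subset ?_)
      rintro _ ⟨g, -, rfl⟩
      exact fn_none g hp

/-- An automorphism raising the entries to a power is a Frobenius of the filtration. -/
theorem addFilt_isFrob [Infinite F] (h : IsUniTri M) (hinj : Function.Injective M)
    (himg : ∀ (S : Finset (Fin N × Fin N)) (p : Fin N × Fin N),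
      ((fun g => M g p.1 p.2) '' {g | ∀ r ∈ S, M g r.1 r.2 = 0}).Finite ∨
        ((fun g => M g p.1 p.2) '' {g | ∀ r ∈ S, M g r.1 r.2 = 0})ᶜ.Finite)
    {σ : Γ →* Γ} {q : ℕ} (hq : q ≠ 0) (hσ : ∀ g a b, M (σ g) a b = M g a b ^ q) :
    (addFilt h hinj himg).IsFrob σ q where
  mem := fun j x hx a b hab hk => by rw [hσ, hx a b hab hk, zero_pow hq]
  fn_eq := fun j x _ => by
    show fn M j (σ x) = fn M j x ^ q
    by_cases hp : ∃ p : Fin N × Fin N, p.1 < p.2 ∧ key p.1 p.2 = j
    · obtain ⟨⟨a, b⟩, hab, rfl⟩ := hp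
      rw [fn_key _ hab, fn_key _ hab, hσ]
    · rw [fn_none _ hp, fn_none _ hp, zero_pow hq]

end Groth.Agent.StkCntLib.UniTri
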