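import Groth.Agent.StkCntLib.UnipMass
import Groth.Agent.StkCntLib.FrobFix

/-!
The fixed points of a Frobenius of a connected unipotent group.
-/

set_option autoImplicit false
set_option backward.isDefEq.respectTransparency false
set_option backward.isDefEq.respectTransparency.types false
set_option linter.style.haveILetI false
set_option linter.unusedSectionVars false

universe u

open CategoryTheory MonoidalCategory CartesianMonoidalCategory MonObj AlgebraicGeometry

noncomputable section

namespace Groth.Agent.StkCntLib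

open GrpSchLib GrpSchLib.Kunneth GrpSchLib.LineGroups WeilCmp.Unip SolvGrp GeomFn

variable {k : Type u} [Field k] [Finite k] {K : Type u} [Field K] [Algebra k K] [IsAlgClosure k K] [IsAlgClosed K]
  [IsGalois k K]

variable {U : Over (Spec (CommRingCat.of k))} [GrpObj U] [IsAffine U.left] [Smooth U.hom] [ConnectedSpace U.left]

/-- Powers of the Frobenius have finitely many fixed points for every twist. -/
theorem finite_pow_twisted {π : K ≃ₐ[k] K} (hπ : ∀ x : K, π x = x ^ Nat.card k) {n : ℕ} (hn : 0 < n)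
    (c : SGA7.Pts K U) : {w : SGA7.Pts K U | w * c = c * π ^ n • w}.Finite := by
  haveI : IsAffineHom U.hom := isAffineHom_of_isAffine U.hom
  obtain ⟨m, hm, h1, -⟩ := exists_period (π ^ n) c
  refine (finite_fixed_pow (X := U) hπ (Nat.mul_pos hn hm)).subset fun w hw => ?_
  have h2 := conj_fixed_iterate (π ^ n) c w hw m
  rw [h1, _root_.mul_one, _root_.one_mul, ← pow_mul] at h2
  exact h2.symm

set_option maxHeartbeats 1000000 in
set_option synthInstance.maxHeartbeats 200000 in
/-- A Frobenius of a connected unipotent group fixes `q ^ dim` points. -/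
theorem card_fixed_unip {π : K ≃ₐ[k] K} (hπ : ∀ x : K, π x = x ^ Nat.card k)
    (hu : Red.HasNoSubtorus K (GalTw.bcK K U)) (d : ℕ) (hd : topologicalKrullDim ↥U.left = (d : WithBot ℕ∞))
    (σ : SGA7.Pts K U →* SGA7.Pts K U) (hper : ∃ l : ℕ, 0 < l ∧ ∀ x, σ^[l] x = π ^ l • x)
    (hreg : ∀ f : Γ(U.left, ⊤), ∃ g : Fn (GalTw.bcK K U), ∀ x, val (σ x) g = val0 U x f ^ Nat.card k)
    (hfix : ∀ c : SGA7.Pts K U, Finite {w : SGA7.Pts K U // w * c = c * σ w})
    (htr : ∀ b : SGA7.Pts K U, ∃ w, w * (σ w)⁻¹ = b) :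
    Nat.card {w : SGA7.Pts K U // σ w = w} = Nat.card k ^ d := by
  haveI : IsAffineHom U.hom := isAffineHom_of_isAffine U.hom
  haveI := isAffine_bcK (K := K) (U := U)
  haveI := smooth_bcK (K := K) (U := U)
  haveI := connectedSpace_bcK (K := K) (U := U)
  let e : SGA7.Pts K U ≃* (𝟙_ (Over (Spec (CommRingCat.of K))) ⟶ GalTw.bcK K U) :=
    MulEquiv.mk (secEquiv (k := k) (K := K) (X := U)) fun a b => by
      show secEquiv (a * b) = secEquiv a * secEquiv b
      rw [secEquiv_apply, secEquiv_apply, secEquiv_apply, secOfPt_mul]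
  let τ := (e.toMonoidHom.comp σ).comp e.symm.toMonoidHom
  have hτ : ∀ x, τ (e x) = e (σ x) := fun x => by
    show e (σ (e.symm (e x))) = _
    rw [e.symm_apply_apply]
  have hτn : ∀ (n : ℕ) x, τ^[n] (e x) = e (σ^[n] x) := fun n x => by
    induction n with
    | zero => rfl
    | succ n ih => rw [Function.iterate_succ_apply', ih, hτ, Function.iterate_succ_apply']
  have hev : ∀ (x : SGA7.Pts K U) (f : Fn (GalTw.bcK K U)), vl (e x) f = val x f := fun x f => by
    show vl (secEquiv x) f = _
    rw [secEquiv_apply]; rfl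
  obtain ⟨l, hl, hσl⟩ := hper
  have hσbij : Function.Bijective σ := by
    have h : Function.Bijective (σ^[l]) := by
      rw [show σ^[l] = fun x => π ^ l • x from funext hσl]
      exact MulAction.bijective _
    obtain ⟨l', rfl⟩ : ∃ l', l = l' + 1 := ⟨l - 1, by omega⟩
    exact ⟨fun a b hab => h.1 (by rw [Function.iterate_succ_apply, Function.iterate_succ_apply, hab]),
      fun y => let ⟨x, hx⟩ := h.2 y; ⟨σ^[l'] x, (Function.iterate_succ_apply' (⇑σ) l' x).symm.trans hx⟩⟩
  have hσlm : ∀ (m : ℕ) x, σ^[l * m] x = π ^ (l * m) • x := fun m => by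
    induction m with
    | zero => intro x; simp
    | succ m ih => intro x; rw [Nat.mul_succ, Nat.add_comm, Function.iterate_add_apply, ih, hσl, pow_add, mul_smul]
  obtain ⟨p, hpchar⟩ := CharP.exists k
  haveI := hpchar
  haveI := Fintype.ofFinite k
  obtain ⟨s, hp, hqs⟩ := FiniteField.card k p
  haveI : Fact p.Prime := ⟨hp⟩
  haveI : CharP K p := charP_of_injective_algebraMap (algebraMap k K).injective p
  have hqp : Nat.card k = p ^ (s : ℕ) := by rw [Nat.card_eq_fintype_card]; exact hqs
  have hgen : ∀ (P : Fn (GalTw.bcK K U) → Prop), (∀ f, P (base U f)) → (∀ c, P (algebraMap K _ c)) →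
      (∀ a b, P a → P b → P (a + b)) → (∀ a b, P a → P b → P (a * b)) → ∀ g, P g := by
    intro P h1 h2 h3 h4 g
    have hg : g ∈ Algebra.adjoin K (Set.range (base (K := K) U)) := by rw [adjoin_base]; exact Algebra.mem_top
    induction hg using Algebra.adjoin_induction with
    | mem x hx => obtain ⟨f, rfl⟩ := hx; exact h1 f
    | algebraMap c => exact h2 c
    | add x y _ _ hx hy => exact h3 x y hx hy
    | mul x y _ _ hx hy => exact h4 x y hx hy
  have hper' : ∀ f, ∃ m, 0 < m ∧ ∀ x, val (σ^[l * m] x) f = val x f ^ (Nat.card k ^ (l * m)) := by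
    have hmul : ∀ f m j, (∀ x, val (σ^[l * m] x) f = val x f ^ (Nat.card k ^ (l * m))) →
        ∀ x, val (σ^[l * (m * j)] x) f = val x f ^ (Nat.card k ^ (l * (m * j))) := fun f m j h => by
      induction j with
      | zero => intro x; simp
      | succ j ih =>
        intro x
        rw [Nat.mul_succ, Nat.mul_add, Nat.add_comm, Function.iterate_add_apply, h, ih, ← pow_mul, ← pow_add,
          Nat.add_comm]
    refine hgen _ (fun f => ⟨1, Nat.one_pos, fun x => ?_⟩) (fun c => ?_) ?_ ?_
    · rw [hσlm, val_base, val_base, val0_smul, frobenius_pow hπ]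
    · obtain ⟨m, hm, hc⟩ := exists_pow_eq_self (k := k) c
      refine ⟨m, hm, fun x => ?_⟩
      rw [AlgHom.commutes, AlgHom.commutes]
      show c = c ^ (Nat.card k ^ (l * m))
      rw [Nat.mul_comm, pow_mul]
      clear hmul hσl hl hσlm x
      induction l with
      | zero => simp
      | succ i ih => rw [pow_succ, pow_mul, ← ih, hc]
    · rintro a b ⟨m, hm, ha⟩ ⟨m', hm', hb⟩
      refine ⟨m * m', Nat.mul_pos hm hm', fun x => ?_⟩
      rw [map_add, map_add, hmul a m m' ha, Nat.mul_comm m, hmul b m' m hb, hqp, ← pow_mul, add_pow_char_pow]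
    · rintro a b ⟨m, hm, ha⟩ ⟨m', hm', hb⟩
      refine ⟨m * m', Nat.mul_pos hm hm', fun x => ?_⟩
      rw [map_mul, map_mul, hmul a m m' ha, Nat.mul_comm m, hmul b m' m hb, mul_pow]
  have hfixn : ∀ n, 0 < n → ∀ c, Finite {w : 𝟙_ (Over (Spec (CommRingCat.of K))) ⟶ GalTw.bcK K U //
      w * c = c * τ^[n] w} := fun n hn c => by
    -- twisted fixed points of an iterate are fixed by a twist of a power of the Frobenius
    obtain ⟨c, rfl⟩ := e.surjective c
    let P : ℕ → SGA7.Pts K U := fun m => Nat.rec 1 (fun _ y => c * σ^[n] y) m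
    have hPσ : ∀ w, w * c = c * σ^[n] w → ∀ m, w * P m = P m * σ^[n * m] w := fun w hw m => by
      induction m with
      | zero => simp [P]
      | succ m ih =>
        show w * (c * σ^[n] (P m)) = c * σ^[n] (P m) * _
        rw [← _root_.mul_assoc, hw, _root_.mul_assoc, _root_.mul_assoc, Nat.mul_succ, Nat.add_comm,
          Function.iterate_add_apply, ← iterHom_apply σ n, ← iterHom_apply σ n, ← iterHom_apply σ n, ← map_mul,
          ← map_mul, ih]
    haveI := (finite_pow_twisted hπ (Nat.mul_pos hn hl) (P l)).to_subtype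
    have hfin : Finite {w : SGA7.Pts K U // w * c = c * σ^[n] w} :=
      Finite.of_injective (fun w => (⟨w.1, by
        have := hPσ w.1 w.2 l
        rwa [Nat.mul_comm n l, hσlm, Nat.mul_comm l n] at this⟩ :
          {w : SGA7.Pts K U | w * P l = P l * π ^ (n * l) • w})) fun a b h => Subtype.ext (congrArg
            (fun v : {w : SGA7.Pts K U | w * P l = P l * π ^ (n * l) • w} => v.1) h)
    exact Finite.of_equiv _ (e.toEquiv.subtypeEquiv fun w => by
      show w * c = c * σ^[n] w ↔ e w * e c = e c * τ^[n] (e w)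
      rw [hτn, ← map_mul, ← map_mul, e.injective.eq_iff])
  obtain ⟨-, hmass⟩ := mass_unip hu d ((dim_bcK (K := K) (U := U)).trans hd) τ
    ((e.bijective.comp hσbij).comp e.symm.bijective) (fun f => by
      revert f
      refine hgen _ (fun f => ?_) (fun c => ⟨algebraMap K _ (c ^ Nat.card k), fun x => ?_⟩) ?_ ?_
      · obtain ⟨g, hg⟩ := hreg f
        refine ⟨g, fun x => ?_⟩
        obtain ⟨x, rfl⟩ := e.surjective x
        rw [hτ, hev, hev, hg, val_base]
      · rw [AlgHom.commutes, AlgHom.commutes]; rfl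
      · rintro a b ⟨a', ha⟩ ⟨b', hb⟩
        exact ⟨a' + b', fun x => by rw [map_add, map_add, ha, hb, hqp, add_pow_char_pow]⟩
      · rintro a b ⟨a', ha⟩ ⟨b', hb⟩
        exact ⟨a' * b', fun x => by rw [map_mul, map_mul, ha, hb, mul_pow]⟩)
    (fun f => by
      obtain ⟨m, hm, h⟩ := hper' f
      refine ⟨l * m, Nat.mul_pos hl hm, fun x => ?_⟩
      obtain ⟨x, rfl⟩ := e.surjective x
      rw [hτn, hev, hev, h]) hfixn
  rw [mass_eq_sum_reps (fun _ : Unit => (⟨1⟩ : AddFilt.Tw τ)) fun z => ?_, Finset.univ_unique,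
    Finset.sum_singleton] at hmass
  · have h3 : Nat.card {w : SGA7.Pts K U // σ w = w} =
        Nat.card (MulAction.stabilizer _ (⟨1⟩ : AddFilt.Tw τ)) :=
      Nat.card_congr (e.toEquiv.subtypeEquiv fun g => by
        show σ g = g ↔ e g ∈ MulAction.stabilizer _ (⟨1⟩ : AddFilt.Tw τ)
        rw [AddFilt.Tw.mem_stabilizer_iff, _root_.mul_one, _root_.one_mul, hτ, e.injective.eq_iff, eq_comm])
    rw [h3]
    exact_mod_cast inv_injective hmass
  · obtain ⟨w, hw⟩ := htr (e.symm z.val)
    refine ⟨(), ⟨e w, AddFilt.Tw.ext ?_⟩, fun _ _ => rfl⟩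
    show e w * 1 * (τ (e w))⁻¹ = z.val
    rw [_root_.mul_one, hτ, ← map_inv, ← map_mul, hw, e.apply_symm_apply]

end Groth.Agent.StkCntLib
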